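import Cfsg.Agent.Sig.MS1

/-! Maximal Sylow intersections `D` over `Z(S)` when `S` is a maximal Sylow 2-subgroup of order `≤ 128`:
`MI.one_invol` (`Z(S)` has one involution), `MI.na1`, `MI.ab`, `MI.no_four` (no normal four-group of `S` is
moved by `D`), and `MS.no_four`: `S` has no normal four-subgroup. -/

set_option linter.dupNamespace false
set_option linter.unusedSectionVars false
set_option linter.unusedVariables false

namespace Cfsg.Agent.Sig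
open Subgroup Cfsg.Agent.BG Cfsg.Agent.Invol

variable {G : Type*} [Group G] [Finite G] {A B D M N S U V : Subgroup G} {a b c e g h u w x y z : G}

theorem abel_of_half (hc : #D ≤ 2 * #Z[D]) : IsMulCommutative D := by
  rcases (inf_le_left : Z[D] ≤ D).eq_or_lt with e | e
  · exact abelian_iff.2 (e.ge.trans inf_le_right)
  have hi := relIndex_two_of e hc
  refine abelian_iff.2 fun x hx y hy => ?_
  by_cases h1 : x ∈ Z[D]
  · exact h1.2 y hy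
  by_cases h2 : y ∈ Z[D]
  · exact (h2.2 x hx).symm
  have := ((mul_mem_iff2 hi hx hy).2 (iff_of_false h1 h2)).2 x hx
  rw [mul_assoc] at this
  exact (mul_left_cancel this).symm

omit [Finite G] in
theorem lt_sup_zp (hx : x ∉ A) : A < A ⊔ zpowers x :=
  le_sup_left.lt_of_ne fun e => hx (e ▸ mem_sup_right (mem_zpowers x))

omit [Finite G] in
theorem comm_of_TI (hA : A ≤ N[B]) (hB : B ≤ N[A]) (h : A ⊓ B = ⊥) (hx : x ∈ A) (hy : y ∈ B) :
    x * y = y * x := by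
  have h1 : x * (y * x⁻¹ * y⁻¹) ∈ A := mul_mem hx (conj_mem_of_norm (hB hy) (inv_mem hx))
  have h2 : x * (y * x⁻¹ * y⁻¹) ∈ B := by
    have := mul_mem (conj_mem_of_norm (hA hx) hy) (inv_mem hy)
    rwa [mul_assoc, mul_assoc, ← mul_assoc y] at this
  have h3 := mem_bot.1 (h.le ⟨h1, h2⟩)
  calc x * y = x * (y * x⁻¹ * y⁻¹) * (y * x) := by group
    _ = y * x := by rw [h3, one_mul]

omit [Finite G] in
theorem norm_inf_cj (hA : A ≤ N[B]) (hr : g ∈ N[A]) (h2 : g * g ∈ A) :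
    A ≤ N[cj g B] ∧ g ∈ N[B ⊓ cj g B] := by
  refine ⟨?_, mem_norm.2 ?_⟩
  · rw [N_cj, ← cj_of_norm hr]; exact cj_mono g hA
  · rw [cj_inf, ← cj_mul, cj_of_norm (hA h2), inf_comm]

theorem le_of_half (hi : A.relIndex S = 2) (hA : A ≤ N) (hg : g ∈ S) (hg' : g ∉ A) (h : g ∈ N) : S ≤ N :=
  fun s hs => by
    by_cases e : s ∈ A
    · exact hA e
    · simpa using mul_mem (inv_mem h) (hA ((mul_mem_iff2 hi hg hs).2 (iff_of_false hg' e)))

namespace MI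

theorem ex_u (H : MI S D) : ∃ u ∈ S, u ∈ N[S ⊓ N[D]] ∧ u ∉ N[D] := by
  obtain ⟨u, h1, h2⟩ := SetLike.exists_of_lt (nilpotent_proper_norm (pgroup_nil H.ms.pg) H.T_lt)
  exact ⟨u, h1.1, h1.2, fun e => h2 ⟨h1.1, e⟩⟩

theorem cards (H : MI S D) : 2 * #D ≤ #(S ⊓ N[D]) ∧ 2 * #(S ⊓ N[D]) ≤ #S :=
  ⟨two_mul_card_le (H.ms.pg.to_le inf_le_left) H.lt_T, two_mul_card_le H.ms.pg H.T_lt⟩

theorem cz' (H : MI S D) (hn : h ∈ N[D]) (hS : h ∉ S) (hz : z ∈ Z[S]) (h1 : z ≠ 1) (hu : u ∈ S) :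
    S ⊓ C1[u * (h * z * h⁻¹) * u⁻¹] = cj u D := by
  rw [C1_conj, ← H.cz hn hS hz h1, cj_inf, cj_of_mem hu]

theorem zD (H : MI S D) (hn : h ∈ N[D]) (hS : h ∉ S) (hz : z ∈ Z[S]) (h1 : z ≠ 1) :
    h * z * h⁻¹ ∈ Z[D] ∧ h * z * h⁻¹ ∉ Z[S] :=
  ⟨⟨conj_mem_of_norm hn (H.cen hz), le_cent1_iff.1 ((H.cz hn hS hz h1).ge.trans inf_le_right)⟩, fun e =>
    H.lt_S.not_ge (H.cz hn hS hz h1 ▸ le_inf le_rfl (le_cent1_iff.2 e.2))⟩

theorem b0 (H : MI S D) (hD : IsMulCommutative D) (hn : h ∈ N[D]) (hS : h ∉ S) (hz : z ∈ Z[S]) (h1 : z ≠ 1)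
    (hu : u ∈ S) (hu' : u ∉ N[D]) : u * (h * z * h⁻¹) * u⁻¹ ∉ D := fun e => by
  have : D ≤ cj u D := H.cz' hn hS hz h1 hu ▸ le_inf H.le (le_cent1_iff.2 (abelian_iff.1 hD e))
  exact hu' (mem_norm.2 (eq_of_card_le this (card_cj u D).le).symm)

theorem one_invol (H : MI S D) (hc : #S ≤ 128) (hz : z ∈ Z[S]) (z2 : orderOf z = 2) (hy : y ∈ Z[S])
    (y2 : orderOf y = 2) : y = z := by
  by_contra hne
  obtain ⟨h, hn, hS⟩ := H.ex_h
  obtain ⟨u, hu, hT, hu'⟩ := H.ex_u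
  have pz : IsPGroup 2 Z[S] := H.ms.pg.to_le inf_le_left
  have c1 : 4 ≤ #Z[S] := by
    have := two_mul_card_le pz ((zpowers_le.2 hz).lt_of_ne fun e => by
      rcases (mem_zp2 (by rw [pow_two, mul_self_of z2])).1 (e ▸ hy : y ∈ zpowers z) with e | e
      exacts [ne_one_of y2 e, hne e])
    rw [Nat.card_zpowers, z2] at this; omega
  have l1 : Z[S] ≤ Z[D] := le_inf H.cen (inf_le_right.trans (centS H.le))
  have l2 : cj h Z[S] ≤ Z[D] := cj_le_of_norm (norms_center (le_refl N[D]) hn) l1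
  have c2 := card_sup_TI (A := Z[S]) (B := cj h Z[S])
    (.inl ((sub_abelian_cent2 (center_abelian D) l1 l2).trans (cent_sub _))) (eq_bot_iff.2 fun x hx => by
      obtain ⟨a, ha, rfl⟩ := mem_cj'.1 hx.2
      by_contra e
      exact (H.zD hn hS ha (by rintro rfl; simp at e)).2 hx.1)
  have c3 := card_le_card (sup_le l1 l2)
  rw [c2, card_cj] at c3
  have hD : IsMulCommutative D := abel_of_half (by nlinarith [H.cards.1, H.cards.2])
  have inT : ∀ x ∈ Z[S], orderOf x = 2 → u * (h * x * h⁻¹) * u⁻¹ ∈ S ⊓ N[D] ∧ u * (h * x * h⁻¹) * u⁻¹ ∉ D ∧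
      u * (h * x * h⁻¹) * u⁻¹ * (u * (h * x * h⁻¹) * u⁻¹) ∈ D := fun x hx x2 =>
    ⟨conj_mem_of_norm hT (H.lt_T.le (H.zD hn hS hx (ne_one_of x2)).1.1), H.b0 hD hn hS hx (ne_one_of x2) hu hu', by
      rw [mul_self_of (by rw [Invol.orderOf_conj', Invol.orderOf_conj', x2])]; exact one_mem _⟩
  obtain ⟨a1, a2, a3⟩ := inT z hz z2
  obtain ⟨b1, b2, b3⟩ := inT y hy y2
  refine H.b0 hD hn hS (mul_mem (inv_mem hz) hy) (fun e => hne (inv_mul_eq_one.1 e).symm) hu hu' ?_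
  convert H.uniq a1 a2 a3 b1 b2 b3 using 1
  group

theorem w_norm (H : MI S D) (hz : z ∈ D) (ha : ∀ d ∈ D, w * d * w⁻¹ = d ∨ w * d * w⁻¹ = z * d) : w ∈ N[D] :=
  mem_norm_of_cj_le fun x hx => by
    obtain ⟨d, hd, rfl⟩ := mem_cj'.1 hx
    rcases ha d hd with e | e <;> rw [e]
    exacts [hd, mul_mem hz hd]

theorem na1 (H : MI S D) (hc : #S ≤ 128) (hz : z ∈ Z[S]) (z2 : orderOf z = 2) (hw : w ∈ S) (hwD : w ∉ D)
    (ha : ∀ d ∈ D, w * d * w⁻¹ = d ∨ w * d * w⁻¹ = z * d) : IsMulCommutative D := by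
  obtain ⟨h, hn, hS⟩ := H.ex_h
  have z1 := ne_one_of z2
  have zz := mul_self_of z2
  have zD : z ∈ Z[D] := ⟨H.cen hz, centS H.le hz.2⟩
  have hwN := H.w_norm zD.1 ha
  obtain ⟨z'D, -⟩ := H.zD hn hS hz z1
  have cz' := H.cz hn hS hz z1
  have ha' : ∀ d ∈ D, (h * w * h⁻¹) * d * (h * w * h⁻¹)⁻¹ = d ∨
      (h * w * h⁻¹) * d * (h * w * h⁻¹)⁻¹ = (h * z * h⁻¹) * d := fun d hd => by
    have e0 : (h * w * h⁻¹) * d * (h * w * h⁻¹)⁻¹ = h * (w * (h⁻¹ * d * h) * w⁻¹) * h⁻¹ := by group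
    rcases ha _ (conj_mem_of_norm' hn hd) with e | e <;> rw [e0, e]
    · left; group
    · right; group
  have m2 : (h * w * h⁻¹) * z * (h * w * h⁻¹)⁻¹ = (h * z * h⁻¹) * z := (ha' z zD.1).resolve_left fun e => by
    refine hwD (H.cz (inv_mem hn) (fun e => hS (inv_mem_iff.1 e)) hz z1 ▸ ⟨hw, mem_cent1.2 ?_⟩)
    calc _ = h⁻¹ * ((h * w * h⁻¹) * z * (h * w * h⁻¹)⁻¹) * h * w := by group
      _ = _ := by rw [e]; group
  have f1 : w * z * w⁻¹ = z := by rw [hz.2 w hw]; group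
  have f2 : (h * w * h⁻¹) * (h * z * h⁻¹) * (h * w * h⁻¹)⁻¹ = h * z * h⁻¹ := by
    calc _ = h * (w * z * w⁻¹) * h⁻¹ := by group
      _ = _ := by rw [f1]
  have zz' : (h * z * h⁻¹) * (h * z * h⁻¹) = 1 := mul_self_of (by rw [Invol.orderOf_conj', z2])
  have z'1 : h * z * h⁻¹ ≠ 1 := ne_one_of (by rw [Invol.orderOf_conj', z2])
  generalize h * w * h⁻¹ = w' at *
  generalize h * z * h⁻¹ = z' at *
  have m1 : w * z' * w⁻¹ = z * z' := (ha z' z'D.1).resolve_left fun e =>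
    hwD (cz' ▸ ⟨hw, mem_cent1.2 (mul_inv_eq_iff_eq_mul.1 e)⟩)
  have c0 : z * z' = z' * z := z'D.2 z zD.1
  have mk : ∀ {a x : G}, a * x * a⁻¹ = x → x ∈ C1[a] := fun e => mem_cent1.2 (mul_inv_eq_iff_eq_mul.1 e).symm
  have sp : ∀ a x y : G, a * (x * y) * a⁻¹ = (a * x * a⁻¹) * (a * y * a⁻¹) := fun a x y => by group
  have dec : ∀ d ∈ D, ∃ v ∈ Z[D], v * d ∈ D ⊓ C1[w] ⊓ C1[w'] := fun d hd => by
    rcases ha d hd with e | e <;> rcases ha' d hd with e' | e'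
    · exact ⟨1, one_mem _, by rw [one_mul]; exact ⟨⟨hd, mk e⟩, mk e'⟩⟩
    · refine ⟨z, zD, ⟨mul_mem zD.1 hd, mk ?_⟩, mk ?_⟩ <;> rw [sp]
      · rw [f1, e]
      · rw [m2, e', ← c0, mul_assoc, mul_self_cancel zz']
    · refine ⟨z', z'D, ⟨mul_mem z'D.1 hd, mk ?_⟩, mk ?_⟩ <;> rw [sp]
      · rw [m1, e, c0, mul_assoc, mul_self_cancel zz]
      · rw [f2, e']
    · refine ⟨z * z', mul_mem zD z'D, ⟨mul_mem (mul_mem zD.1 z'D.1) hd, mk ?_⟩, mk ?_⟩ <;> rw [sp, sp]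
      · rw [f1, m1, e, mul_self_cancel zz, ← mul_assoc, c0]
      · rw [m2, f2, e', ← c0, mul_self_cancel' zz', mul_assoc]
  set F := D ⊓ C1[w] ⊓ C1[w'] with hF
  have FD : F ≤ D := inf_le_left.trans inf_le_left
  have zF : z ∉ F := fun e => z'1 (by
    have := mem_cent1.1 e.2
    rw [← this, mul_inv_cancel_right] at m2
    simpa using m2.symm)
  have cD : ∀ g ∈ D, (∀ f ∈ F, g * f = f * g) → ∀ d ∈ D, g * d = d * g := fun g hg h1 d hd => by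
    obtain ⟨v, hv, h2⟩ := dec d hd
    have := h1 _ h2
    rw [← mul_assoc, hv.2 g hg, mul_assoc, mul_assoc] at this
    exact mul_left_cancel this
  by_contra hD
  have nF : ¬ IsMulCommutative F := fun e => hD (abelian_iff.2 fun x hx y hy =>
    cD y hy (fun f hf => (cD f (FD hf) (fun f' hf' => e.comm hf hf') y hy).symm) x hx)
  have pD : IsPGroup 2 D := H.ms.pg.to_le H.le
  have c1 : 8 ≤ #F := by
    obtain ⟨n, hn⟩ := (pD.to_le FD).exists_card_eq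
    by_contra! e
    refine nF (p2group_abelian (p := 2) (hn ▸ pow_dvd_pow 2 ?_))
    by_contra! e'
    exact absurd (hn ▸ Nat.pow_le_pow_right two_pos e' : 2 ^ 3 ≤ #F) (by omega)
  have l1 : F ⊔ zpowers z ≤ D ⊓ C1[w] := sup_le inf_le_left (zpowers_le.2 ⟨zD.1, mk f1⟩)
  have c2 := two_mul_card_le (pD.to_le (l1.trans inf_le_left)) (lt_sup_zp zF)
  have c3 := two_mul_card_le pD ((l1.trans inf_le_left).lt_of_ne fun e => z1 (by
    have := mem_cent1.1 (l1 (e ▸ z'D.1)).2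
    rw [← this, mul_inv_cancel_right] at m1
    simpa using m1.symm))
  obtain ⟨c4, c5⟩ := H.cards
  have i1 := relIndex_two_of H.lt_T (by omega)
  have i2 := relIndex_two_of H.T_lt (by omega)
  have hT := (p_index_normal H.ms.pg inf_le_left i2.dvd).2
  have TF : S ⊓ N[D] ≤ N[F] := le_of_half i1 (fun d hd => by
    obtain ⟨v, hv, h2⟩ := dec d hd
    simpa using mul_mem (inv_mem (cent_sub _ (centS FD hv.2))) (normG F h2)) ⟨hw, hwN⟩ hwD
      (cent_sub _ (le_cent1_iff.1 (inf_le_left.trans inf_le_right)))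
  obtain ⟨r, hr, hr'⟩ := SetLike.exists_of_lt H.T_lt
  obtain ⟨n1, n2⟩ := norm_inf_cj TF (hT hr) ((mul_mem_iff2 i2 hr hr).2 Iff.rfl)
  have FT : F ≤ S ⊓ N[D] := FD.trans H.lt_T.le
  have F'T : cj r F ≤ S ⊓ N[D] := cj_le_of_norm (hT hr) FT
  have ti : F ⊓ cj r F = ⊥ := by
    by_contra e
    obtain ⟨y, hy, y2⟩ := exists_invol_mem_of_isPGroup (H.ms.pg.to_le (inf_le_right.trans inf_le_left))
      (meet_center_nil (pgroup_nil H.ms.pg) ⟨inf_le_left.trans (FT.trans inf_le_left),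
        le_of_half i2 (normsI TF n1) hr hr' n2⟩ e)
    exact zF (H.one_invol hc hz z2 hy.2 y2 ▸ hy.1.1)
  have F'D : cj r F ≤ D := fun g hg => by
    by_contra e
    have h1 := z'D.2 _ ((mul_mem_iff2 i1 (inv_mem ⟨hw, hwN⟩) (F'T hg)).2 (iff_of_false (by simpa using hwD) e))
    have h2 : g * (z' * g⁻¹ * z'⁻¹) = z := by
      calc _ = w * (w⁻¹ * g * z') * g⁻¹ * z'⁻¹ := by group
        _ = (w * z' * w⁻¹) * z'⁻¹ := by rw [h1]; group
        _ = z := by rw [m1]; group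
    have h3 := mul_mem hg (conj_mem_of_norm (n1 (H.lt_T.le z'D.1)) (inv_mem hg))
    rw [h2, mem_cj, mul_assoc, ← hz.2 r hr, inv_mul_cancel_left] at h3
    exact zF h3
  refine nF (cj_inv_cj r F ▸ abelian_cj r⁻¹ (abelian_iff.2 fun x hx y hy => cD y (F'D hy) (fun f hf => ?_) x (F'D hx)))
  exact (comm_of_TI (FT.trans n1) (F'T.trans TF) ti hf hy).symm

omit [Finite G] in
theorem flip (hz : z * x = x * z) (h : x⁻¹ * w * x⁻¹⁻¹ = w ∨ x⁻¹ * w * x⁻¹⁻¹ = z * w) :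
    w * x * w⁻¹ = x ∨ w * x * w⁻¹ = z * x := by
  have e0 : w * x * w⁻¹ = x * (x⁻¹ * w * x⁻¹⁻¹) * w⁻¹ := by group
  rcases h with e | e <;> rw [e0, e]
  · left; group
  · right; rw [hz]; group

omit [Finite G] in
theorem cm (hx : y * x * y⁻¹ = x ∨ y * x * y⁻¹ = a * x) (hy : x * y * x⁻¹ = y ∨ x * y * x⁻¹ = b * y)
    (h : b * a ≠ 1) : x * y = y * x := by
  rcases hx with e | e
  · exact (mul_inv_eq_iff_eq_mul.1 e).symm
  rcases hy with e' | e'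
  · exact mul_inv_eq_iff_eq_mul.1 e'
  rw [mul_inv_eq_iff_eq_mul] at e e'
  rw [mul_assoc, e, mul_assoc, ← mul_assoc] at e'
  exact absurd (by simpa using e'.symm) h

theorem ab (H : MI S D) (hD : IsMulCommutative D) (hz : z ∈ Z[S]) (z2 : orderOf z = 2) (hw : w ∈ S)
    (ww : w * w = 1) (ha : ∀ s ∈ S, s * w * s⁻¹ = w ∨ s * w * s⁻¹ = z * w) (hm : ¬ D ≤ C1[w]) : False := by
  obtain ⟨h, hn, hS⟩ := H.ex_h
  obtain ⟨u, hu, hT, hu'⟩ := H.ex_u
  have z1 := ne_one_of z2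
  have zz := mul_self_of z2
  have ha' : ∀ d ∈ D, w * d * w⁻¹ = d ∨ w * d * w⁻¹ = z * d := fun d hd =>
    flip (hz.2 d (H.le hd)).symm (ha _ (inv_mem (H.le hd)))
  have hwD : w ∉ D := fun e => hm (le_cent1_iff.2 (abelian_iff.1 hD e))
  obtain ⟨z'D, -⟩ := H.zD hn hS hz z1
  have b1 := H.b0 hD hn hS hz z1 hu hu'
  have b2 := H.cz' hn hS hz z1 hu
  have b3 := conj_mem_cj u z'D.1
  have b4 := conj_mem_of_norm hT (H.lt_T.le z'D.1)
  have bb : u * (h * z * h⁻¹) * u⁻¹ * (u * (h * z * h⁻¹) * u⁻¹) = 1 :=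
    mul_self_of (by rw [Invol.orderOf_conj', Invol.orderOf_conj', z2])
  generalize u * (h * z * h⁻¹) * u⁻¹ = b at *
  have hd := H.uniq b4 b1 (bb ▸ one_mem _) ⟨hw, H.w_norm (H.cen hz) ha'⟩ hwD (ww ▸ one_mem _)
  obtain ⟨d, rfl⟩ : ∃ d, w = b * d := ⟨b⁻¹ * w, by group⟩
  rw [inv_mul_cancel_left] at hd
  have e0 : b * d * d * (b * d)⁻¹ = b * d * b⁻¹ := by group
  have m : b * d * b⁻¹ = z * d := e0 ▸ (ha' d hd).resolve_left fun e => by
    have h1 : b * d ∈ cj u D := mul_mem b3 (b2 ▸ ⟨H.le hd, mem_cent1.2 (mul_inv_eq_iff_eq_mul.1 (e0 ▸ e)).symm⟩)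
    have h2 := mem_cj.1 h1
    rcases ha u⁻¹ (inv_mem hu) with e | e <;> rw [inv_inv] at e <;> rw [e] at h2
    exacts [hwD h2, hwD ((mul_mem_cancel_left (H.cen hz)).1 h2)]
  have dd : d * d = z := by
    rw [inv_eq_of_mul_self bb] at m
    rw [← mul_assoc, m, mul_assoc] at ww
    rw [← mul_self_cancel zz (d * d), ww, mul_one]
  have hi := conj_mem_of_norm hn hd
  have ii : h * d * h⁻¹ * (h * d * h⁻¹) = h * z * h⁻¹ := by rw [← dd]; group
  refine hwD (H.cz hn hS hz z1 ▸ ⟨hw, mem_cent1.2 (mul_inv_eq_iff_eq_mul.1 ?_)⟩)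
  have sp : ∀ a x y : G, a * (x * y) * a⁻¹ = (a * x * a⁻¹) * (a * y * a⁻¹) := fun a x y => by group
  rw [← ii, sp]
  rcases ha' _ hi with e | e <;> rw [e]
  rw [← hz.2 _ (H.le hi), mul_assoc, hz.2 _ (H.le hi), mul_self_cancel zz]

theorem no_four (H : MI S D) (hc : #S ≤ 128) (hz : z ∈ Z[S]) (z2 : orderOf z = 2) (hw : w ∈ S)
    (ww : w * w = 1) (ha : ∀ s ∈ S, s * w * s⁻¹ = w ∨ s * w * s⁻¹ = z * w) (hm : ¬ D ≤ C1[w]) : False := by
  by_cases hwD : w ∈ D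
  swap
  · exact H.ab (H.na1 hc hz z2 hw hwD fun d hd => flip (hz.2 d (H.le hd)).symm (ha _ (inv_mem (H.le hd))))
      hz z2 hw ww ha hm
  obtain ⟨h, hn, hS⟩ := H.ex_h
  have z1 := ne_one_of z2
  have zz := mul_self_of z2
  have zD : z ∈ Z[D] := ⟨H.cen hz, centS H.le hz.2⟩
  obtain ⟨z'D, z'S⟩ := H.zD hn hS hz z1
  have cz' := fun u hu => H.cz' (u := u) hn hS hz z1 hu
  have ha' : ∀ d ∈ D, d * (h * w * h⁻¹) * d⁻¹ = h * w * h⁻¹ ∨
      d * (h * w * h⁻¹) * d⁻¹ = (h * z * h⁻¹) * (h * w * h⁻¹) := fun d hd => by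
    have e0 : d * (h * w * h⁻¹) * d⁻¹ = h * ((h⁻¹ * d * h) * w * (h⁻¹ * d * h)⁻¹) * h⁻¹ := by group
    rcases ha _ (H.le (conj_mem_of_norm' hn hd)) with e | e <;> rw [e0, e]
    · left; rfl
    · right; group
  have eA : cj h (D ⊓ C1[w]) = D ⊓ C1[h * w * h⁻¹] := by rw [cj_inf, cj_of_norm hn, C1_conj]
  have hm' : ¬ D ≤ C1[h * w * h⁻¹] := fun e => hm (by rwa [C1_conj, ← cj_of_norm hn, cj_le_cj] at e)
  have w'D := conj_mem_of_norm hn hwD
  have z'2 : orderOf (h * z * h⁻¹) = 2 := by rw [Invol.orderOf_conj', z2]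
  generalize h * w * h⁻¹ = w' at *
  generalize h * z * h⁻¹ = z' at *
  have ne : z' * z ≠ 1 := fun e => z'S (by rw [eq_inv_of_mul_eq_one_left e]; exact inv_mem hz)
  have cw : w * w' = w' * w := cm (ha w' (H.le w'D)) (ha' w hwD) ne
  have pD : IsPGroup 2 D := H.ms.pg.to_le H.le
  have l0 : zpowers z ⊔ zpowers z' ≤ Z[D] := sup_le (zpowers_le.2 zD) (zpowers_le.2 z'D)
  have c0 := two_mul_card_le (pD.to_le (l0.trans inf_le_left)) (lt_sup_zp fun e => z'S (zpowers_le.2 hz e))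
  rw [Nat.card_zpowers, z2] at c0
  have c0' := card_le_card l0
  have cz : ∀ x ∈ D, Z[D] ≤ D ⊓ C1[x] := fun x hx => inf_le_inf_left _ (cent_le_cent1 hx)
  have l1 : Z[D] ⊔ zpowers w ⊔ zpowers w' ≤ D ⊓ C1[w] :=
    sup_le (sup_le (cz w hwD) (zpowers_le.2 ⟨hwD, cent1_self w⟩)) (zpowers_le.2 ⟨w'D, mem_cent1.2 cw.symm⟩)
  have l2 : Z[D] ⊔ zpowers w ⊔ zpowers w' ≤ D ⊓ C1[w'] :=
    sup_le (sup_le (cz w' w'D) (zpowers_le.2 ⟨hwD, mem_cent1.2 cw⟩)) (zpowers_le.2 ⟨w'D, cent1_self w'⟩)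
  have aA : IsMulCommutative (Z[D] ⊔ zpowers w ⊔ zpowers w' : Subgroup G) :=
    abelianY (abelianY (center_abelian D) inferInstance (inf_le_right.trans (centS (zpowers_le.2 hwD))))
      inferInstance ((le_sup_left.trans (l2.trans inf_le_right)).trans (C_zpowers w').ge)
  have c1 := two_mul_card_le (pD.to_le (le_sup_left.trans (l1.trans inf_le_left)))
    (lt_sup_zp (A := Z[D]) fun e => hm (le_cent1_iff.2 e.2))
  have c2 := two_mul_card_le (pD.to_le (l1.trans inf_le_left)) (lt_sup_zp fun e => hm' fun d hd => by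
    obtain ⟨v, hv, y, hy, rfl⟩ := (mem_sup_norml ((zpowers_le.2 hwD).trans (norms_center (normG D)))).1 e
    have e0 : d * (v * y) * d⁻¹ = v * (d * y * d⁻¹) := by rw [← mul_assoc, hv.2 d hd]; group
    refine mem_cent1.2 (mul_inv_eq_iff_eq_mul.1 ((ha' d hd).resolve_right fun e1 => ?_))
    rw [e0] at e1
    rcases (mem_zp2 (by rw [pow_two, ww])).1 hy with rfl | rfl
    · exact ne_one_of z'2 (by simpa using e1.symm)
    rcases ha d (H.le hd) with e' | e' <;> rw [e'] at e1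
    · exact ne_one_of z'2 (by simpa using e1.symm)
    · rw [← mul_assoc, zD.2 v hv.1, mul_assoc] at e1
      exact z'S (mul_right_cancel e1 ▸ hz))
  have c3 := two_mul_card_le pD (inf_le_left.lt_of_ne fun e => hm (e ▸ inf_le_right) : D ⊓ C1[w] < D)
  have c3' := two_mul_card_le pD (inf_le_left.lt_of_ne fun e => hm' (e ▸ inf_le_right) : D ⊓ C1[w'] < D)
  have c6 := card_le_card l1
  obtain ⟨c4, c5⟩ := H.cards
  have e1 := eq_of_card_le l1 (by omega)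
  have e2 := eq_of_card_le l2 (by omega)
  have e0 := eq_of_card_le l0 (by omega)
  have i2 := relIndex_two_of H.T_lt (by omega)
  have hT := (p_index_normal H.ms.pg inf_le_left i2.dvd).2
  have tz : ∀ t ∈ S ⊓ N[D], t * z' * t⁻¹ = z' ∨ t * z' * t⁻¹ = z * z' := fun t ht => by
    rcases sup2_cases (by rw [pow_two, zz]) (by rw [pow_two, mul_self_of z'2]) (mem_cent1.2 (zD.2 z' z'D.1))
      (e0.ge (conj_mem_of_norm (norms_center (le_refl N[D]) ht.2) z'D)) with e | e | e | e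
    · exact absurd (by simpa using e) (ne_one_of z'2)
    · rw [mul_inv_eq_iff_eq_mul, ← hz.2 t ht.1] at e
      exact absurd (mul_left_cancel e ▸ hz) z'S
    exacts [.inl e, .inr e]
  obtain ⟨r, hr, hr'⟩ := SetLike.exists_of_lt H.T_lt
  have tv : ∀ t ∈ D, t * (r * z' * r⁻¹) * t⁻¹ = r * z' * r⁻¹ ∨ t * (r * z' * r⁻¹) * t⁻¹ = z * (r * z' * r⁻¹) :=
    fun t ht => by
      have e0 : t * (r * z' * r⁻¹) * t⁻¹ = r * ((r⁻¹ * t * r) * z' * (r⁻¹ * t * r)⁻¹) * r⁻¹ := by group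
      rcases tz _ (conj_mem_of_norm' (hT hr) (H.lt_T.le ht)) with e | e <;> rw [e0, e]
      · left; rfl
      · right; rw [← mul_assoc, hz.2 r hr]; group
  by_cases hv : r * z' * r⁻¹ ∈ D
  swap
  · exact hm (le_cent1_iff.2 (abelian_iff.1 (H.na1 hc hz z2 (mul_mem (mul_mem hr (H.le z'D.1)) (inv_mem hr)) hv
      fun d hd => flip (hz.2 d (H.le hd)).symm (tv _ (inv_mem hd))) hwD))
  have hvA := e2.ge ⟨hv, mem_cent1.2 (cm (tv w' w'D) (ha' _ hv) ne)⟩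
  have l3 : Z[D] ⊔ zpowers w ⊔ zpowers w' ≤ D ⊓ cj r D := le_inf (l1.trans inf_le_left)
    (cz' r hr ▸ le_inf (l1.trans (inf_le_left.trans H.le)) (le_cent1_iff.2 (abelian_iff.1 aA hvA)))
  have c7 := two_mul_card_le pD (inf_le_left.lt_of_ne fun e => hr' ⟨hr, mem_norm.2
    (eq_of_card_le (e.ge.trans inf_le_right) (card_cj r D).le).symm⟩ : D ⊓ cj r D < D)
  have e3 := eq_of_card_le l3 (by omega)
  obtain ⟨n1, n2⟩ := norm_inf_cj (B := D) inf_le_right (hT hr) ((mul_mem_iff2 i2 hr hr).2 Iff.rfl)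
  refine hS (H.ms.norm (N := D ⊓ cj r D) (fun e => ?_) (inf_le_left.trans H.le)
    (le_of_half i2 (normsI inf_le_right n1) hr hr' n2) ▸ mem_norm.2 ?_)
  · exact z1 (mem_bot.1 (e ▸ l3 (mem_sup_left (mem_sup_left zD))))
  · rw [← e3, e1, eA, ← e2, e1]

end MI

theorem MS.no_four (H : MS S) (hG : ¬ IsMulCommutative G) (hc : #S ≤ 128) (hn : V ⊴ S) (hV : Abelem 2 V)
    (h4 : #V = 2 ^ 2) : False := by
  have V0 : V ≠ ⊥ := fun e => by simp [e] at h4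
  obtain ⟨z, hz, z2⟩ := exists_invol_mem_of_isPGroup (H.pg.to_le (inf_le_right.trans inf_le_left))
    (meet_center_nil (pgroup_nil H.pg) hn V0)
  obtain ⟨w, hw, hw'⟩ := exists_not_mem_zp h4.ge (hV.pow hz.1)
  have ww : w * w = 1 := by rw [← pow_two, hV.pow hw]
  obtain ⟨M, -, hM⟩ := maxSub_exists (bot_lt_iff_ne_bot.2 fun e => V0 (eq_bot_iff.2 (e ▸ hn.1)) : ⊥ < S)
  obtain ⟨D₀, H₀, -⟩ := H.exists_MI hG hM.lt.le (p_maximal_index H.pg hM)
  have e := four_eq hV h4 hz.1 (ne_one_of z2) hw hw'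
  obtain ⟨D, HD, hD⟩ := H.exists_MI hG (M := C[V] ⊓ S) inf_le_right (by
    rw [inf_relIndex_right]
    refine ((Nat.dvd_prime Nat.prime_two).1 (four_relIndex H.pg hn.2 hV h4)).resolve_left fun e => hw' ?_
    rw [H₀.one_invol hc hz.2 z2 ⟨hn.1 hw, centsC.1 (relIndex_eq_one.1 e) hw⟩
      (orderOf_two_iff.2 ⟨ww, fun e => hw' (e ▸ one_mem _)⟩)]
    exact mem_zpowers z)
  refine HD.no_four hc hz.2 z2 (hn.1 hw) ww (fun s hs => four_conj hV h4 hz.1 (ne_one_of z2) hw hw'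
    (le_cent1_iff.2 hz.2.2 hs) (conj_mem_of_norm (hn.2 hs) hw)) fun h => hD (le_inf ?_ HD.le)
  rw [← e, cent_sup, C_zpowers, C_zpowers]
  exact le_inf (HD.le.trans (le_cent1_iff.2 hz.2.2)) h

end Cfsg.Agent.Sig
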