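import Cfsg.Agent.Sig.TU5

/-! Towers of `A`-invariant `p`-subgroups (`TU.Tw`): existence (`TU.exists_tw`), minimal towers (`TU.MT`) and Turull's
theorem `TU.turull`: `f(G) ≤ f(C_G(A)) + 2` for a coprime operator group of prime order. -/

set_option linter.dupNamespace false
set_option linter.unusedSectionVars false
set_option linter.unusedVariables false

namespace Cfsg.Agent.Sig.TU
open Subgroup Cfsg.Agent.BG
open scoped commutatorElement
universe u

local notation "Sol" => Group.IsSolvable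
local notation "Nil" => Group.IsNilpotent

variable {G : Type*} [Group G] [Finite G] {A B C D E F H J K L M N P Q R T U V W X Y Z : Subgroup G} {n q r h i j : ℕ}
  {a b g x y z : G} {S S' : ℕ → Subgroup G} {p : ℕ → ℕ}

/-- `X` is a `q`-group modulo `L`. -/
def PM (q : ℕ) (X L : Subgroup G) : Prop := ∀ x ∈ X, ∃ k, x ^ q ^ k ∈ L

theorem PM.mono (h : PM q X L) (h1 : Y ≤ X) (h2 : Y ⊓ L ≤ K) : PM q Y K := fun y hy =>
  (h y (h1 hy)).imp fun k hk => h2 ⟨pow_mem hy _, hk⟩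

theorem pm_iff (hX : X ≤ N[L]) : PM q X L ↔ IsPGroup q (X /ᵍ L) :=
  ⟨fun h ⟨_, hy⟩ => by
    obtain ⟨x, hx, nx, rfl⟩ := mem_quotient_iff.1 hy
    exact (h x hx).imp fun k hk => Subtype.ext ((coset_pow nx _).symm.trans (coset_id hk)),
  fun h x hx => (h ⟨_, mem_quotient (hX hx) hx⟩).imp fun k hk => (coset_eq_one (pow_mem (hX hx) _)).1
    ((coset_pow (hX hx) _).trans (congrArg Subtype.val hk))⟩

theorem PM.le (h : PM q X L) (hc : q.Coprime #X) : X ≤ L := fun x hx =>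
  let ⟨k, hk⟩ := h x hx
  mem_of_pow_mem_coprime (expg_cardG hx) (hc.pow_left k) hk

theorem PM.sup (h : PM q X L) (h' : PM q Y L) (hX : X ≤ N[L]) (hY : Y ≤ N[L]) (hn : Y ≤ N[X]) : PM q (X ⊔ Y) L := by
  rw [pm_iff (sup_le hX hY), quotientY hX hY]
  exact ((pm_iff hX).1 h).to_sup_of_normal_left' ((pm_iff hY).1 h') (quotient_norms _ hn)

theorem PM.le_sup [hq : Fact q.Prime] (h : PM q X L) (hT : SylowIn q T X) : X ≤ L ⊔ T :=
  le_of_Sylow_le fun s hs _ => by
    haveI := Fact.mk hs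
    by_cases e : s = q
    · exact ⟨T, e ▸ hT, le_sup_right⟩
    obtain ⟨R, hR⟩ := Sylow_exists s X
    exact ⟨R, hR, ((h.mono hR.le inf_le_right).le (Solv.coprime_card_of_isPGroup hR.pg
      ((Nat.coprime_primes hq.out hs).2 (Ne.symm e))).symm).trans le_sup_left⟩

theorem nres_comm (K : Subgroup G) : ⁅nres K, K⁆ = nres K := by
  obtain ⟨k, hk⟩ := exists_lcs_eq K
  conv_lhs => rw [← hk k le_rfl]
  exact hk (k + 1) k.le_succ

theorem comm_le_nres (hX : X ≤ K) (hY : Y ≤ K) (hc : (#X).Coprime #Y) : ⁅X, Y⁆ ≤ nres K := by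
  have n := (nres_it_normal 1 K).2
  exact (quotient_cents2 (hX.trans n) (hY.trans n)).1 (sub_nilpotent_cent2 (fh_one.1 ((fh_quo n).2 le_rfl))
    (quotientS _ hX) (quotientS _ hY) (coprime_morph _ hc))

theorem exq (hp : r.Prime) (hK : H ≤ N[K]) (hL : H ≤ N[L]) (kL : K ≤ N[L]) (h1 : nres K ≤ L) (h2 : ¬ PM r K L) :
    ∃ q, q.Prime ∧ q ≠ r ∧ ∃ L', L ≤ L' ∧ L' ≤ L ⊔ K ∧ H ≤ N[L'] ∧ PM q K L' ∧ ¬ K ≤ L' := by
  haveI := Fact.mk hp
  obtain ⟨q, hq, h3, h4⟩ : ∃ q, q.Prime ∧ q ∣ #(K /ᵍ L) ∧ q ≠ r := by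
    by_contra! e
    exact h2 ((pm_iff kL).2 (pgroup_iff.2 e))
  haveI := Fact.mk hq
  have d := nilpotent_pcoreC {q} (fh_one.1 ((fh_quo kL).2 h1))
  refine ⟨q, hq, h4, coquo L (Op' q (K /ᵍ L)), sub_cosetpre _, (cosetpreS (pcore_sub _ _)).trans (quotientK kL).le,
    norms_cosetpre hL (norms_pcore _ (quotient_norms _ hK)), fun x hx => ?_, fun e => (p'natE hq).1 (PiNat.of_dvd
      (pcore_pgroup _ _) (cardSg ((sub_quotient_pre kL).2 e))) h3⟩
  obtain ⟨u, hu, v, hv, e⟩ := d.sdprod.mem (mem_quotient (kL hx) hx)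
  obtain ⟨k, hk⟩ := Op_pgroup q _ ⟨u, hu⟩
  refine ⟨k, mem_coquo.2 ⟨pow_mem (kL hx) _, ?_⟩⟩
  rw [coset_pow (kL hx), e, Commute.mul_pow (mem_cent.1 (d.cent hv) u hu), show u ^ q ^ k = 1 from congrArg Subtype.val hk,
    one_mul]
  exact pow_mem hv _

/-- An `A`-invariant tower `S h, …, S 0` of `p i`-subgroups of `M`. -/
structure Tw (A M : Subgroup G) (h : ℕ) (p : ℕ → ℕ) (S : ℕ → Subgroup G) : Prop where
  pr : ∀ i, (p i).Prime
  ne : ∀ i < h, p i ≠ p (i + 1)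
  pg : ∀ i, IsPGroup (p i) (S i)
  le : ∀ i, S i ≤ M
  an : ∀ i, A ≤ N[S i]
  nm : ∀ i j, i ≤ j → S j ≤ N[S i]
  top : ∀ i, h < i → S i = ⊥

/-- The iterated commutator `[X, S (i - 1), …, S 0]`. -/
def dn (S : ℕ → Subgroup G) : ℕ → Subgroup G → Subgroup G
  | 0, X => X
  | i + 1, X => dn S i ⁅X, S i⁆

def cons {α : Type*} (a : α) (f : ℕ → α) : ℕ → α
  | 0 => a
  | i + 1 => f i

theorem dn_cons : ∀ (i : ℕ) (X : Subgroup G), dn (cons P S) (i + 1) X = ⁅dn S i X, P⁆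
  | 0, _ => rfl
  | i + 1, _ => dn_cons i _

theorem dn_le (hS : ∀ j, S j ≤ M) : ∀ (i : ℕ) {X : Subgroup G}, X ≤ M → dn S i X ≤ M
  | 0, _, h => h
  | i + 1, _, h => dn_le hS i (comm_subG h (hS i))

theorem exists_tw (h : ℕ) : ∀ {M L : Subgroup G} {r : ℕ}, r.Prime → Sol M → (#M).Coprime #A → A ≤ N[M] → L ⊴ M →
    A ≤ N[L] → PM r (nres^[h + 1] M) L → ¬ PM r (nres^[h] M) L →
      ∃ p S, Tw A M h p S ∧ p 0 ≠ r ∧ ¬ dn S h (S h) ≤ L := by
  have key : ∀ (h : ℕ) {M L : Subgroup G} {r : ℕ}, r.Prime → Sol M → (#M).Coprime #A → A ≤ N[M] → L ⊴ M →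
      A ≤ N[L] → PM r (nres^[h + 1] M) L → ¬ PM r (nres^[h] M) L → ∃ q, q.Prime ∧ q ≠ r ∧ ∃ L' P, L ≤ L' ∧ L' ⊴ M ∧
        A ≤ N[L'] ∧ PM q (nres^[h] M) L' ∧ ¬ nres^[h] M ≤ L' ∧ SylowIn q P (nres^[h] M) ∧ A ≤ N[P] := by
    intro h M L r hr sM cM aM nL aL h1 h2
    have n1 := nres_it_normal (h + 1) M
    have n2 := nres_it_normal h M
    have n3 := normsY nL.2 n1.2
    obtain ⟨q, hq, qr, L', l1, l2, l3, l4, l5⟩ := exq hr (sup_le n2.2 (norms_nres_it h aM))
      (sup_le n3 (normsY aL (norms_nres_it _ aM))) (n2.1.trans n3) (nres_it_succ h M ▸ le_sup_right) fun e =>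
        h2 fun x hx => by
          obtain ⟨k, hk⟩ := e x hx
          obtain ⟨j, hj⟩ := PM.sup (fun y hy => ⟨0, by simpa⟩) h1 (normG L) (n1.1.trans nL.2) (n1.1.trans nL.2) _ hk
          exact ⟨k + j, by rwa [pow_add, pow_mul]⟩
    haveI := Fact.mk hq
    obtain ⟨P, hP, aP⟩ := coprime_Sylow_exists q (norms_nres_it h aM) (coprimeSg n2.1 cM) (.inr (solvableS n2.1 sM))
    exact ⟨q, hq, qr, L', P, le_sup_left.trans l1, ⟨l2.trans (sup_le (sup_le nL.1 n1.1) n2.1), le_sup_left.trans l3⟩,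
      le_sup_right.trans l3, l4, l5, hP, aP⟩
  induction h with
  | zero =>
    intro M L r hr sM cM aM nL aL h1 h2
    obtain ⟨q, hq, qr, L', P, l1, l2, l3, l4, l5, hP, aP⟩ := key 0 hr sM cM aM nL aL h1 h2
    haveI := Fact.mk hq
    refine ⟨fun _ => q, cons P fun _ => ⊥, ⟨fun _ => hq, by simp, ?_, ?_, ?_, ?_, ?_⟩, qr, fun e =>
      l5 ((l4.le_sup hP).trans (sup_le le_rfl (e.trans l1)))⟩
    · rintro (_ | _); exacts [hP.pg, IsPGroup.of_bot]
    · rintro (_ | _); exacts [hP.le, bot_le]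
    · rintro (_ | _); exacts [aP, cents_norm (centsC.1 bot_le)]
    · rintro i (_ | _) hi
      · rw [Nat.le_zero.1 hi]; exact normG _
      · exact bot_le
    · rintro (_ | _) hi; exacts [absurd hi (lt_irrefl _), rfl]
  | succ h ih =>
    intro M L r hr sM cM aM nL aL h1 h2
    obtain ⟨q, hq, qr, L', P, l1, l2, l3, l4, l5, hP, aP⟩ := key _ hr sM cM aM nL aL h1 h2
    haveI := Fact.mk hq
    have n1 := nres_it_normal (h + 1) M
    have n2 := nres_it_normal h M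
    have pL := (hP.le.trans n1.1).trans l2.2
    have mL : M ⊓ N[P] ≤ N[L'] := inf_le_left.trans l2.2
    have aM' := normsI aM (norms_norm aP)
    have lN := l4.le_sup hP
    obtain ⟨p, S, t, p0, h3⟩ := ih (L := ck (M ⊓ N[P]) P L') hq (solvableS inf_le_left sM) (coprimeSg inf_le_left cM) aM'
      ⟨ck_le, norms_ck (normG _) inf_le_right mL⟩ (norms_ck aM' aP l3) (l4.mono (nres_it_mono _ inf_le_left)
        ((le_ck mL pL).2 ⟨inf_le_left.trans (nres_it_le _ _), (commSg _ inf_le_right).trans (commg_subl pL)⟩)) fun e => by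
      have k1 := n1.1.trans l2.2
      have n3 := norms_ck (normG M) n1.2 l2.2
      have l6 : L' ≤ ck M (nres^[h + 1] M) L' := (le_ck l2.2 k1).2 ⟨l2.1, commg_subl k1⟩
      have l7 := (nres_it_le h (M ⊓ N[P])).trans inf_le_left
      have l8 : nres^[h] M ≤ nres^[h + 1] M ⊔ nres^[h] (M ⊓ N[P]) := by
        rw [← quotientK (l7.trans n1.2), ← sub_quotient_pre (n2.1.trans n1.2), nres_it_quo n1.2,
          nres_it_quo (inf_le_left.trans n1.2), ← quotientYidl (inf_le_left.trans n1.2), Frattini_arg n1 hP]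
      obtain ⟨T, hT⟩ := Sylow_exists q (nres^[h] M)
      have k2 := ((PM.sup (l4.mono le_rfl (inf_le_right.trans l6)) (e.mono le_rfl (inf_le_right.trans ((le_ck l2.2 k1).2
        ⟨ck_le.trans inf_le_left, (commgS _ lN).trans (by
          rw [commGC]
          exact comm_sup_le (normG _) pL (commg_subl (ck_le.trans mL)) (commGC _ P ▸ ((le_ck mL pL).1 le_rfl).2))⟩)))
        (n1.1.trans n3) (l7.trans n3) (l7.trans n1.2)).mono l8 inf_le_right).le_sup hT
      have tM := hT.le.trans n2.1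
      have k3 : nres^[h + 1] M /ᵍ L' ≤ ⁅nres^[h + 1] M /ᵍ L', T /ᵍ L'⁆ := by
        have c := quotient_cents2r ((le_ck l2.2 k1).1 le_rfl).2
        have e : ⁅nres^[h] M, nres^[h + 1] M⁆ = nres^[h + 1] M := by rw [nres_it_succ, commGC, nres_comm]
        conv_lhs => rw [← e, quotientR (n2.1.trans l2.2) k1]
        refine (commSg _ ((quotientS _ k2).trans (quotientY (ck_le.trans l2.2) (tM.trans l2.2)).le)).trans (comm_sup_le
          (cents_norm (c.trans (centS (commg_subl (quotient_norms _ (tM.trans n1.2)))))) (commg_normr _ _)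
          ((commG1.2 c).le.trans bot_le) (commGC _ _).le)
      exact (nil_comm_properl (pgroup_nil (((pm_iff k1).1 l4).to_sup_of_normal_left' (hT.pg.quo _)
        (quotient_norms _ (tM.trans n1.2)))) le_sup_left (fun e => l5 ((quotient_sub1 k1).1 e)) le_sup_right
        (quotient_norms _ (tM.trans n1.2))).not_ge k3
    refine ⟨cons q p, cons P S, ⟨?_, ?_, ?_, ?_, ?_, ?_, ?_⟩, qr, fun e => h3 ((le_ck mL pL).2
      ⟨dn_le t.le _ (t.le _), (dn_cons _ _).ge.trans (e.trans l1)⟩)⟩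
    · rintro (_ | i); exacts [hq, t.pr i]
    · rintro (_ | i) hi; exacts [p0.symm, t.ne i (by omega)]
    · rintro (_ | i); exacts [hP.pg, t.pg i]
    · rintro (_ | i); exacts [hP.le.trans n1.1, (t.le i).trans inf_le_left]
    · rintro (_ | i); exacts [aP, t.an i]
    · rintro (_ | i) (_ | j) hi
      exacts [normG _, (t.le j).trans inf_le_right, by omega, t.nm i j (by omega)]
    · rintro (_ | i) hi; exacts [by omega, t.top i (by omega)]

/-- The kernels of the levels of a tower. -/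
def KK (S : ℕ → Subgroup G) : ℕ → Subgroup G
  | 0 => ⊥
  | i + 1 => ck (S (i + 1)) (S i) (KK S i)

theorem KK_le : ∀ i, KK S i ≤ S i
  | 0 => bot_le
  | _ + 1 => ck_le

theorem norms_KK : ∀ i, (∀ j ≤ i, X ≤ N[S j]) → X ≤ N[KK S i]
  | 0, _ => cents_norm (centsC.1 bot_le)
  | i + 1, h => norms_ck (h _ le_rfl) (h _ i.le_succ) (norms_KK i fun j hj => h j (hj.trans i.le_succ))

theorem Tw.sK (t : Tw A M h p S) (hij : i ≤ j) : S j ≤ N[KK S i] := norms_KK i fun k hk => t.nm k j (hk.trans hij)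

theorem Tw.aK (t : Tw A M h p S) (i : ℕ) : A ≤ N[KK S i] := norms_KK i fun k _ => t.an k

theorem Tw.le_KK (t : Tw A M h p S) : Y ≤ KK S (i + 1) ↔ Y ≤ S (i + 1) ∧ ⁅Y, S i⁆ ≤ KK S i :=
  le_ck (t.sK i.le_succ) (t.sK le_rfl)

theorem Tw.dn_bot (t : Tw A M h p S) : ∀ (i : ℕ) {X : Subgroup G}, X ≤ S i → (dn S i X = ⊥ ↔ X ≤ KK S i)
  | 0, _, _ => le_bot_iff.symm
  | i + 1, _, hX => (t.dn_bot i (commg_subr (hX.trans (t.nm _ _ i.le_succ)))).trans (by rw [t.le_KK, and_iff_right hX])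

theorem dn_congr : ∀ (i : ℕ) (X : Subgroup G), (∀ j < i, S j = S' j) → dn S i X = dn S' i X
  | 0, _, _ => rfl
  | i + 1, X, h => by rw [dn, dn, h i i.lt_succ_self, dn_congr i _ fun j hj => h j (hj.trans i.lt_succ_self)]

theorem dn_top (hi : i ≤ h) (e : ∀ j, i ≤ j → j < h → ⁅S j, S (j + 1)⁆ = S j) : dn S h (S h) = dn S i (S i) := by
  induction h, hi using Nat.le_induction with
  | base => rfl
  | succ k hk ih => rw [dn, commGC, e k hk k.lt_succ_self, ih fun j h1 h2 => e j h1 (h2.trans k.lt_succ_self)]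

theorem Tw.cop' (t : Tw A M h p S) (e : p i ≠ p j) : (#(S i)).Coprime #(S j) :=
  haveI := Fact.mk (t.pr i)
  haveI := Fact.mk (t.pr j)
  Solv.coprime_card_of_isPGroup (t.pg i) (Solv.coprime_card_of_isPGroup (t.pg j)
    ((Nat.coprime_primes (t.pr i) (t.pr j)).2 e))

theorem Tw.cop (t : Tw A M h p S) (i : ℕ) : (#(S i)).Coprime #(S (i + 1)) :=
  (lt_or_ge i h).elim (fun hi => t.cop' (t.ne i hi)) fun hi => by simp [t.top (i + 1) (by omega)]

theorem Tw.update (t : Tw A M h p S) (hT : T ≤ S i) (aT : A ≤ N[T]) (nT : ∀ j, i < j → S j ≤ N[T]) :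
    Tw A M h p (Function.update S i T) := by
  have l : ∀ j, Function.update S i T j ≤ S j := fun j => by
    by_cases e : j = i
    · rwa [e, Function.update_self]
    · rw [Function.update_of_ne e]
  refine ⟨t.pr, t.ne, fun j => (t.pg j).to_le (l j), fun j => (l j).trans (t.le j), fun j => ?_, fun j k hj => ?_,
    fun j hj => eq_bot_iff.2 (t.top j hj ▸ l j)⟩
  · by_cases e : j = i
    · rwa [e, Function.update_self]
    · rw [Function.update_of_ne e]; exact t.an j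
  · rcases hj.eq_or_lt with rfl | hj'
    · exact normG _
    by_cases e : j = i
    · rw [e, Function.update_self]; exact (l k).trans (nT k (e ▸ hj'))
    · rw [Function.update_of_ne e]; exact (l k).trans (t.nm j k hj)

/-- A minimal tower. -/
structure MT (A M : Subgroup G) (h : ℕ) (p : ℕ → ℕ) (S : ℕ → Subgroup G) : Prop extends Tw A M h p S where
  e : ∀ j < h, ⁅S j, S (j + 1)⁆ = S j
  mn : ∀ i < h, ∀ T < S i, A ≤ N[T] → (∀ j, i < j → S j ≤ N[T]) → ⁅S (i + 1), T⁆ ≤ KK S i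
  mt : ∀ T < S h, A ≤ N[T] → T ≤ KK S h
  nd : ∀ i ≤ h, ¬ S i ≤ KK S i

theorem exists_mt (t : Tw A M h p S') (h0 : dn S' h (S' h) ≠ ⊥) : ∃ S, MT A M h p S := by
  obtain ⟨S, ⟨t, h0⟩, hm⟩ := (measure fun S : ℕ → Subgroup G => ∑ i ∈ Finset.range (h + 1), #(S i)).wf.has_min
    {S | Tw A M h p S ∧ dn S h (S h) ≠ ⊥} ⟨S', t, h0⟩
  have rep : ∀ i ≤ h, ∀ T < S i, A ≤ N[T] → (∀ j, i < j → S j ≤ N[T]) →
      dn (Function.update S i T) h (Function.update S i T h) = ⊥ := fun i hi T h1 h2 h3 => by_contra fun e =>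
    hm _ ⟨t.update h1.le h2 h3, e⟩ (show ∑ j ∈ Finset.range (h + 1), #(Function.update S i T j) <
      ∑ j ∈ Finset.range (h + 1), #(S j) from Finset.sum_lt_sum (fun j _ => by
      by_cases e : j = i
      · rw [e, Function.update_self]; exact card_le_card h1.le
      · rw [Function.update_of_ne e]) ⟨i, Finset.mem_range.2 (by omega), by
        rw [Function.update_self]; exact proper_card h1⟩)
  have rep' : ∀ i < h, (∀ j, i + 1 ≤ j → j < h → ⁅S j, S (j + 1)⁆ = S j) → ∀ T < S i, A ≤ N[T] →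
      (∀ j, i < j → S j ≤ N[T]) → ⁅S (i + 1), T⁆ ≤ KK S i := fun i hi e T h1 h2 h3 => by
    have := rep i hi.le T h1 h2 h3
    rw [dn_top (i := i + 1) hi fun j j1 j2 => by
      rw [Function.update_of_ne (by omega), Function.update_of_ne (by omega), e j j1 j2], dn, Function.update_self,
      Function.update_of_ne (by omega), dn_congr (S' := S) i _ fun j hj => Function.update_of_ne hj.ne _ _] at this
    exact (t.dn_bot i ((commg_subr (h3 _ i.lt_succ_self)).trans h1.le)).1 this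
  have e : ∀ i ≤ h, ∀ j, i ≤ j → j < h → ⁅S j, S (j + 1)⁆ = S j := fun i hi => by
    induction hi using Nat.decreasingInduction with
    | self => exact fun j h1 h2 => absurd h1 h2.not_ge
    | of_succ i hi ih =>
      intro j h1 h2
      rcases h1.eq_or_lt with rfl | h1
      · have n := t.nm _ _ i.le_succ
        refine by_contra fun h3 => h0 ?_
        have := rep' i hi ih _ (lt_of_le_of_ne (commg_subl n) h3) (normsR (t.an _) (t.an _)) fun j hj =>
          normsR (t.nm _ _ hj.le) (t.nm _ _ hj)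
        rw [commGC, coprime_commGid n (t.cop i), commGC] at this
        rw [dn_top hi ih, dn, t.dn_bot i (commg_subr n)]
        exact this
      · exact ih j h1 h2
  refine ⟨S, t, fun j => e 0 h.zero_le j j.zero_le, fun i hi => rep' i hi (e _ hi), fun T h1 h2 => ?_, fun i hi h1 =>
    h0 ((dn_top hi (e i hi)).trans ((t.dn_bot i le_rfl).2 h1))⟩
  have := rep h le_rfl T h1 h2 fun j hj => t.top j hj ▸ bot_le
  rw [Function.update_self, dn_congr (S' := S) h _ fun j hj => Function.update_of_ne hj.ne _ _] at this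
  exact (t.dn_bot h h1.le).1 this

/-- The levels from `i` on together with `A`. -/
def Up (A : Subgroup G) (S : ℕ → Subgroup G) (i : ℕ) : Subgroup G := (⨆ j, ⨆ _ : i ≤ j, S j) ⊔ A

theorem Up_le (h1 : ∀ j, i ≤ j → S j ≤ X) (h2 : A ≤ X) : Up A S i ≤ X := sup_le (iSup₂_le h1) h2

theorem le_Up (hj : i ≤ j) : S j ≤ Up A S i := le_sup_of_le_left (le_iSup₂_of_le j hj le_rfl)

theorem MT.spec (t : MT A M h p S) (hi : i < h) : ⁅Phi (S i), S i⁆ ≤ KK S i ∧ Phi (Phi (S i)) ≤ KK S i ∧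
    ⁅Phi (S i), S (i + 1)⁆ ≤ KK S i ∧ (Phi (S i) ≤ KK S i ∨ ⁅ck (S i) (S i) (KK S i), S (i + 1)⁆ ≤ KK S i) := by
  haveI := Fact.mk (t.pr i)
  haveI := Fact.mk (t.pr (i + 1))
  have n1 := t.sK (le_refl i)
  have n2 := t.sK i.le_succ
  have n3 : Up A S (i + 1) ≤ N[KK S i] := Up_le (fun j hj => t.sK (by omega)) (t.aK i)
  have nK : KK S i ⊴ S i := ⟨KK_le i, n1⟩
  have l := (Phi_sub (S i)).trans n1
  obtain ⟨-, h1, h2, h3, h4, -⟩ := Gen.minimal_action ((t.pg i).quo (KK S i)) (quotient_norms _ (Up_le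
    (fun j hj => t.nm i j (by omega)) (t.an i) : Up A S (i + 1) ≤ _)) (quotientS _ (le_Up le_rfl)) (quotient_norms _
      (Up_le (t.nm _) (t.an _))) (coprime_morphl _ (Solv.coprime_card_of_isPGroup (t.pg _)
        ((Nat.coprime_primes (t.pr _) (t.pr _)).2 (t.ne i hi))))
    (fun e => t.nd i hi.le ((quotient_sub1 n1).1 (by rwa [← quotientR n1 n2, t.e i hi] at e))) fun U h1 h2 => by
      have n := norms_cosetpre n3 h2
      have := quotient_cents2r (t.mn i hi (coquo _ U) (lt_of_le_of_ne ((sub_cosetpre_quo nK).2 h1.le) fun e =>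
        h1.ne (by rw [← e, cosetpreK])) (le_sup_right.trans n) fun j hj => (le_Up hj).trans n)
      rw [cosetpreK] at this
      exact commG1'.2 this
  have e := quotient_Phi (t.pg i) n1
  refine ⟨(quotient_cents2 l n1).1 (e ▸ h3.trans inf_le_right), (quotient_sub1 ((Phi_sub _).trans l)).1 ?_,
    (quotient_cents2 l n2).1 (e ▸ h1.ge.trans inf_le_right), ?_⟩
  · rw [quotient_Phi ((t.pg i).to_le (Phi_sub _)) l, e]
    by_cases ab : IsMulCommutative (S i /ᵍ KK S i)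
    · rw [h2, der1_eq_bot.2 ab]; exact eq_bot_iff.2 (Phi_sub _)
    · rw [h4 ab]
      exact (trivg_Phi (((t.pg i).quo _).to_le inf_le_left)).2 (special_abelem ((t.pg i).quo _) (h4 ab) (h2 ▸ h4 ab))
  · by_cases ab : IsMulCommutative (S i /ᵍ KK S i)
    · exact .inl ((quotient_sub1 l).1 (by rw [e, h2, der1_eq_bot.2 ab]))
    · exact .inr ((quotient_cents2 (ck_le.trans n1) n2).1 ((le_inf (quotientS _ ck_le) (quotient_cents2r
        ((le_ck n1 n1).1 le_rfl).2)).trans ((h4 ab).ge.trans (h1.ge.trans inf_le_right))))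

theorem MT.lv (t : MT A M h p S) (hA : (#A).Prime) (cM : (#M).Coprime #A) (hi : i ≤ h) :
    Lv (p i) A (S (i + 1)) (S i) (KK S i) := by
  haveI := Fact.mk (t.pr (i + 1))
  have k : ⁅Phi (S i), S i⁆ ≤ KK S i ∧ Phi (Phi (S i)) ≤ KK S i ∧ ⁅Phi (S i), S (i + 1)⁆ ≤ KK S i ∧
      (Phi (S i) ≤ KK S i ∨ ⁅S i, S (i + 1)⁆ = S i) := by
    rcases hi.eq_or_lt with rfl | hi
    · have := t.mt _ (Phi_proper fun e => t.nd i le_rfl (e ▸ bot_le)) (norms_Phi (t.an i))
      exact ⟨(commg_subl (Phi_normal _).2).trans this, (Phi_sub _).trans this,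
        (commg_subl (norms_Phi (t.nm _ _ i.le_succ))).trans this, .inl this⟩
    · exact ⟨(t.spec hi).1, (t.spec hi).2.1, (t.spec hi).2.2.1, .inr (t.e i hi)⟩
  exact ⟨hA, t.pg i, pgroup_nil (t.pg _), t.cop i, coprimeSg (t.le _) cM, coprimeSg (t.le _) cM, t.nm _ _ i.le_succ,
    t.an _, t.an _, ⟨KK_le i, t.sK le_rfl⟩, t.sK i.le_succ, t.aK i, k.1, k.2.1, k.2.2.1, k.2.2.2⟩

theorem MT.cA (t : MT A M h p S) (cM : (#M).Coprime #A) (hi : i ≤ h) : (p i).Coprime #A :=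
  haveI := Fact.mk (t.pr i)
  (coprimeSg (t.le i) cM).coprime_dvd_left (pgroup_pdiv (t.pg i) fun e => t.nd i hi (e ▸ bot_le))

theorem MT.tri (t : MT A M h p S) (hA : (#A).Prime) (cM : (#M).Coprime #A) (hi : i + 2 ≤ h) :
    Tri (p i) (p (i + 1)) (p (i + 2)) A (S i) (KK S i) (S (i + 1)) (KK S (i + 1)) (S (i + 2)) (KK S (i + 2)) (S (i + 3))
      (Up A S (i + 2)) :=
  ⟨t.pg _, t.pg _, (t.ne i (by omega)).symm, t.ne _ hi, ⟨KK_le i, t.sK le_rfl⟩, t.nm _ _ i.le_succ, t.sK i.le_succ, rfl,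
    Up_le (fun j hj => t.nm _ _ (by omega)) (t.an _), Up_le (fun j hj => t.sK (by omega)) (t.aK _),
    Up_le (fun j hj => t.nm _ _ (by omega)) (t.an _), t.lv hA cM hi, le_Up le_rfl, le_Up (by omega), le_sup_right,
    (t.le_KK.1 le_rfl).2, coprimeSg (t.le _) cM, coprimeSg (t.le _) cM, t.cA cM (by omega),
    (t.spec hi).2.2.2.imp_right fun e => ⟨(t.spec hi).1, e⟩⟩

theorem comm_le_nres_it (hX : X ≤ C) (hY : Y ≤ nres^[n] C) (hn : Y ≤ N[X]) (hc : (#X).Coprime #Y) :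
    ⁅X, Y⁆ ≤ nres^[n + 1] C := by
  rw [← coprime_commGid hn hc, nres_it_succ]
  exact comm_le_nres ((commgS _ hY).trans (commg_subr (hX.trans (nres_it_normal n C).2))) hY (coprimeSg (commg_subl hn) hc)

theorem MT.main (t : MT A M h p S) (hA : (#A).Prime) (cM : (#M).Coprime #A) (h2 : 2 ≤ h) :
    nres^[h - 2] (M ⊓ C[A]) ≠ ⊥ := by
  classical
  have F := fun i => Fact.mk (t.pr i)
  have lc : ∀ i, S i ⊓ C[A] ≤ M ⊓ C[A] := fun i => inf_le_inf_right _ (t.le i)
  have nc : ∀ {X} i, X ≤ N[S i] → X ≤ C[A] → X ≤ N[S i ⊓ C[A]] := fun i h h' => normsI h (norms_cent (cents_norm h'))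
  have an := fun {i j} (h : i ≤ j) => nres_it_anti (M ⊓ C[A]) h
  have fin : ∀ i < h, (∃ Y ≤ S (i + 1) ⊓ C[A], Y ≤ nres^[h - i - 3] (M ⊓ C[A]) ∧
      ¬ ⁅⁅S i, ⁅S (i + 1), A⁆⁆, Y⁆ ≤ KK S i) → nres^[h - 2] (M ⊓ C[A]) ≠ ⊥ := fun i => by
    induction i with
    | zero =>
      rintro hi ⟨Y, y1, y2, y3⟩ e
      have n := nc 0 (y1.trans (inf_le_left.trans (t.nm _ _ zero_le_one))) (y1.trans inf_le_right)
      exact y3 (last (t.pg 0) (t.ne 0 hi) (t.lv hA cM hi) (t.nm _ _ zero_le_one) (t.nm _ _ zero_le_two) (t.an 0)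
        (commG1.1 (le_bot_iff.1 (t.le_KK.1 le_rfl).2)) (t.spec hi).2.2.1 (t.cA cM hi.le) y1 (eq_bot_iff.2 (e ▸
          (comm_le_nres_it (lc 0) y2 n (coprimeSS inf_le_left (y1.trans inf_le_left) (t.cop 0))).trans (an (by omega)))))
    | succ i ih =>
      rintro hi ⟨Y, y1, y2, y3⟩
      have n := nc _ (y1.trans (inf_le_left.trans (t.nm _ _ (i + 1).le_succ))) (y1.trans inf_le_right)
      exact ih (by omega) ⟨_, commg_subl n, (comm_le_nres_it (lc _) y2 n (coprimeSS inf_le_left (y1.trans inf_le_left)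
        (t.cop _))).trans (an (by omega)), fun e => y3 ((t.tri hA cM hi).step y1 e)⟩
  have ex : ∃ m, ∀ j, m ≤ j → S j ≤ C[A] := ⟨h + 1, fun j hj => t.top j hj ▸ bot_le⟩
  have m1 := Nat.find_spec ex
  have m2 := fun k => Nat.find_min ex (m := k)
  have m3 := Nat.find_min' ex (m := h + 1) fun j hj => t.top j hj ▸ bot_le
  generalize Nat.find ex = m at m1 m2 m3
  have a1 : ∀ k j, m ≤ j → h - j = k → S j ≤ nres^[k] (M ⊓ C[A]) := fun k => by
    induction k with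
    | zero => exact fun j h _ => le_inf (t.le j) (m1 j h)
    | succ k ih => exact fun j h1 h3 => (t.e j (by omega)).ge.trans (comm_le_nres_it (le_inf (t.le j) (m1 j h1))
        (ih _ (by omega) (by omega)) (t.nm _ _ j.le_succ) (t.cop j))
  rcases le_or_gt m 2 with hm | hm
  · exact fun e => t.nd 2 h2 ((a1 _ 2 hm rfl).trans (e ▸ bot_le))
  obtain ⟨k, rfl⟩ : ∃ k, m = k + 3 := ⟨m - 3, by omega⟩
  have hk : k + 2 ≤ h := by omega
  have tr := t.tri hA cM hk
  have sA := m1 _ le_rfl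
  have tA := m1 _ (k + 3).le_succ
  have e2 := t.e (k + 1) hk
  have e1 : ⁅S (k + 2), A⁆ = S (k + 2) := by_contra fun e => t.nd _ hk (by
    have l1 := lt_of_le_of_ne (commg_subl (t.an _)) e
    have l2 : S (k + 2) ⊓ C[A] < S (k + 2) := lt_of_le_of_ne inf_le_left fun e => m2 (k + 2) (by omega) fun j hj =>
      hj.eq_or_lt.elim (fun e' => e' ▸ inf_eq_left.1 e) (m1 j)
    have a2 := normsI (t.an (k + 2)) (norms_cent (normG A))
    have e3 := coprime_cent_prod tr.lv.aP tr.lv.cA (pgroup_sol (t.pg _))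
    rcases hk.eq_or_lt with e4 | e4
    · subst e4
      exact e3.ge.trans (sup_le (t.mt _ l1 (commg_normr _ _)) (t.mt _ l2 a2))
    · rw [← t.e _ e4]
      refine (commSg _ e3.ge).trans (comm_sup_le (l1.le.trans tr.lv.nK.2) (l2.le.trans tr.lv.nK.2) ?_ ?_) <;> rw [commGC]
      · exact t.mn _ e4 _ l1 (commg_normr _ _) fun j hj => normsR (t.nm _ _ hj.le) (cents_norm (m1 j hj))
      · exact t.mn _ e4 _ l2 a2 fun j hj => nc _ (t.nm _ _ hj.le) (m1 j hj))
  have tQ := t.nm (k + 2) (k + 4) (by omega)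
  have nN := fun j => (nres_it_normal j (M ⊓ C[A])).2
  by_cases hT : ⁅S (k + 2) ⊓ C[A], S (k + 4)⁆ ≤ KK S (k + 2)
  swap
  · have l := commg_subl (nc _ tQ tA)
    exact fin (k + 1) hk ⟨_, l, (commgS _ (a1 _ (k + 4) (by omega) (by omega))).trans (commg_subr ((lc _).trans (nN _))),
      fun e => hT (t.le_KK.2 ⟨l.trans inf_le_left, by rwa [e1, e2, commGC] at e⟩)⟩
  refine fin k (by omega) ?_
  rcases le_or_gt h (k + 3) with h3 | h3
  · exact ⟨_, le_rfl, by rw [show h - k - 3 = 0 by omega]; exact lc _, fun e => t.nd _ (by omega) (tr.fix e1 e2 e)⟩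
  have st := fun X hX cX e => t.nd _ (by omega) (tr.start (X := X) (le_Up (by omega)) sA tA tQ (t.nm _ _ (k + 3).le_succ)
    e1 e2 (t.e _ (by omega)) (t.e _ h3) hT (t.sK (by omega)) (coprimeSg (t.le _) cM) (by
      by_cases e : p (k + 2) = p (k + 4)
      · exact .inr (e ▸ t.pg _)
      · exact .inl (Solv.coprime_card_of_isPGroup (t.pg _) ((Nat.coprime_primes (t.pr _) (t.pr _)).2 e))) hX cX e)
  by_cases e : p (k + 1) = p (k + 3)
  · have n := nc (k + 1) (t.nm _ (k + 4) (by omega)) tA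
    have e' : p (k + 1) ≠ p (k + 4) := e ▸ t.ne _ h3
    exact ⟨_, commg_subl n, (comm_le_nres_it (lc _) (a1 _ (k + 4) (by omega) rfl) n (coprimeSg inf_le_left
      (t.cop' e'))).trans (an (by omega)), st _ (.inr rfl) (Solv.coprime_card_of_isPGroup (t.pg _)
        ((Nat.coprime_primes (t.pr _) (t.pr _)).2 e')).symm⟩
  · exact ⟨_, commg_subl (nc (k + 1) (t.nm _ (k + 3) (by omega)) sA), (commgS _ (a1 _ (k + 3) le_rfl (by omega))).trans
      (commg_subr ((lc _).trans (nN _))), st _ (.inl rfl) (Solv.coprime_card_of_isPGroup (t.pg _)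
        ((Nat.coprime_primes (t.pr _) (t.pr _)).2 e)).symm⟩

/-- Turull's theorem for an operator group of prime order. -/
theorem turull (hA : (#A).Prime) (sM : Sol M) (cM : (#M).Coprime #A) (aM : A ≤ N[M]) (h : FH n (M ⊓ C[A])) :
    FH (n + 2) M := by
  by_contra h0
  have n1 := nres_it_normal (n + 2 + 1) M
  obtain ⟨p, S, t, -, h1⟩ := exists_tw (n + 2) hA sM cM aM n1 (norms_nres_it _ aM) (fun x hx => ⟨0, by simpa⟩) fun e =>
    (sol_der1_proper (solvableS (nres_it_le _ M) sM) h0).not_ge ((e.le (coprimeSg (nres_it_le _ M) cM).symm).trans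
      (nres_it_succ _ M ▸ nres_le_lcs _ 1))
  obtain ⟨S, t⟩ := exists_mt t fun e => h1 (e ▸ bot_le)
  exact t.main hA cM (by omega) h

end Cfsg.Agent.Sig.TU
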