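import Cfsg.Agent.Sig.Dich
import Cfsg.Agent.Invol.Basic
import Cfsg.Agent.S3072

/-! Simple groups with a maximal Sylow 2-subgroup `S` (`MS S`): maximal Sylow intersections `D ≥ Z(S)`
(`MI S D`), `MI.uniq` (`N_S(D)/D` has a unique involution), and `MS.exists_MI`: by Alperin–Goldschmidt
fusion and the focal subgroup theorem no subgroup of index 2 of `S` contains all such `D`. -/

set_option linter.dupNamespace false
set_option linter.unusedSectionVars false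
set_option linter.unusedVariables false

namespace Cfsg.Agent.Sig
open Subgroup Cfsg.Agent.BG Cfsg.Agent.Invol

variable {G : Type*} [Group G] [Finite G] {A B D M N S U : Subgroup G} {a b c e g h x y z : G}

theorem two_mul_card_le (hB : IsPGroup 2 B) (h : A < B) : 2 * #A ≤ #B := by
  obtain ⟨n, hn⟩ := hB.exists_card_eq
  obtain ⟨m, -, hm⟩ := (Nat.dvd_prime_pow Nat.prime_two).1 (hn ▸ cardSg h.le)
  have := proper_card h
  rw [hm, hn] at this ⊢
  rw [← pow_succ']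
  exact Nat.pow_le_pow_right two_pos ((Nat.pow_lt_pow_iff_right one_lt_two).1 this)

theorem relIndex_two_of (hAB : A < B) (hc : #B ≤ 2 * #A) : A.relIndex B = 2 := by
  have h1 := card_mul_relIndex hAB.le
  have h2 := proper_card hAB
  have h3 := cardG_pos A
  have : A.relIndex B ≤ 2 := by by_contra! e; nlinarith
  have : 1 < A.relIndex B := by by_contra! e; nlinarith
  omega

theorem mul_mem_iff2 (hi : A.relIndex B = 2) (hx : x ∈ B) (hy : y ∈ B) : x * y ∈ A ↔ (x ∈ A ↔ y ∈ A) :=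
  mul_mem_iff_of_index_two (H := A.subgroupOf B) hi (a := ⟨x, hx⟩) (b := ⟨y, hy⟩)

/-- a maximal Sylow 2-subgroup of a simple group -/
structure MS (S : Subgroup G) : Prop where
  syl : SylowIn 2 S ⊤
  max : IsCoatom S
  simp : ∀ N : Subgroup G, N.Normal → N = ⊥ ∨ N = ⊤

theorem MS.pg (H : MS S) : IsPGroup 2 S := H.syl.pg

theorem MS.norm (H : MS S) (h0 : N ≠ ⊥) (hN : N ≤ S) (hn : S ≤ N[N]) : N[N] = S := by
  rcases hn.eq_or_lt with e | e
  · exact e.symm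
  rcases H.simp N (normalizer_eq_top_iff.1 (H.max.2 _ e)) with e | e
  · exact absurd e h0
  · exact absurd (top_le_iff.1 (e ▸ hN)) H.max.1

theorem MS.cent (H : MS S) (hz : z ∈ Z[S]) (h1 : z ≠ 1) : C1[z] = S := by
  have h2 : S ≤ C1[z] := le_cent1_iff.2 hz.2
  exact le_antisymm (H.norm (by simpa using h1) (zpowers_le.2 hz.1) (h2.trans (cent1_le_norm_zpowers z)) ▸
    cent1_le_norm_zpowers z) h2

theorem MS.self (H : MS S) (h0 : S ≠ ⊥) (h : cj g S ≤ S) : g ∈ S :=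
  H.norm h0 le_rfl (normG S) ▸ mem_norm_of_cj_le h

/-- a maximal Sylow intersection over `Z(S)` -/
structure MI (S D : Subgroup G) : Prop where
  ms : MS S
  ne : S ≠ ⊥
  le : D ≤ S
  cen : Z[S] ≤ D
  ex : ∃ g, g ∉ S ∧ D ≤ cj g S
  mx : ∀ U k, D < U → U ≤ S → U ≤ cj k S → k ∈ S

namespace MI

theorem ne_bot (H : MI S D) : D ≠ ⊥ := fun e => by
  obtain ⟨z, h1, h2, h3⟩ := exists_central_invol H.ms.pg H.ne
  exact ne_one_of h2 (mem_bot.1 (e ▸ H.cen ⟨h1, fun s hs => h3 s hs⟩))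

theorem norm_le (H : MI S D) (h1 : D < U) (h2 : U ≤ S) : N[U] ≤ S := fun k hk =>
  H.mx U k h1 h2 (cj_of_norm hk ▸ cj_mono k h2)

theorem ex_h (H : MI S D) : ∃ h ∈ N[D], h ∉ S := by
  obtain ⟨g, hg, h1⟩ := H.ex
  have h2 : D < cj g S := h1.lt_of_ne fun e => hg (H.ms.self H.ne (e ▸ H.le))
  have h3 := nilpotent_proper_norm (pgroup_nil (IsPGroup.cj H.ms.pg g)) h2
  by_contra! e
  exact hg (H.mx _ g h3 (fun x hx => e x hx.2) inf_le_left)

theorem inter (H : MI S D) (hn : h ∈ N[D]) (hS : h ∉ S) : S ⊓ cj h S = D := by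
  have h1 : D ≤ S ⊓ cj h S := le_inf H.le (cj_of_norm hn ▸ cj_mono h H.le)
  by_contra e
  exact hS (H.mx _ h (h1.lt_of_ne (Ne.symm e)) inf_le_left inf_le_right)

theorem cz (H : MI S D) (hn : h ∈ N[D]) (hS : h ∉ S) (hz : z ∈ Z[S]) (h1 : z ≠ 1) :
    S ⊓ C1[h * z * h⁻¹] = D := by
  rw [C1_conj, H.ms.cent hz h1, H.inter hn hS]

theorem not_norm (H : MI S D) : ¬ S ≤ N[D] := fun e => by
  obtain ⟨h, h1, h2⟩ := H.ex_h
  exact h2 (H.ms.norm H.ne_bot H.le e ▸ h1)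

theorem lt_S (H : MI S D) : D < S := H.le.lt_of_ne fun e => H.not_norm (e ▸ normG D)

theorem lt_T (H : MI S D) : D < S ⊓ N[D] := nilpotent_proper_norm (pgroup_nil H.ms.pg) H.lt_S

theorem T_lt (H : MI S D) : S ⊓ N[D] < S := inf_le_left.lt_of_ne fun e => H.not_norm (e ▸ inf_le_right)

theorem of_comm (H : MI S D) (hx : x ∈ S) (hn : x ∈ N[D]) (hD : x ∉ D) (he : e ∈ N[D])
    (hc : Commute (coset D e) (coset D x)) : e ∈ S := by
  have h1 : zpowers e ≤ N[coquo D (zpowers (coset D x))] := norms_cosetpre (zpowers_le.2 he) (by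
    rw [quotient_zpowers he]; exact zpowers_le.2 (cent1_le_norm_zpowers _ (mem_cent1.2 hc)))
  rw [← quotient_zpowers hn, quotientK (zpowers_le.2 hn)] at h1
  exact H.norm_le (le_sup_left.lt_of_ne fun e => hD (e ▸ mem_sup_right (mem_zpowers x)))
    (sup_le H.le (zpowers_le.2 hx)) (h1 (mem_zpowers e))

theorem surj (q : Quo D) : ∃ m ∈ N[D], coset D m = q := by
  obtain ⟨m, -, h1, h2⟩ := mem_quotient_iff.1 (quotient_norm_top D ▸ mem_top q)
  exact ⟨m, h1, h2⟩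

theorem conj (H : MI S D) (ha : a ∈ S ⊓ N[D]) (haD : a ∉ D) (ha2 : a * a ∈ D) (hb : b ∈ S ⊓ N[D])
    (hbD : b ∉ D) (hb2 : b * b ∈ D) :
    ∃ k ∈ S ⊓ N[D], coset D k * coset D a * (coset D k)⁻¹ = coset D b := by
  obtain ⟨h, hn, hS⟩ := H.ex_h
  have sq : ∀ x ∈ N[D], x * x ∈ D → coset D x * coset D x = 1 := fun x h1 h2 => by
    rw [← coset_mul h1 h1, coset_id h2]
  have c2 : (coset D h * coset D a * (coset D h)⁻¹) * (coset D h * coset D a * (coset D h)⁻¹) = 1 := by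
    calc _ = coset D h * (coset D a * coset D a) * (coset D h)⁻¹ := by group
      _ = 1 := by rw [sq a ha.2 ha2]; group
  by_cases hc : IsConj (coset D h * coset D a * (coset D h)⁻¹) (coset D b)
  · obtain ⟨q, hq⟩ := isConj_iff.1 hc
    obtain ⟨m, hm, rfl⟩ := surj q
    have hk := mul_mem hm hn
    have e : coset D (m * h) * coset D a * (coset D (m * h))⁻¹ = coset D b := by
      rw [coset_mul hm hn, ← hq]; group
    refine ⟨m * h, ⟨H.mx (D ⊔ zpowers b) _ (le_sup_left.lt_of_ne fun e => hbD (e ▸ mem_sup_right (mem_zpowers b)))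
      (sup_le H.le (zpowers_le.2 hb.1)) ?_, hk⟩, e⟩
    have h1 : D ≤ cj (m * h) S := cj_of_norm hk ▸ cj_mono _ H.le
    refine sup_le h1 (zpowers_le.2 ?_)
    rw [← coset_inv hk, ← coset_mul hk ha.2, ← coset_mul (mul_mem hk ha.2) (inv_mem hk),
      coset_eq_iff (mul_mem (mul_mem hk ha.2) (inv_mem hk)) hb.2] at e
    have := mul_mem (conj_mem_cj (m * h) ha.1) (h1 e)
    rwa [mul_inv_cancel_left] at this
  · obtain ⟨k, o2, h1, h2⟩ := exists_commute_of_not_isConj c2 (sq b hb.2 hb2) hc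
    obtain ⟨e, he, ee⟩ := surj ((coset D h * coset D a * (coset D h)⁻¹ * coset D b) ^ k)
    rw [← ee] at o2 h1 h2
    have h3 := H.of_comm hb.1 hb.2 hbD he h2
    have h4 : h⁻¹ * e * h ∈ S := H.of_comm ha.1 ha.2 haD (mul_mem (mul_mem (inv_mem hn) he) hn) (by
      rw [coset_mul (mul_mem (inv_mem hn) he) hn, coset_mul (inv_mem hn) he, coset_inv hn]
      have := h1.eq
      calc _ = (coset D h)⁻¹ * (coset D e * (coset D h * coset D a * (coset D h)⁻¹)) * coset D h := by group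
        _ = _ := by rw [this]; group)
    exact absurd (coset_id (H.inter hn hS ▸ (⟨h3, mem_cj.2 h4⟩ : e ∈ S ⊓ cj h S))) (ne_one_of o2)

/-- `N_S(D)/D` has a unique involution -/
theorem uniq (H : MI S D) (ha : a ∈ S ⊓ N[D]) (haD : a ∉ D) (ha2 : a * a ∈ D) (hb : b ∈ S ⊓ N[D])
    (hbD : b ∉ D) (hb2 : b * b ∈ D) : a⁻¹ * b ∈ D := by
  obtain ⟨q, h1, h2, h3⟩ := exists_central_invol (IsPGroup.quo (H.ms.pg.to_le (inf_le_left : S ⊓ N[D] ≤ S)) D)
    (quotient_neq1 inf_le_right H.lt_T.not_ge)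
  obtain ⟨c, hc, -, rfl⟩ := mem_quotient_iff.1 h1
  have hcD : c ∉ D := fun e => ne_one_of h2 (coset_id e)
  have hc2 : c * c ∈ D := (coset_eq_one (mul_mem hc.2 hc.2)).1 (by rw [coset_mul hc.2 hc.2, mul_self_of h2])
  have key : ∀ x ∈ S ⊓ N[D], x ∉ D → x * x ∈ D → coset D x = coset D c := fun x hx hxD hx2 => by
    obtain ⟨k, hk, e⟩ := H.conj hc hcD hc2 hx hxD hx2
    rw [← e, (h3 _ (mem_quotient hk.2 hk)).eq, mul_inv_cancel_right]
  exact (coset_eq_iff ha.2 hb.2).1 ((key a ha haD ha2).trans (key b hb hbD hb2).symm)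

end MI

theorem MS.exists_MI (H : MS S) (hG : ¬ IsMulCommutative G) (hM : M ≤ S) (hi : M.relIndex S = 2) :
    ∃ D, MI S D ∧ ¬ D ≤ M := by
  by_contra! hc
  have h0 : S ≠ ⊥ := fun e => by simp [e] at hi
  have loc : ∀ U ≤ S, S ⊓ C[U] ≤ U → ∀ x ∈ N[U], x ∉ S → U ≤ M := fun U h1 h2 x hx hS => by
    obtain ⟨D, h3, h4, h5⟩ := maxgroup_exists (P := fun D => D ≤ S ∧ ∃ g, g ∉ S ∧ D ≤ cj g S) (A := U)
      ⟨h1, x, hS, cj_of_norm hx ▸ cj_mono x h1⟩
    refine h3.trans (hc D ⟨H, h0, h4.1, fun z hz => h3 (h2 ⟨hz.1, centS h1 hz.2⟩), h4.2, fun V k h6 h7 h8 => ?_⟩)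
    by_contra e
    exact h6.ne' (h5 V ⟨h7, k, e, h8⟩ h6.le)
  have cS : ∀ s ∈ S, ∀ a ∈ S, (s⁻¹ * a * s ∈ M ↔ a ∈ M) := fun s hs a ha => by
    rw [mul_mem_iff2 hi (mul_mem (inv_mem hs) ha) hs, mul_mem_iff2 hi (inv_mem hs) ha, inv_mem_iff]
    tauto
  obtain ⟨P, rfl⟩ := sylow_of_sylowIn_top H.syl
  have fus : ∀ a ∈ (P : Subgroup G), ∀ g, g⁻¹ * a * g ∈ (P : Subgroup G) → (g⁻¹ * a * g ∈ M ↔ a ∈ M) := by
    intro a ha g hg
    rcases eq_or_ne a 1 with rfl | a1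
    · simp
    obtain ⟨n, K, X, x, c, y, hc, hy, rfl, hK⟩ := S3072.result P {a} (by rintro _ rfl; exact ha)
      ⟨a, rfl, a1⟩ g (by rintro _ ⟨_, rfl, rfl⟩; exact hg)
    have ind : ∀ i ≤ n, (((List.ofFn x).take i).prod⁻¹ * a * ((List.ofFn x).take i).prod ∈ (P : Subgroup G)) ∧
        (((List.ofFn x).take i).prod⁻¹ * a * ((List.ofFn x).take i).prod ∈ M ↔ a ∈ M) := by
      intro i
      induction i with
      | zero => simpa using ha
      | succ i ih =>
        intro hi'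
        obtain ⟨h1, h2⟩ := ih (by omega)
        obtain ⟨k1, -, k2, -, -, k3, k4, k5⟩ := hK ⟨i, hi'⟩
        have k6 := k5 ⟨a, rfl, rfl⟩
        have k7 : x ⟨i, hi'⟩ ∈ N[K ⟨i, hi'⟩] := k3.2.1 (map_subtype_le _ k4)
        have e : ((List.ofFn x).take (i + 1)).prod = ((List.ofFn x).take i).prod * x ⟨i, hi'⟩ := by
          rw [List.prod_take_succ _ _ (by simpa using hi')]; simp
        have e2 : (((List.ofFn x).take i).prod * x ⟨i, hi'⟩)⁻¹ * a * (((List.ofFn x).take i).prod * x ⟨i, hi'⟩) =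
          (x ⟨i, hi'⟩)⁻¹ * (((List.ofFn x).take i).prod⁻¹ * a * ((List.ofFn x).take i).prod) * x ⟨i, hi'⟩ := by group
        rw [e, e2]
        have k8 := conj_mem_of_norm' k7 k6
        refine ⟨k1 k8, ?_⟩
        by_cases hx : x ⟨i, hi'⟩ ∈ (P : Subgroup G)
        · rw [cS _ hx _ h1, h2]
        · have := loc _ k1 k2 _ k7 hx
          exact iff_of_true (this k8) (h2.1 (this k6))
    obtain ⟨h1, h2⟩ := ind n le_rfl
    rw [List.take_of_length_le (by simp)] at h1 h2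
    have e : (c * (List.ofFn x).prod * y)⁻¹ * a * (c * (List.ofFn x).prod * y) =
        y⁻¹ * ((List.ofFn x).prod⁻¹ * a * (List.ofFn x).prod) * y := by
      have := (hc a rfl).symm
      calc _ = y⁻¹ * ((List.ofFn x).prod⁻¹ * (c⁻¹ * (a * c)) * (List.ofFn x).prod) * y := by group
        _ = _ := by rw [← this]; group
    rw [e, cS _ (H.norm h0 le_rfl (normG _) ▸ hy) _ h1, h2]
  have h1 := focal_subgroup_le (L := M) H.syl fun a ha g _ hg => by
    have := fus a ha g⁻¹ (by simpa using hg)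
    rw [inv_inv] at this
    rw [mul_mem_iff2 hi hg (inv_mem ha), inv_mem_iff, this]
  rcases H.simp ⁅(⊤ : Subgroup G), (⊤ : Subgroup G)⁆ inferInstance with e | e
  · exact hG ⟨⟨fun a b => commutatorElement_eq_one_iff_mul_comm.1
      (mem_bot.1 (e ▸ commutator_mem_commutator (mem_top a) (mem_top b)))⟩⟩
  · rw [e, inf_top_eq] at h1
    rw [relIndex_eq_one.2 h1] at hi
    omega

end Cfsg.Agent.Sig
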