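import Cfsg.Agent.Sig.Ward

/-! Towards Turull's bound `f(G) ≤ f(C_G(A)) + 2`: character lemmas (`TU.van`, `TU.fr`, `TU.cnt`) and separating
families of subgroups (`TU.Fam`, the "matroid" argument `Fam.mat`, the norm argument `Fam.nf`). -/

set_option linter.dupNamespace false
set_option linter.unusedSectionVars false
set_option linter.unusedVariables false

namespace Cfsg.Agent.Sig.TU
open Subgroup Cfsg.Agent.BG
open scoped commutatorElement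
universe u

local notation "Sol" => Group.IsSolvable
local notation "Nil" => Group.IsNilpotent

variable {G : Type*} [Group G] [Finite G] {A B C D E H K L M N P Q R S T U V W X Y Z : Subgroup G} {n p q r s : ℕ}
  {a b g x y z : G} {χ ψ : G → ℂ}

theorem dot_constt {θ : G → ℂ} (hχ : PF.IsChar L χ) (hB : B ≤ L) (hψ : ψ ∈ PF.Irr L) (hd : PF.dot L χ ψ ≠ 0)
    (hθ : PF.IsChar B θ) (h0 : PF.dot B χ θ = 0) : PF.dot B ψ θ = 0 := by
  obtain ⟨a, ha⟩ := ((PF.Irr_isChar hψ).res hB).dot_nat hθ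
  obtain ⟨b, hb⟩ := ((hχ.sub_of_dot_ne_zero hψ hd).res hB).dot_nat hθ
  rw [PF.dot_Res_self_left] at ha hb
  rw [PF.dot_sub_left, h0, ha, sub_eq_iff_eq_add] at hb
  have : 0 = b + a := by exact_mod_cast hb
  rw [ha, Nat.cast_eq_zero]; omega

theorem not_ker (hχ : PF.IsChar L χ) (hB : B ≤ L) (h0 : PF.dot B χ (PF.one B) = 0) (hψ : ψ ∈ PF.Irr L)
    (hd : PF.dot L χ ψ ≠ 0) : ¬ B ≤ PF.cfker ψ := fun hk => PF.Irr_apply_one_ne_zero hψ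
  ((PF.dot_one_of_le_cfker hk).symm.trans (dot_constt hχ hB hψ hd (PF.Irr_isChar (PF.one_mem_Irr B)) h0))

theorem van (hχ : PF.IsChar L χ) (hB : B ≤ L) (h0 : PF.dot B χ (PF.one B) = 0) (hg : g ∈ L)
    (h : ∀ ψ ∈ PF.Irr L, ¬ B ≤ PF.cfker ψ → ψ g = 0) : χ g = 0 := by
  rw [PF.apply_eq_sum_Irr (PF.CF_inv hχ.mem_CF) hg]
  refine Finset.sum_eq_zero fun ψ hψ => ?_
  by_cases hd : PF.dot L χ ψ = 0
  · rw [hd, zero_mul]
  · rw [h ψ hψ (not_ker hχ hB h0 hψ hd), mul_zero]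

theorem card_mul_dot (hH : H ≤ L) (h : ∀ g ∈ H, g ≠ 1 → χ g = 0) : (#H : ℂ) * PF.dot H χ (PF.one H) = χ 1 := by
  rw [card_mul_dot_one, Finset.sum_eq_single_of_mem 1 (PF.mem_fs.2 H.one_mem) fun g hg => h g (PF.mem_fs.1 hg)]

theorem cent1_of_prime (hA : (#A).Prime) (ha : a ∈ A) (h1 : a ≠ 1) : C1[a] = C[A] := by
  rw [← C_zpowers, prime_nt_eq hA (zpowers_le.2 ha) (by rwa [Ne, zpowers_eq_bot])]

variable [hp : Fact p.Prime]

theorem lift0 (hU : Abelem p U) (hn : L ≤ N[U]) (hc : p.Coprime #L) : ∃ χ, PF.IsChar L χ ∧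
    (∀ H ≤ L, ∃ n : ℕ, #(U ⊓ C[H]) = p ^ n ∧ PF.dot H χ (PF.one H) = n) ∧ (∃ n : ℕ, #U = p ^ n ∧ χ 1 = n) ∧
      ∀ H ≤ L, U ⊓ C[H] = ⊥ → PF.dot H χ (PF.one H) = 0 := by
  obtain ⟨χ, h1, h2⟩ := brauer_lift hU hn hc
  refine ⟨χ, h1, h2, by simpa [dot_bot_one] using h2 ⊥ bot_le, fun H hH h => ?_⟩
  obtain ⟨n, h3, h4⟩ := h2 H hH
  rw [h, card_bot, eq_comm, Nat.pow_eq_one, or_iff_right hp.out.ne_one] at h3
  rw [h4, h3, Nat.cast_zero]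

/-- `U` is a free `A`-module; an operator group trivial on the fixed points is trivial -/
theorem fr (hA : (#A).Prime) (hX : X ≤ C[A]) (cX : (#X).Coprime #A) (hAB : A ≤ N[B]) (hXB : X ≤ N[B])
    (h0 : B ⊓ C[A] = ⊥) (hU : Abelem p U) (hn : B ⊔ (X ⊔ A) ≤ N[U]) (hc : p.Coprime #(B ⊔ (X ⊔ A)))
    (h1 : U ⊓ C[B] = ⊥) (h : U ⊓ C[A] ≤ C[X]) : U ≤ C[X] := by
  obtain ⟨χ, hχ, h2, ⟨m, h3, h4⟩, h5⟩ := lift0 hU hn hc
  have nB : B ⊴ B ⊔ (X ⊔ A) := ⟨le_sup_left, sup_le (normG B) (sup_le hXB hAB)⟩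
  have l : X ⊔ A ≤ B ⊔ (X ⊔ A) := le_sup_right
  have k : ∀ a ∈ A, a ≠ 1 → ∀ x ∈ X, χ (x * a) = 0 := fun a ha a1 x hx => by
    have hm := l (mul_mem_sup' hx ha)
    refine van hχ nB.1 (h5 B nB.1 h1) hm fun ψ hψ hk => Ch.apply_eq_zero hψ nB hk hm (eq_bot_iff.2 ?_)
    rw [← h0, ← cent1_of_prime hA ha a1, ← C_zpowers, ← C_zpowers]
    refine inf_le_inf_left _ (centS (zpowers_le.2 (mem_of_pow_mem_coprime (expg_cardG ha) cX ?_)))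
    have := pow_mem (mem_zpowers (x * a)) #X
    rwa [Commute.mul_pow (mem_cent.1 (hX hx) a ha).symm, expg_cardG hx, one_mul] at this
  have sd : Sdprod X A (X ⊔ A) := ⟨rfl, cents_norm (centsC.1 hX), coprime_TI cX⟩
  have e1 := card_mul_dot (le_sup_right.trans l) fun a ha a1 => by simpa using k a ha a1 1 X.one_mem
  have e2 := card_mul_dot_one (X ⊔ A) χ
  rw [sum_sdprod sd, Finset.sum_eq_single_of_mem 1 (PF.mem_fs.2 A.one_mem) fun a ha a1 =>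
    Finset.sum_eq_zero fun x hx => k a (PF.mem_fs.1 ha) a1 x (PF.mem_fs.1 hx), ← sd.card] at e2
  simp only [mul_one] at e2
  obtain ⟨i, i1, i2⟩ := h2 A (le_sup_right.trans l)
  obtain ⟨j, j1, j2⟩ := h2 _ l
  obtain ⟨t, t1, t2⟩ := h2 X (le_sup_left.trans l)
  rw [BG.cent_sup, inf_comm C[X], ← inf_assoc, inf_eq_left.2 h, i1] at j1
  rw [← card_mul_dot_one, t2, j2, ← Nat.pow_right_injective hp.out.two_le j1, Nat.cast_mul, mul_assoc,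
    mul_right_inj' (PF.cardC_ne_zero X), ← i2, e1, h4, Nat.cast_inj] at e2
  exact inf_eq_left.1 (eq_of_le_of_card_ge inf_le_left (by rw [t1, h3, e2]))

variable [hq : Fact q.Prime]

theorem cnt (hQ : IsExtraspecial q Q) (hU : Abelem p U) (hn : Q ≤ N[U]) (hpq : p ≠ q) (h0 : U ⊓ C[Z[Q]] = ⊥)
    (hY : Y ≤ Q) (hi : Y ⊓ Z[Q] = ⊥) : #(U ⊓ C[Y]) ^ #Y = #U := by
  obtain ⟨pQ, -, h1, h2⟩ := extraspecial_spec hQ
  obtain ⟨χ, hχ, h3, ⟨m, h4, h5⟩, h6⟩ := lift0 hU hn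
    (Solv.coprime_card_of_isPGroup pQ ((Nat.coprime_primes hp.out hq.out).2 hpq)).symm
  obtain ⟨i, i1, i2⟩ := h3 Y hY
  have e := card_mul_dot (χ := χ) hY fun y hy y1 => van hχ inf_le_left (h6 _ inf_le_left h0) (hY hy) fun ψ hψ hk =>
    Ch.ext_vanish (P := Q) (H := ⊥) ⟨sup_bot_eq Q, bot_le, inf_bot_eq Q⟩ le_rfl (h2 ▸ hq.out) h1.le le_rfl hψ hk (hY hy)
      fun h => y1 (mem_bot.1 (hi ▸ mem_inf.2 ⟨hy, h⟩))
  rw [i2, h5] at e
  rw [i1, h4, ← pow_mul, mul_comm]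
  exact congrArg _ (by exact_mod_cast e)

omit hp hq

/-- a separating invariant family of subgroups of `U`, each containing `[U, A]` or `C` -/
def Fam (U A C L : Subgroup G) : Prop := ∃ F : Set (Subgroup G), (∀ Y ∈ F, Y ≤ U) ∧ (∀ g ∈ L, ∀ Y ∈ F, cj g Y ∈ F) ∧
  (∀ u ∈ U, (∀ Y ∈ F, u ∈ Y) → u = 1) ∧ ∀ Y ∈ F, ⁅U, A⁆ ≤ Y ∨ C ≤ Y

theorem Fam.bot (h : C = ⊥) : Fam U A C L :=
  ⟨{⊥}, by simp, by simp [cj_bot], by simp, by simp [h]⟩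

theorem Fam.res {U' C' L' : Subgroup G} (h : Fam U A C L) (hU : U' ≤ U) (hA : A ≤ N[U']) (hL : L' ≤ L)
    (hn : L' ≤ N[U']) (hC : C' ≤ U' ⊓ C) : Fam U' A C' L' := by
  obtain ⟨F, h1, h2, h3, h4⟩ := h
  refine ⟨(U' ⊓ ·) '' F, ?_, ?_, fun u hu h => h3 u (hU hu) fun Y hY => (h _ ⟨Y, hY, rfl⟩).2, ?_⟩
  · rintro _ ⟨Y, -, rfl⟩; exact inf_le_left
  · rintro g hg _ ⟨Y, hY, rfl⟩
    exact ⟨_, h2 g (hL hg) Y hY, by rw [cj_inf, cj_of_norm (hn hg)]⟩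
  · rintro _ ⟨Y, hY, rfl⟩
    exact (h4 Y hY).imp (fun e => le_inf (commg_subl hA) ((commSg _ hU).trans e)) fun e =>
      hC.trans (inf_le_inf_left _ e)

theorem cj_quo (hg : g ∈ N[N]) (hY : Y ≤ N[N]) : cj (coset N g) (Y /ᵍ N) = cj g Y /ᵍ N := by
  refine le_antisymm (fun x hx => ?_) fun x hx => ?_
  · obtain ⟨_, h1, rfl⟩ := mem_cj'.1 hx
    obtain ⟨y, hy, ny, rfl⟩ := mem_quotient_iff.1 h1
    rw [← coset_inv hg, ← coset_mul hg ny, ← coset_mul (mul_mem hg ny) (inv_mem hg)]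
    exact mem_quotient (mul_mem (mul_mem hg ny) (inv_mem hg)) (conj_mem_cj g hy)
  · obtain ⟨_, h1, -, rfl⟩ := mem_quotient_iff.1 hx
    obtain ⟨y, hy, rfl⟩ := mem_cj'.1 h1
    rw [coset_mul (mul_mem hg (hY hy)) (inv_mem hg), coset_mul hg (hY hy), coset_inv hg]
    exact conj_mem_cj _ (mem_quotient (hY hy) hy)

theorem Fam.quo (h : Fam U A C L) (hU : U ≤ N[N]) (hA : A ≤ N[N]) (hL : L ≤ N[N]) (hi : U ⊓ N = ⊥) :
    Fam (U /ᵍ N) (A /ᵍ N) (C /ᵍ N) (L /ᵍ N) := by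
  obtain ⟨F, h1, h2, h3, h4⟩ := h
  refine ⟨(· /ᵍ N) '' F, ?_, ?_, fun u hu h => ?_, ?_⟩
  · rintro _ ⟨Y, hY, rfl⟩; exact quotientS _ (h1 Y hY)
  · rintro g hg _ ⟨Y, hY, rfl⟩
    obtain ⟨g, hg', ng, rfl⟩ := mem_quotient_iff.1 hg
    exact ⟨_, h2 g hg' Y hY, (cj_quo ng ((h1 Y hY).trans hU)).symm⟩
  · obtain ⟨v, hv, nv, rfl⟩ := mem_quotient_iff.1 hu
    rw [h3 v hv fun Y hY => ?_, coset_one]
    obtain ⟨y, hy, ny, e⟩ := mem_quotient_iff.1 (h _ ⟨Y, hY, rfl⟩)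
    have : y⁻¹ * v ∈ U ⊓ N := ⟨U.mul_mem (U.inv_mem (h1 Y hY hy)) hv, (coset_eq_iff ny nv).1 e⟩
    rw [hi, mem_bot, inv_mul_eq_one] at this
    exact this ▸ hy
  · rintro _ ⟨Y, hY, rfl⟩
    exact (h4 Y hY).imp (fun e => by rw [← quotientR hU hA]; exact quotientS _ e) (quotientS _)

theorem sep_step {U₀ U₁ : Subgroup G} {ι : Type*} {s : Finset ι} {F : ι → Subgroup G} (hU : IsMulCommutative U)
    (e : U₀ ⊔ U₁ = U) (h1 : U₁ ≤ Y) (h0 : U₀ ≤ X) (h : ∀ i ∈ s, U₀ ≤ F i ∨ U₁ ≤ F i) {w : G} (hw : w ∈ U) (hY : w ∉ Y)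
    (hF : ∀ i ∈ s, w ∈ F i) : ∃ w ∈ U, w ∉ Y ∧ w ∈ X ∧ ∀ i ∈ s, w ∈ F i := by
  have l0 : U₀ ≤ U := e ▸ le_sup_left
  obtain ⟨u, hu, v, hv, rfl⟩ := (mem_sup_normr (sub_abelian_cent2 hU l0 (e ▸ le_sup_right) |> cents_norm)).1 (e ▸ hw)
  refine ⟨u, l0 hu, fun h2 => hY (mul_mem h2 (h1 hv)), h0 hu, fun i hi => (h i hi).elim (· hu) fun h3 => ?_⟩
  simpa using mul_mem (hF i hi) (inv_mem (h3 hv))

theorem Fam.mat (hA : (#A).Prime) (hU : IsMulCommutative U) (hc : (#U).Coprime #A) (hAD : A ≤ N[D])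
    (hD : ⁅D, A⁆ = D) (hn : D ⊔ A ≤ N[U]) (hUD : ⁅U, D⁆ = U) (h : Fam U A (U ⊓ C[A]) (D ⊔ A)) : U ⊓ C[A] = ⊥ := by
  classical
  obtain ⟨F, h1, h2, h3, h4⟩ := h
  have hAU : A ≤ N[U] := le_sup_right.trans hn
  have e := coprime_cent_prod hAU hc (abelian_sol hU)
  have nW : A ≤ N[⁅U, A⁆] := commg_normr U A
  have d : ∀ h ∈ D ⊔ A, ∀ Y ∈ F, cj h ⁅U, A⁆ ≤ Y ∨ cj h (U ⊓ C[A]) ≤ Y := fun h hh Y hY =>
    (h4 _ (h2 _ (inv_mem hh) Y hY)).imp cj_le_iff.2 cj_le_iff.2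
  have e' : ∀ h ∈ D ⊔ A, cj h ⁅U, A⁆ ⊔ cj h (U ⊓ C[A]) = U := fun h hh => by rw [← cj_sup, e, cj_of_norm (hn hh)]
  have key : ∀ a ∈ A, ∀ Y ∈ F, ∀ h ∈ D ⊔ A, cj h ⁅U, A⁆ ≤ Y → cj h ⁅U, A⁆ ≤ cj a Y := fun a ha Y hY => by
    by_cases k1 : ⁅U, A⁆ ≤ Y
    · rw [cj_of_norm (norm_of_commg_subl ((commSg _ (h1 Y hY)).trans k1) ha)]
      exact fun _ _ h => h
    have k2 := (h4 Y hY).resolve_left k1
    by_contra hcon
    have k3 : ∀ b ∈ A, b ≠ 1 → ∃ h ∈ D ⊔ A, cj h ⁅U, A⁆ ≤ Y ∧ ¬ cj h ⁅U, A⁆ ≤ cj b Y := fun b hb b1 => by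
      by_contra! hb'
      obtain ⟨n, rfl⟩ := (mem_powers_iff_mem_zpowers.2
        ((prime_nt_eq hA (zpowers_le.2 hb) (by rwa [Ne, zpowers_eq_bot])).ge ha))
      refine hcon (show ∀ h ∈ D ⊔ A, cj h ⁅U, A⁆ ≤ Y → cj h ⁅U, A⁆ ≤ cj (b ^ n) Y from ?_)
      clear ha hcon
      induction n with
      | zero => simp [cj_one]
      | succ n ih =>
        intro h hh h5
        rw [pow_succ', cj_mul, le_cj_iff, ← cj_mul]
        refine ih _ (mul_mem (inv_mem (mem_sup_right hb)) hh) ?_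
        rw [cj_mul, ← le_cj_iff]
        exact hb' h hh h5
    have k4 : ∀ s : Finset G, (∀ b ∈ s, b ∈ A ∧ b ≠ 1) → ∃ w ∈ U, w ∉ Y ∧ ∀ b ∈ s, w ∈ cj b Y := fun s => by
      induction s using Finset.induction_on with
      | empty => exact fun _ => by simpa using SetLike.not_le_iff_exists.1 fun h => k1 ((commg_subl hAU).trans h)
      | insert b s _ ih =>
        intro hs
        obtain ⟨w, w1, w2, w3⟩ := ih fun b hb => hs b (Finset.mem_insert_of_mem hb)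
        obtain ⟨hb, b1⟩ := hs b (Finset.mem_insert_self _ _)
        obtain ⟨h, hh, h5, h6⟩ := k3 b hb b1
        obtain ⟨w, w1, w2, w3, w4⟩ := sep_step (F := fun b => cj b Y) hU ((sup_comm _ _).trans (e' h hh)) h5
          ((d h hh _ (h2 b (mem_sup_right hb) Y hY)).resolve_left h6) (fun i hi => (d h hh _ (h2 i (mem_sup_right
            (hs i (Finset.mem_insert_of_mem hi)).1) Y hY)).symm) w1 w2 w3
        exact ⟨w, w1, w2, by simpa using ⟨w3, w4⟩⟩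
    obtain ⟨w, w1, w2, w3⟩ := k4 ((PF.fs (A : Set G)).erase 1) fun b hb =>
      ⟨PF.mem_fs.1 (Finset.mem_erase.1 hb).2, (Finset.mem_erase.1 hb).1⟩
    obtain ⟨u, hu, v, hv, rfl⟩ := (mem_sup_norml (inf_le_left.trans (commg_norml U A))).1 (e.ge w1)
    refine w2 (mul_mem ?_ (k2 hv))
    have := norm_arg (Y := Y) (B := ⊥) (abelianS (commg_subl hAU) hU) nW (coprime_abel_cent_TI hAU hc hU) bot_le hu
      (fun b hb => by simp [mem_bot.1 hb]) fun b hb b1 => by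
        have h5 := mem_cj_inv.1 (w3 b⁻¹ (Finset.mem_erase.2 ⟨fun h => b1 (by simpa using h), PF.mem_fs.2 (inv_mem hb)⟩))
        rw [show b * (u * v) * b⁻¹ = b * u * b⁻¹ * v by rw [mul_assoc _ b⁻¹, (mem_cent.1 hv.2 _ (inv_mem hb))]; group] at h5
        simpa using mul_mem h5 (inv_mem (k2 hv))
    simpa using this
  let G₀ : Subgroup G :=
    { carrier := {g | g ∈ D ⊔ A ∧ ∀ Y ∈ F, ∀ h ∈ D ⊔ A, cj h ⁅U, A⁆ ≤ Y ↔ cj h ⁅U, A⁆ ≤ cj g Y}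
      one_mem' := ⟨one_mem _, by simp [cj_one]⟩
      mul_mem' := fun {x y} hx hy => ⟨mul_mem hx.1 hy.1, fun Y hY h hh => by
        rw [cj_mul, ← hx.2 _ (h2 y hy.1 Y hY) h hh, hy.2 Y hY h hh]⟩
      inv_mem' := fun {x} hx => ⟨inv_mem hx.1, fun Y hY h hh => by
        rw [hx.2 _ (h2 _ (inv_mem hx.1) Y hY) h hh, cj_cj_inv]⟩ }
  have a0 : A ≤ G₀ := fun a ha => ⟨mem_sup_right ha, fun Y hY h hh => ⟨key a ha Y hY h hh, fun h5 => by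
    simpa [cj_inv_cj] using key _ (inv_mem ha) _ (h2 a (mem_sup_right ha) Y hY) h hh h5⟩⟩
  have n0 : D ≤ N[G₀] := le_norm_iff.2 fun k hk x hx => by
    have hk' : k ∈ D ⊔ A := mem_sup_left hk
    refine ⟨mul_mem (mul_mem hk' hx.1) (inv_mem hk'), fun Y hY h hh => ?_⟩
    rw [cj_mul, cj_mul, le_cj_iff, ← cj_mul, ← hx.2 _ (h2 _ (inv_mem hk') Y hY) _ (mul_mem (inv_mem hk') hh), cj_mul,
      cj_le_cj]
  have d0 : D ≤ G₀ := hD.ge.trans ((commgS _ a0).trans (commg_subr n0))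
  refine eq_bot_iff.2 fun u hu => mem_bot.2 (h3 u hu.1 fun Y hY => (h4 Y hY).elim (fun k => ?_) (· hu))
  have k1 : ∀ g ∈ D, cj g ⁅U, A⁆ ≤ Y := fun g hg => by
    rw [cj_le_iff, ← cj_one ⁅U, A⁆, ← (d0 (inv_mem hg)).2 Y hY 1 (one_mem _), cj_one]
    exact k
  let W := ⨆ g : D, cj (g : G) ⁅U, A⁆
  have l : W ≤ U := iSup_le fun g => cj_le_of_norm (hn (mem_sup_left g.2)) (commg_subl hAU)
  have w1 : ⁅U, A⁆ ≤ W := le_iSup_of_le (1 : D) (cj_one _).ge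
  have n1 : D ≤ N[W] := fun k hk => mem_norm_of_cj_le (by
    rw [cj_iSup]
    exact iSup_le fun g => le_iSup_of_le (⟨k, hk⟩ * g) (cj_mul _ _ _).ge)
  have n2 : A ≤ N[W] := norm_of_commg_subl ((commSg _ l).trans w1)
  have n3 := sub_abelian_norm hU l
  have : D /ᵍ W ≤ C[U /ᵍ W] := by
    rw [← hD, quotientR n1 n2]
    exact (commgS _ (centsC.1 (quotient_cents2r w1))).trans
      (commg_subr (norms_cent (quotient_norms _ (le_sup_left.trans hn))))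
  exact (iSup_le fun g => k1 g g.2 : W ≤ Y) ((quotient_cents2 n3 n1).1 (centsC.1 this) (hUD.ge hu.1))

theorem fpf_comm (hs : Sol H) (hA : A ≤ N[H]) (hc : (#H).Coprime #A) (h : H ⊓ C[A] = ⊥) : ⁅H, A⁆ = H := by
  simpa [h] using coprime_cent_prod hA hc hs

theorem Fam.norm (hU : IsMulCommutative U) (hB : IsMulCommutative B) (hAB : A ≤ N[B]) (hAU : A ≤ N[U])
    (hBU : B ≤ N[U]) (cB : (#B).Coprime #A) (cU : (#U).Coprime #B) (h0 : B ⊓ C[A] = ⊥) (h1 : U ⊓ C[B] = ⊥)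
    (hC : C ≤ U) (h : Fam U A C B) : C = ⊥ := by
  obtain ⟨F, f1, f2, f3, f4⟩ := h
  refine eq_bot_iff.2 fun c hc => mem_bot.2 (f3 c (hC hc) fun Y hY => (f4 Y hY).elim (fun k => ?_) (· hc))
  have nA : ∀ Y ∈ F, ⁅U, A⁆ ≤ Y → A ≤ N[Y] := fun Y hY k => norm_of_commg_subl ((commSg _ (f1 Y hY)).trans k)
  have a1 := normsI hAB (norms_norm (nA Y hY k))
  have n3 := sub_abelian_norm hU (f1 Y hY)
  have k1 : ⁅U, B ⊓ N[Y]⁆ ≤ Y := by
    refine (quotient_cents2 n3 inf_le_right).1 (centsC.1 ?_)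
    rw [← fpf_comm (abelian_sol (abelianS inf_le_left hB)) a1 (coprimeSg inf_le_left cB)
      (eq_bot_iff.2 (h0 ▸ inf_le_inf_right _ inf_le_left)), quotientR inf_le_right (nA Y hY k)]
    exact (commgS _ (centsC.1 (quotient_cents2r k))).trans
      (commg_subr (norms_cent (quotient_norms _ (inf_le_left.trans hBU))))
  refine mem_of_pow_mem_coprime (expg_cardG (hC hc)) (coprimegS (inf_le_left : B ⊓ N[Y] ≤ B) cU).symm
    (norm_arg hU hBU h1 inf_le_left (hC hc) (fun b hb => ?_) fun b hb hb' => ?_)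
  · simpa [commutatorElement_def, mul_assoc] using inv_mem (k1 (commutator_mem_commutator (hC hc) hb))
  · refine mem_cj_inv.1 (((f4 _ (f2 _ (inv_mem hb) Y hY)).resolve_left fun k' => hb' ?_) hc)
    have n4 := sub_abelian_norm hB (inf_le_left : B ⊓ N[Y] ≤ B)
    have := coprime_quotient_cent' n4 a1 hAB cB (.inr (abelian_sol hB))
    rw [h0, quotient_bot] at this
    refine (coset_eq_one (n4 hb)).1 (mem_bot.1 (this ▸ mem_inf.2 ⟨mem_quotient (n4 hb) hb, fun _ h => ?_⟩))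
    obtain ⟨a, ha, na, rfl⟩ := mem_quotient_iff.1 h
    rw [← coset_mul na (n4 hb), ← coset_mul (n4 hb) na, coset_eq_iff (mul_mem na (n4 hb)) (mul_mem (n4 hb) na)]
    have h2 : b * a * b⁻¹ ∈ N[Y] := mem_norm_of_cj_le (by
      rw [cj_mul, cj_mul, cj_of_norm (nA _ (f2 _ (inv_mem hb) Y hY) k' ha), cj_cj_inv])
    have h3 : a⁻¹ * b * a * b⁻¹ ∈ B ⊓ N[Y] := ⟨B.mul_mem (conj_mem_of_norm' (hAB ha) hb) (B.inv_mem hb), by
      simpa [mul_assoc] using mul_mem (inv_mem (nA Y hY k ha)) h2⟩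
    convert conj_mem_of_norm' (n4 hb) h3 using 1; group

/-- the norm argument followed by freeness, for an operator group not faithful on `U` -/
theorem Fam.nf [hp : Fact p.Prime] (hA : (#A).Prime) (hX : X ≤ C[A]) (cX : (#X).Coprime #A) (hB : IsMulCommutative B)
    (hAB : A ≤ N[B]) (hXB : X ≤ N[B]) (cB : (#B).Coprime #A) (h0 : B ⊓ C[A] = ⊥) (hU : Abelem p U)
    (hn : B ⊔ (X ⊔ A) ≤ N[U]) (hc : p.Coprime #(B ⊔ (X ⊔ A))) (h : Fam U A ⁅U ⊓ C[A], X⁆ B) : ⁅U, B⁆ ≤ C[X] := by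
  have hBU := le_sup_left.trans hn
  have hXU := le_sup_left.trans (le_sup_right.trans hn)
  have hAU := le_sup_right.trans (le_sup_right.trans hn)
  have cU : (#U).Coprime #B := coprimegS le_sup_left (Solv.coprime_card_of_isPGroup hU.pg hc.symm)
  have l := commg_subl hBU
  have n1 : B ⊔ (X ⊔ A) ≤ N[⁅U, B⁆] := sup_le (commg_normr _ _) (sup_le (normsR hXU hXB) (normsR hAU hAB))
  have a1 := le_sup_right.trans (le_sup_right.trans n1)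
  have h1 := coprime_abel_cent_TI hBU cU hU.abelian
  have l2 : ⁅⁅U, B⁆ ⊓ C[A], X⁆ ≤ ⁅U, B⁆ :=
    (commSg _ inf_le_left).trans (commg_subl (le_sup_left.trans (le_sup_right.trans n1)))
  exact fr hA hX cX hAB hXB h0 (abelemS l hU) n1 hc h1 (commG1.1 ((h.res l a1 le_rfl (commg_normr _ _)
    (le_inf l2 (commSg _ (inf_le_inf_right _ l)))).norm (abelianS l hU.abelian) hB hAB a1 (commg_normr _ _) cB
      (coprimeSg l cU) h0 h1 l2))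

end Cfsg.Agent.Sig.TU
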