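import Cfsg.Agent.Sig.TU1

/-! Shult's theorem for a level of a minimal tower (`TU.es_exc` excludes the Fermat exception, `Lv.shult`), the
descent lemmas `Lv.fix`, `Lv.down` for separating families, and the family `fam_of` attached to a faithful module. -/

set_option linter.dupNamespace false
set_option linter.unusedSectionVars false
set_option linter.unusedVariables false

namespace Cfsg.Agent.Sig.TU
open Subgroup Cfsg.Agent.BG
open scoped commutatorElement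
universe u

local notation "Sol" => Group.IsSolvable
local notation "Nil" => Group.IsNilpotent

variable {G : Type*} [Group G] [Finite G] {A B C D E H K L M N P Q R S T U V W X Y Z : Subgroup G} {n p q r s : ℕ}
  {a b g x y z : G}

theorem faith_quo (hS : S ≤ N[P]) (hP : P ≤ N[K]) (hK : S ≤ N[K]) (h : K ≤ C[P]) (hi : P ⊓ K = ⊥) (h' : S ⊓ C[P] ≤ K) :
    S /ᵍ K ⊓ C[P /ᵍ K] = ⊥ := by
  refine eq_bot_iff.2 fun x hx => ?_
  obtain ⟨y, hy, ny, rfl⟩ := mem_quotient_iff.1 hx.1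
  exact coset_id (h' ⟨hy, zpowers_le.1 (cent_of_quo (zpowers_le.2 (hS hy)) (zpowers_le.2 ny) h hi
    (by rw [quotient_zpowers ny]; exact zpowers_le.2 hx.2))⟩)

theorem comm_cent_of (hT : ⁅T, A⁆ = T) (hn : T ≤ N[P]) (h : A ≤ C[P]) : T ≤ C[P] :=
  hT.ge.trans ((commgS _ h).trans (commg_subr (norms_cent hn)))

variable [hq : Fact q.Prime]

theorem es_mk (hR : IsPGroup q R) (hZ : #Z = q) (h1 : Phi R ≤ Z) (h2 : Z[R] = Z) (h3 : ¬ R ≤ Z) : IsExtraspecial q R := by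
  have d := der1_sub_Phi (pgroup_nil hR)
  have e : ⁅R, R⁆ = Z := prime_nt_eq (hZ ▸ hq.out) (d.trans h1) fun h =>
    h3 (h2 ▸ (center_eq_of_abelian (der1_eq_bot.1 h)).ge)
  exact BG4.extraspecial_iff.2 ⟨hR, h2 ▸ le_antisymm h1 (e ▸ d), h2 ▸ e, h2 ▸ hZ⟩

theorem es_cent (hP : IsExtraspecial q P) (hT : T ≤ N[P]) (hc : (#P).Coprime #T) (hZ : T ≤ C[Z[P]])
    (h : ¬ P ⊓ C[T] ≤ Z[P]) : IsExtraspecial q ↥(P ⊓ C[T]) ∧ Z[P ⊓ C[T]] = Z[P] := by
  obtain ⟨pP, h1, -, h2⟩ := extraspecial_spec hP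
  by_cases e : ⁅P, T⁆ = ⊥
  · rw [inf_eq_left.2 (commG1.1 e)]; exact ⟨hP, rfl⟩
  have e2 : Z[P ⊓ C[T]] = Z[P] := le_antisymm (le_inf (inf_le_left.trans inf_le_left) ((le_cent_sup
    (inf_le_left.trans (es_comm hP hT hc hZ e).2.2.2) inf_le_right).trans
      (centS (coprime_cent_prod hT hc (pgroup_sol pP)).ge)))
    (le_inf (le_inf inf_le_left (centsC.1 hZ)) (inf_le_right.trans (centS inf_le_left)))
  exact ⟨es_mk (pP.to_le inf_le_left) h2 (h1 ▸ PhiS pP inf_le_left) e2 h, e2⟩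

theorem es_not_le (hP : IsExtraspecial q P) : ¬ P ≤ Z[P] := fun h => by
  obtain ⟨-, -, h1, h2⟩ := extraspecial_spec hP
  rw [← h1, commG1.2 (h.trans inf_le_right), card_bot] at h2
  exact hq.out.ne_one h2.symm

theorem es_arith (hP : IsExtraspecial q P) (hA : (#A).Prime) (hc : (#P).Coprime #A) (hn : A ≤ N[P])
    (h : P ⊓ C[A] = Z[P]) (e : #P = q ^ (2 * n + 1)) : #A ∣ q ^ n + 1 ∨ #A ∣ q ^ n - 1 :=
  repr_extraspecial_prime_sdprod_cycle hP e (prime_cyclic hA)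
    (Nat.Coprime.coprime_dvd_right (e ▸ dvd_pow_self q (by omega)) hc.symm) hn fun x hx x1 => by
      rw [cent1_of_prime hA hx x1, h]

omit hq in
/-- the Fermat exception cannot occur below a level acting without fixed points -/
theorem es_exc {d : ℕ} (hd : 0 < d) (n : ℕ) : ∀ {G : Type u} [Group G] [Finite G] {P S A : Subgroup G}, #P = n →
    IsExtraspecial 2 P → Nil S → (#P).Coprime #S → (#S).Coprime #A → (#P).Coprime #A → (#A).Prime → #A = 2 ^ d + 1 →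
    S ≤ N[P] → A ≤ N[P] → A ≤ N[S] → S ≤ C[Z[P]] → A ≤ C[Z[P]] → P ⊓ C[S] ≤ Z[P] → #⁅P, A⁆ = 2 ^ (2 * d + 1) →
    False := by
  haveI := Fact.mk Nat.prime_two
  induction n using Nat.strong_induction_on with | _ n ih => ?_
  suffices key : ∀ {G : Type u} [Group G] [Finite G] {P S A : Subgroup G}, #P = n →
      IsExtraspecial 2 P → Nil S → (#P).Coprime #S → (#S).Coprime #A → (#P).Coprime #A → (#A).Prime → #A = 2 ^ d + 1 →
      S ≤ N[P] → A ≤ N[P] → A ≤ N[S] → S ≤ C[Z[P]] → A ≤ C[Z[P]] → P ⊓ C[S] ≤ Z[P] → #⁅P, A⁆ = 2 ^ (2 * d + 1) →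
      S ⊓ C[P] = ⊥ → False by
    intro G _ _ P S A hn hP hS cS cSA cA hA e sP aP aS sZ aZ h0 hc
    have n1 : P ≤ N[S ⊓ C[P]] := cents_norm (centsC.1 inf_le_right)
    have n2 := (subcent_normal sP).2
    have n3 := normsI aS (norms_cent aP)
    have i1 := coprime_TI (coprimegS (inf_le_left : S ⊓ C[P] ≤ S) cS)
    obtain ⟨h1, h2, h3⟩ := es_quo hP n1 i1
    have cA' := card_quotient_TI n3 (coprime_TI (coprimeSg inf_le_left cSA))
    refine key (h3.trans hn) h1 (quotient_nil _ hS) (coprime_morph _ cS) (coprime_morph _ cSA) (coprime_morph _ cA)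
      (cA'.symm ▸ hA) (cA'.trans e) (quotient_norms _ sP) (quotient_norms _ aP) (quotient_norms _ aS)
      (h2 ▸ quotient_cents _ sZ) (h2 ▸ quotient_cents _ aZ) ?_ ?_ (faith_quo sP n1 n2 inf_le_right i1 le_rfl)
    · rw [← quotient_TI_subcent n1 n2 sP i1, h2]; exact quotientS _ h0
    · rw [← quotientR n1 n3, card_quotient_TI (comm_subG n1 n3) (eq_bot_iff.2 (i1 ▸ le_inf
        (inf_le_right.trans (commg_subl aP)) inf_le_left)), hc]
  intro G _ _ P S A hn hP hS cS cSA cA hA e sP aP aS sZ aZ h0 hc hf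
  haveI := Fact.mk hA
  have S1 : S ≠ ⊥ := by
    rintro rfl
    exact es_not_le hP (by simpa using h0)
  have T1 := center_nil_ne_bot hS S1
  have tS := center_sub S
  have aT := norms_center aS
  have tP := tS.trans sP
  have A1 : ⁅P, A⁆ ≠ ⊥ := fun h => by
    rw [h, card_bot] at hc; exact absurd hc.symm (Nat.one_lt_two_pow (by omega)).ne'
  obtain ⟨k1, k2, k3, -⟩ := es_comm hP aP cA aZ A1
  have l := commg_subl aP
  by_cases h : ⁅Z[S], A⁆ = ⊥
  · have h1 := centsC.1 (es_fermat k1 hc hd rfl e (commg_normr _ _) (k3.trans k2.symm) (coprimeSg l cA)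
      (coprimeSS l tS cS) (coprimeSg tS cSA) (normsR tP (cents_norm (commG1.1 h))) (k2 ▸ tS.trans sZ) (commG1'.1 h))
    have l1 := le_inf l h1
    obtain ⟨h2, h3⟩ := es_cent hP tP (coprimegS tS cS) (tS.trans sZ) fun h => es_not_le k1 (k2 ▸ l1.trans h)
    exact ih _ (hn ▸ proper_card (lt_of_le_of_ne inf_le_left fun h => T1 (eq_bot_iff.2 (hf ▸ le_inf tS
      (centsC.1 (inf_eq_left.1 h)))))) rfl h2 hS (coprimeSg inf_le_left cS) cSA (coprimeSg inf_le_left cA) hA e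
      (normsI sP (norms_cent (norms_center (normG S)))) (normsI aP (norms_cent aT)) aS (h3 ▸ sZ) (h3 ▸ aZ)
      (h3 ▸ (inf_le_inf_right _ inf_le_left).trans h0) (by
        rw [← hc, le_antisymm (commSg _ inf_le_left) ((coprime_commGid aP cA).ge.trans (commSg _ l1))])
  have l2 := (commg_subl aT).trans tS
  have cT := coprimeSg tS cSA
  have e2 := coprime_commGid aT cT
  have P1 : ⁅P, ⁅Z[S], A⁆⁆ ≠ ⊥ := fun h' => h (eq_bot_iff.2 (hf ▸ le_inf l2 (commG1'.1 h')))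
  obtain ⟨j1, j2, j3, -⟩ := es_comm hP (l2.trans sP) (coprimegS l2 cS) (l2.trans sZ) P1
  have l3 := commg_subl (l2.trans sP)
  have a1 := normsR aP (commg_normr Z[S] A)
  have P2 : ⁅⁅P, ⁅Z[S], A⁆⁆, A⁆ ≠ ⊥ := fun h' => P1 (by
    rw [← coprime_commGid (l2.trans sP) (coprimegS l2 cS)]
    exact commG1'.2 (comm_cent_of e2 (commg_normr _ _) (commG1'.1 h')))
  obtain ⟨i1, i2, i3, -⟩ := es_comm j1 a1 (coprimeSg l3 cA) (j2 ▸ aZ) P2
  obtain ⟨m, hm, em⟩ := card_extraspecial i1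
  have h1 := es_arith i1 hA (coprimeSg ((commg_subl a1).trans l3) cA) (commg_normr _ _) (i3.trans i2.symm) em
  have h2 := card_le_card (commSg A l3)
  rw [em, hc, Nat.pow_le_pow_iff_right one_lt_two] at h2
  have h3 : 2 ^ d ≤ 2 ^ m := by
    have := Nat.one_lt_two_pow hm.ne'
    rcases h1 with h1 | h1 <;> have := Nat.le_of_dvd (by omega) h1 <;> omega
  rw [Nat.pow_le_pow_iff_right one_lt_two] at h3
  exact es_frob j1 hd rfl e (by rw [em, show m = d by omega]) a1 (j2 ▸ aZ) (commg_normr _ _) (commg_normr _ _)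
    (coprimeSg l3 cA) (coprimeSS l3 l2 cS) (j3.trans j2.symm) (coprime_abel_cent_TI aT cT (center_abelian S))

omit hq in
theorem ab_cent (hA : (#A).Prime) (hX : IsMulCommutative X) (hAX : A ≤ N[X]) (hc : (#X).Coprime #A) (hW : Sol W)
    (hXW : ⁅X, A⁆ ≤ N[W]) (hAW : A ≤ N[W]) (cX : (#W).Coprime #X) (cA : (#W).Coprime #A) (h0 : W ⊓ C[A] = ⊥) :
    ⁅X, A⁆ ≤ C[W] := by
  have l := commg_subl hAX
  rw [← coprime_commGid hAX hc]
  exact abel_comm_cent (abelianS l hX) (cyclic_abelian (prime_cyclic hA)) le_rfl (fun x hx x1 =>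
    (prime_nt_eq hA (zpowers_le.2 hx) (by rwa [Ne, zpowers_eq_bot])).ge) (commg_normr _ _) (coprimeSg l hc) hW hXW hAW
    (coprimegS l cX) cA h0

/-- Shult's theorem for an extraspecial group -/
theorem es_shult (hA : (#A).Prime) (hE : IsExtraspecial q E) (aE : A ≤ N[E]) (cA : (#E).Coprime #A) (aZ : A ≤ C[Z[E]])
    (h : q = 2 → ∃ S : Subgroup G, Nil S ∧ (#E).Coprime #S ∧ (#S).Coprime #A ∧ S ≤ N[E] ∧ A ≤ N[S] ∧ S ≤ C[Z[E]] ∧
      E ⊓ C[S] ≤ Z[E]) (hW : Sol W) (eW : ⁅E, A⁆ ≤ N[W]) (aW : A ≤ N[W]) (cW : (#W).Coprime #E)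
    (cWA : (#W).Coprime #A) (hZ : ¬ Z[E] ≤ C[W]) (h0 : W ⊓ C[A] = ⊥) : ⁅E, A⁆ = ⊥ := by
  by_contra hne
  obtain ⟨k1, k2, k3, -⟩ := es_comm hE aE cA aZ hne
  have l := commg_subl aE
  have e := coprime_commGid aE cA
  obtain ⟨n, -, en⟩ := card_extraspecial hE
  obtain ⟨d, hd, h1, h2⟩ := es_bound k1 (prime_cyclic hA)
    (Nat.Coprime.coprime_dvd_right (en ▸ dvd_pow_self q (by omega)) cA.symm) (commg_normr _ _) (k2 ▸ aZ) le_rfl
    (fun x hx x1 => (prime_nt_eq hA (zpowers_le.2 hx) (by rwa [Ne, zpowers_eq_bot])).ge) (e.symm ▸ hne) hW eW aW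
    (coprimegS l cW) cWA (k2 ▸ hZ) h0
  obtain rfl : q = 2 := hq.out.eq_two_or_odd'.resolve_right fun ho => by
    have := Nat.one_lt_pow hd.ne' hq.out.one_lt
    have := (hA.even_iff).1 (h2 ▸ ho.pow.add_one)
    omega
  obtain ⟨S, s1, s2, s3, s4, s5, s6, s7⟩ := h rfl
  exact es_exc hd _ rfl hE s1 s2 s3 cA hA h2 s4 aE s5 s6 aZ s7 (e ▸ h1)

/-- a level `P / K` of a minimal tower, acted on by the next level `S` -/
structure Lv (q : ℕ) (A S P K : Subgroup G) : Prop where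
  pA : (#A).Prime
  pg : IsPGroup q P
  nil : Nil S
  cS : (#P).Coprime #S
  cSA : (#S).Coprime #A
  cA : (#P).Coprime #A
  sP : S ≤ N[P]
  aP : A ≤ N[P]
  aS : A ≤ N[S]
  nK : K ⊴ P
  sK : S ≤ N[K]
  aK : A ≤ N[K]
  c1 : ⁅Phi P, P⁆ ≤ K
  c2 : Phi (Phi P) ≤ K
  c3 : ⁅Phi P, S⁆ ≤ K
  c4 : Phi P ≤ K ∨ ⁅P, S⁆ = P

theorem Lv.quo (h : Lv q A S P K) (hA : A ≤ N[N]) (hS : S ≤ N[N]) (hP : P ≤ N[N]) (hi : N ⊓ A = ⊥) :
    Lv q (A /ᵍ N) (S /ᵍ N) (P /ᵍ N) (K /ᵍ N) := by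
  have l := (Phi_sub P).trans hP
  refine ⟨(card_quotient_TI hA hi).symm ▸ h.pA, h.pg.quo _, quotient_nil _ h.nil, coprime_morph _ h.cS,
    coprime_morph _ h.cSA, coprime_morph _ h.cA, quotient_norms _ h.sP, quotient_norms _ h.aP, quotient_norms _ h.aS,
    quotient_normal _ h.nK, quotient_norms _ h.sK, quotient_norms _ h.aK, ?_, ?_, ?_, h.c4.imp (fun e => ?_) fun e => ?_⟩
  · rw [← quotient_Phi h.pg hP, ← quotientR l hP]; exact quotientS _ h.c1
  · rw [← quotient_Phi h.pg hP, ← quotient_Phi (h.pg.to_le (Phi_sub P)) l]; exact quotientS _ h.c2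
  · rw [← quotient_Phi h.pg hP, ← quotientR l hS]; exact quotientS _ h.c3
  · rw [← quotient_Phi h.pg hP]; exact quotientS _ e
  · rw [← quotientR hP hS, e]

theorem Lv.quoK (h : Lv q A S P K) : Lv q (A /ᵍ K) (S /ᵍ K) (P /ᵍ K) ⊥ :=
  trivg_quotient K ▸ h.quo h.aK h.sK h.nK.2 (coprime_TI (coprimeSg h.nK.1 h.cA))

theorem Lv.sh1 (h : Lv q A S P ⊥) (hZ : #(Phi P) ∣ q) (aZ : A ≤ C[Phi P]) (hW : Sol W) (dW : ⁅P, A⁆ ≤ N[W])
    (aW : A ≤ N[W]) (cP : (#W).Coprime #P) (cA : (#W).Coprime #A) (h0 : W ⊓ C[A] = ⊥)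
    (h1 : Phi P = ⊥ ∨ W ⊓ C[Phi P] = ⊥) : ⁅P, A⁆ ≤ C[W] := by
  by_cases ab : IsMulCommutative P
  · exact ab_cent h.pA ab h.aP h.cA hW dW aW cP cA h0
  by_cases W0 : W = ⊥
  · simp [W0]
  have d := der1_sub_Phi (pgroup_nil h.pg)
  have Z1 : Phi P ≠ ⊥ := fun e => ab (der1_eq_bot.1 (eq_bot_iff.2 (e ▸ d)))
  have cZ : #(Phi P) = q := ((Nat.dvd_prime hq.out).1 hZ).resolve_left (card_eq_one_iff.not.2 Z1)
  have zP : Phi P ≤ Z[P] := le_inf (Phi_sub P) (commG1.1 (le_bot_iff.1 h.c1))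
  have nZ := (Phi_normal P).2
  have n1 := sup_le h.sP h.aP
  have n2 := norms_Phi n1
  obtain ⟨E', hE, nE⟩ := Maschke_abelem (A := (S ⊔ A) /ᵍ Phi P) (Phi_quotient_abelem h.pg)
    ((p'nat_coprime hq.out).2 (coprime_morphl _ (Nat.Coprime.coprime_dvd_right (cZ ▸ cardSg (Phi_sub P))
      ((h.cS.mul_right h.cA).coprime_dvd_right (card_sup_dvd (.inr h.aS))).symm))) (quotientS _ (center_sub P))
    (quotient_norms _ n1) (quotient_norms _ (norms_center n1))
  have lE : coquo (Phi P) E' ≤ P := (sub_cosetpre_quo (Phi_normal P)).2 hE.ler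
  have zE := sub_cosetpre E'
  replace nE := norms_cosetpre n2 nE
  have e1 : Z[P] ⊔ coquo (Phi P) E' = P := quotient_inj ⟨zE.trans le_sup_right, (sup_le inf_le_left lE).trans nZ⟩
    (Phi_normal P) (by rw [quotientY (inf_le_left.trans nZ) (lE.trans nZ), cosetpreK, hE.sup])
  have e2 : Z[P] ⊓ coquo (Phi P) E' ≤ Phi P := (quotient_sub1 (inf_le_right.trans (lE.trans nZ))).1
    (by rw [quotientIG _ zE, cosetpreK, hE.inf])
  generalize coquo (Phi P) E' = E at lE zE nE e1 e2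
  have e3 : Z[E] = Phi P := le_antisymm ((le_inf (le_inf (inf_le_left.trans lE) ((le_cent_sup (centsC.1
    (inf_le_right.trans (centS (inf_le_left.trans lE)))) inf_le_right).trans (centS e1.ge))) inf_le_left).trans e2)
    (le_inf zE (zP.trans (inf_le_right.trans (centS lE))))
  have es := es_mk (h.pg.to_le lE) cZ (PhiS h.pg lE) e3 fun e => ab (abelianS
    (e1.ge.trans (sup_le le_rfl (e.trans zP))) (center_abelian P))
  have aE := le_sup_right.trans nE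
  have k := es_shult h.pA es aE (coprimeSg lE h.cA) (e3 ▸ aZ) (fun _ => ⟨S, h.nil, coprimeSg lE h.cS, h.cSA,
    le_sup_left.trans nE, h.aS, e3 ▸ commG1'.1 (le_bot_iff.1 h.c3), e3 ▸ (inf_le_inf_right _ lE).trans
      ((Gen.cent_le_der_of_comm_eq h.sP h.cS (h.c4.resolve_left (Z1 ∘ le_bot_iff.1))).trans d)⟩) hW
    ((commSg _ lE).trans dW) aW (coprimegS lE cP) cA (e3 ▸ fun e => W0 (by
      rw [← h1.resolve_left Z1, inf_eq_left.2 (centsC.1 e)])) h0
  have nC := norms_cent ((commSg A (center_sub P)).trans dW)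
  rw [← e1, comm_sup_cent (commG1.1 k) (lE.trans (center_normal P).2)]
  exact ab_cent h.pA (center_abelian P) (norms_center h.aP) (coprimeSg inf_le_left h.cA) hW
    ((commSg A (center_sub P)).trans dW) aW (coprimegS inf_le_left cP) cA h0

theorem Lv.shult (h : Lv q A S P ⊥) (ab : IsMulCommutative W) (dW : ⁅P, A⁆ ≤ N[W]) (zW : Phi P ≤ N[W]) (aW : A ≤ N[W])
    (cP : (#W).Coprime #P) (cA : (#W).Coprime #A) (h0 : W ⊓ C[A] = ⊥) : ⁅P, A⁆ ≤ C[W] := by
  have hW := abelian_sol ab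
  have l := Phi_sub P
  have hZ : Abelem q (Phi P) := (trivg_Phi (h.pg.to_le l)).1 (le_bot_iff.1 h.c2)
  have zP := commG1'.1 (le_bot_iff.1 h.c1)
  have zS := commG1'.1 (le_bot_iff.1 h.c3)
  have aZ := norms_Phi h.aP
  have cZ := coprimegS l cP
  have k : ∀ Y W', Y ≤ Phi P → ⁅Phi P, A⁆ ≤ Y → Y.relIndex (Phi P) ∣ q → W' ≤ W → ⁅P, A⁆ ≤ N[W'] → A ≤ N[W'] →
      Phi P ≤ N[W'] → W' ≤ C[Y] → (Y = Phi P ∨ W' ⊓ C[Phi P] = ⊥) → W' ≤ C[⁅P, A⁆] := by
    intro Y W' hY h1 h2 h3 h4 h5 h6 h7 h8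
    have pY := cents_norm (zP.trans (centS hY))
    have aY := norm_of_commg_subl ((commSg _ hY).trans h1)
    have wY := cents_norm h7
    have i := coprime_TI (coprimeSS h3 hY cZ)
    have := h.quo aY (cents_norm (zS.trans (centS hY))) pY (coprime_TI (coprimeSg (hY.trans l) h.cA))
    rw [quotient_bot] at this
    refine centsC.1 (cent_of_quo h4 (comm_subG pY aY) (centsC.1 h7) i ?_)
    rw [quotientR pY aY]
    refine this.sh1 ?_ ?_ (quotient_sol _ (solvableS h3 hW)) (quotientR pY aY ▸ quotient_norms _ h4)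
      (quotient_norms _ h5) (coprime_morph _ (coprimeSg h3 cP)) (coprime_morph _ (coprimeSg h3 cA)) ?_ ?_
    · rwa [← quotient_Phi h.pg pY, card_quotient (l.trans pY)]
    · rw [← quotient_Phi h.pg pY]; exact centsC.1 (quotient_cents2r h1)
    · rw [← quotient_TI_subcent wY aY h5 i, eq_bot_iff.2 (h0 ▸ inf_le_inf_right _ h3 : W' ⊓ C[A] ≤ ⊥), quotient_bot]
    · rw [← quotient_Phi h.pg pY]
      exact h8.imp (fun e => by rw [← e, trivg_quotient]) fun e => by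
        rw [← quotient_TI_subcent wY (l.trans pY) h6 i, e, quotient_bot]
  have z1 := ab_cent h.pA hZ.abelian aZ (coprimeSg l h.cA) hW ((commSg _ l).trans dW) aW cZ cA h0
  have dZ := cents_norm ((commg_subl h.aP).trans zP)
  refine centsC.1 (coprime_abelem_gen_cent hZ zW cZ fun Y hY hi => ?_)
  have hY' := sup_le hY (commg_subl aZ)
  have d1 := normsI dW (norms_cent (cents_norm ((commg_subl h.aP).trans (zP.trans (centS hY')))))
  have a1 := normsI aW (norms_cent (norm_of_commg_subl ((commSg A hY').trans le_sup_right)))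
  have z2 := normsI zW (norms_cent (sub_abelian_norm hZ.abelian hY'))
  refine (le_inf inf_le_left (le_cent_sup inf_le_right (inf_le_left.trans (centsC.1 z1)))).trans
    ((coprime_cent_prod z2 (coprimeSg inf_le_left cZ) (solvableS inf_le_left hW)).ge.trans (sup_le ?_ ?_))
  · have l2 := commg_subl z2
    exact k _ _ hY' le_sup_right ((relIndex_dvd_of_le_left _ le_sup_left).trans hi) (l2.trans inf_le_left) (normsR d1 dZ)
      (normsR a1 aZ) (commg_normr _ _) (l2.trans inf_le_right)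
      (.inr (coprime_abel_cent_TI z2 (coprimeSg inf_le_left cZ) (abelianS inf_le_left ab)))
  · exact k _ _ le_rfl (commg_subl aZ) (by simp) (inf_le_left.trans inf_le_left) (normsI d1 (norms_cent dZ))
      (normsI a1 (norms_cent aZ)) (normsI z2 (norms_cent (normG _))) inf_le_right (.inl rfl)

omit hq in
theorem comm_cent_le (hU : IsMulCommutative U) (hA : A ≤ N[U]) (hX : X ≤ N[U]) (h : X ≤ C[A]) (hc : (#U).Coprime #X) :
    ⁅U, X⁆ ⊓ C[A] ≤ ⁅U ⊓ C[A], X⁆ := by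
  have n := normsI hX (norms_cent (cents_norm h))
  have l := (commg_subl n).trans inf_le_left
  refine (le_inf inf_le_left ((inf_le_inf_right _ (commg_subl hX)).trans (coprime_cent_prod n (coprimeSg inf_le_left hc)
    (abelian_sol (abelianS inf_le_left hU))).ge)).trans ?_
  rw [group_modl (.inr ((inf_le_left.trans inf_le_left).trans (sub_abelian_norm hU l))) (commSg _ inf_le_left)]
  exact sup_le le_rfl ((inf_le_inf_left _ inf_le_right).trans ((coprime_abel_cent_TI hX hc hU).le.trans bot_le))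

theorem Lv.fix0 (h : Lv q A S P ⊥) (hU : IsMulCommutative U) (dU : ⁅P, A⁆ ≤ N[U]) (zU : Phi P ≤ N[U]) (aU : A ≤ N[U])
    (cP : (#U).Coprime #P) (cA : (#U).Coprime #A) (hF : Fam U A (U ⊓ C[A]) (⁅P, A⁆ ⊔ A)) : ⁅P, A⁆ ≤ C[U] := by
  have l := commg_subl dU
  have cD := coprimegS (commg_subl h.aP) cP
  have e := coprime_commGid dU cD
  have a1 := normsR aU (commg_normr P A)
  have n1 := sup_le (commg_normr U _) a1
  refine commG1'.1 (e.symm.trans (commG1'.2 (h.shult (abelianS l hU) (commg_normr _ _)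
    (normsR zU ((Phi_sub P).trans (commg_norml _ _))) a1 (coprimeSg l cP) (coprimeSg l cA) ?_)))
  exact (hF.res l a1 le_rfl n1 (le_inf inf_le_left (inf_le_inf_right _ l))).mat h.pA (abelianS l hU) (coprimeSg l cA)
    (commg_normr _ _) (coprime_commGid h.aP h.cA) n1 e

variable [hp : Fact p.Prime]

theorem Lv.down0 (h : Lv q A S P ⊥) (hpq : p ≠ q) (hU : Abelem p U) (pU : P ≤ N[U]) (aU : A ≤ N[U])
    (cA : p.Coprime #A) (hY : Y ≤ P ⊓ C[A]) (hF : Fam U A ⁅U ⊓ C[A], Y⁆ (P ⊔ A)) : ⁅U, ⁅P, A⁆⁆ ≤ C[Y] := by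
  have yP := hY.trans inf_le_left
  have yA := hY.trans inf_le_right
  have l := commg_subl h.aP
  have zP := commG1'.1 (le_bot_iff.1 h.c1)
  have cP := (Solv.coprime_card_of_isPGroup h.pg ((Nat.coprime_primes hp.out hq.out).2 hpq)).symm
  have cL := (cP.mul_right cA).coprime_dvd_right (card_sup_dvd (.inr h.aP))
  have b1 : ⁅Y, ⁅P, A⁆⁆ ≤ Phi P := (commgSS yP l).trans (der1_sub_Phi (pgroup_nil h.pg))
  have b2 := zP.trans (centS b1)
  have b3 := b1.trans (Phi_sub P)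
  have ab := abelian_of_cent (b3.trans b2)
  have aB := normsR (cents_norm (centsC.1 yA)) (commg_normr P A)
  have b4 : ⁅Y, ⁅P, A⁆⁆ ≤ ⁅⁅Y, ⁅P, A⁆⁆, A⁆ := by
    have l1 := commg_subl aB
    have n1 := cents_norm (b2.trans (centS l1))
    conv_lhs => rw [commGC, ← coprime_commGid h.aP h.cA]
    refine three_subgroups_of_le_normalizer (l.trans n1) (commg_normr _ _) (yP.trans n1) ?_ le_rfl
    rw [commG1'.2 yA, commutator_bot_left]; exact bot_le
  have b5 : ⁅Y, ⁅P, A⁆⁆ ⊓ C[A] = ⊥ := by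
    rw [← coprime_abel_cent_TI aB (coprimeSg b3 h.cA) ab, le_antisymm (commg_subl aB) b4]
  have l2 : ⁅Y, ⁅P, A⁆⁆ ⊔ (Y ⊔ A) ≤ P ⊔ A := sup_le (b3.trans le_sup_left) (sup_le_sup_right yP _)
  have cU := Solv.coprime_card_of_isPGroup hU.pg cP.symm
  have k1 := (hF.res le_rfl aU (b3.trans le_sup_left) (b3.trans pU) (le_inf ((commSg _ inf_le_left).trans
    (commg_subl (yP.trans pU))) le_rfl)).nf h.pA yA (coprimeSg yP h.cA) ab aB (cents_norm (yP.trans b2))
    (coprimeSg b3 h.cA) b5 hU (l2.trans (sup_le pU aU)) (coprimegS l2 cL)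
  have k2 : ⁅Y, ⁅P, A⁆⁆ ≤ C[U] := commG1'.1 (by
    rw [← coprime_commGid (b3.trans pU) (coprimegS b3 cU)]
    exact commG1'.2 ((commSg _ (centsC.1 k1)).trans (commg_subl (l.trans (norms_cent (normsR pU (cents_norm b2)))))))
  have e : ⁅Y ⊔ ⁅Y, ⁅P, A⁆⁆, U⁆ = ⁅Y, U⁆ := comm_sup_cent k2 (cents_norm (centsC.1 (yP.trans b2)))
  have n1 : ⁅P, A⁆ ≤ N[⁅U, Y⁆] := by
    rw [commGC U, ← e]
    refine normsR (norm_of_commg_subl ((comm_sup_le (N := ⁅Y, ⁅P, A⁆⁆) (cents_norm (yP.trans b2)) (normG _) le_rfl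
      (commg_subl (cents_norm (l.trans b2)))).trans le_sup_right)) (l.trans pU)
  have l3 := commg_subl (yP.trans pU)
  have a1 := normsR aU (cents_norm (centsC.1 yA))
  have k3 := h.fix0 (abelianS l3 hU.abelian) n1 (normsR ((Phi_sub P).trans pU) (cents_norm (centsC.1 (yP.trans zP)))) a1
    (coprimeSg l3 cU) (coprimeSg l3 (Solv.coprime_card_of_isPGroup hU.pg cA.symm))
    (hF.res l3 a1 (sup_le_sup_right l _) (sup_le n1 a1) (le_inf inf_le_left
      (comm_cent_le hU.abelian aU (yP.trans pU) yA (coprimegS yP cU))))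
  rw [← commG1, commGC U]
  exact three_subgroup (commG1'.2 k3) (commG1.2 k2)

omit hp in
theorem Lv.fix (h : Lv q A S P K) (hK : K ≤ C[U]) (hU : IsMulCommutative U) (pU : P ≤ N[U]) (aU : A ≤ N[U])
    (cP : (#U).Coprime #P) (cA : (#U).Coprime #A) (hF : Fam U A (U ⊓ C[A]) (P ⊔ A)) : ⁅P, A⁆ ≤ C[U] := by
  have uK := cents_norm (centsC.1 hK)
  have i := coprime_TI (coprimegS h.nK.1 cP)
  have l := commg_subl h.aP
  have := hF.quo uK h.aK (sup_le h.nK.2 h.aK) i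
  rw [quotient_TI_subcent uK h.aK aU i, quotientY h.nK.2 h.aK] at this
  refine cent_of_quo (l.trans pU) (l.trans h.nK.2) hK i ?_
  rw [quotientR h.nK.2 h.aK]
  have n := quotient_norms K pU
  have l' := commg_subl h.quoK.aP
  exact h.quoK.fix0 (quotient_abelian _ hU) (l'.trans n) ((Phi_sub _).trans n) (quotient_norms _ aU) (coprime_morph _ cP)
    (coprime_morph _ cA) (this.res le_rfl (quotient_norms _ aU) (sup_le_sup_right l' _)
      (sup_le (l'.trans n) (quotient_norms _ aU)) (le_inf inf_le_left le_rfl))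

theorem Lv.down (h : Lv q A S P K) (hK : K ≤ C[U]) (hpq : p ≠ q) (hU : Abelem p U) (pU : P ≤ N[U]) (aU : A ≤ N[U])
    (cA : p.Coprime #A) (hY : Y ≤ P ⊓ C[A]) (hF : Fam U A ⁅U ⊓ C[A], Y⁆ (P ⊔ A)) : ⁅U, ⁅P, A⁆⁆ ≤ C[Y] := by
  have uK := cents_norm (centsC.1 hK)
  have i := coprime_TI (coprimegS h.nK.1 (Solv.coprime_card_of_isPGroup hU.pg
    (Solv.coprime_card_of_isPGroup h.pg ((Nat.coprime_primes hp.out hq.out).2 hpq))))
  have l := commg_subl h.aP
  have yP := hY.trans inf_le_left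
  have := hF.quo uK h.aK (sup_le h.nK.2 h.aK) i
  rw [quotientR (inf_le_left.trans uK) (yP.trans h.nK.2), quotient_TI_subcent uK h.aK aU i,
    quotientY h.nK.2 h.aK] at this
  have l2 := commg_subl (l.trans pU)
  refine centsC.1 (cent_of_quo (yP.trans (normsR pU (commg_norml _ _))) (yP.trans h.nK.2) (hK.trans (centS l2))
    (eq_bot_iff.2 (i ▸ inf_le_inf_right _ l2)) (centsC.1 ?_))
  rw [quotientR uK (l.trans h.nK.2), quotientR h.nK.2 h.aK]
  exact h.quoK.down0 hpq (quotient_abelem _ hU) (quotient_norms _ pU) (quotient_norms _ aU) (coprime_morphr _ cA)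
    (le_inf (quotientS _ yP) (quotient_cents _ (hY.trans inf_le_right))) this

omit hp hq in
/-- the kernels of the irreducible constituents of a faithful module -/
theorem fam_of (hW : IsMulCommutative W) (hV : IsMulCommutative V) (wV : W ≤ N[V]) (hc : (#V).Coprime #W)
    (hf : W ⊓ C[V] = ⊥) (lV : L ≤ N[V]) (lW : L ≤ N[W]) (aW : A ≤ N[W]) (hC : C ≤ W ⊓ C[⁅V, ⁅W, A⁆⁆]) : Fam W A C L := by
  refine ⟨{Y | ∃ N ≤ V, MinNormal N W ∧ Y = W ⊓ C[N]}, ?_, ?_, fun u hu h => by_contra fun u1 => ?_, ?_⟩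
  · rintro _ ⟨N, -, -, rfl⟩; exact inf_le_left
  · rintro g hg _ ⟨N, h1, h2, rfl⟩
    refine ⟨cj g N, cj_le_of_norm (lV hg) h1, ⟨cj_eq_bot.not.2 h2.ne, ?_, fun T h3 h4 => ?_⟩, by
      rw [cj_inf, C_cj, cj_of_norm (lW hg)]⟩
    · rw [N_cj, ← cj_of_norm (lW hg)]; exact cj_mono _ h2.norm
    · refine (h2.min (cj g⁻¹ T) (by rwa [← le_cj_iff]) ?_).imp cj_eq_bot.1 fun e => by rw [← e, cj_cj_inv]
      rw [N_cj, ← cj_of_norm (lW (inv_mem hg))]; exact cj_mono _ h4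
  · have hu' := zpowers_le.2 hu
    obtain ⟨N, h1, h2⟩ := minnormal_exists (H := ⁅V, zpowers u⁆) (M := W) (fun e => u1 (mem_bot.1 (hf ▸
      mem_inf.2 ⟨hu, zpowers_le.1 (commG1'.1 e)⟩))) (normsR wV (sub_abelian_norm hW hu'))
    refine h1.ne (eq_bot_iff.2 (coprime_abel_cent_TI (hu'.trans wV) (coprimegS hu' hc) hV ▸ le_inf h2 ?_))
    exact centsC.1 (zpowers_le.2 (h _ ⟨N, h2.trans (commg_subl (hu'.trans wV)), h1, rfl⟩).2)
  · rintro _ ⟨N, h1, h2, rfl⟩
    have l := commg_subl aW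
    refine (h2.min (N ⊓ C[⁅W, A⁆]) inf_le_left (normsI h2.norm (norms_cent (commg_norml _ _)))).symm.imp
      (fun e => le_inf l (centsC.1 (inf_eq_left.1 e))) fun e => hC.trans (inf_le_inf_left _ (centS ?_))
    exact (fpf_comm (abelian_sol (abelianS h1 hV)) (l.trans h2.norm) (coprimeSS h1 l hc) e).ge.trans (commSg _ h1)

end Cfsg.Agent.Sig.TU
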