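import Cfsg.Agent.Sig.TU2
import Cfsg.Agent.Sig.HH3

/-! The cyclic-extraspecial configuration: Fourier argument `TU.fou`, the refinement `TU.two_of_cent` of B&G 2.5, and
`TU.core`. -/

set_option linter.dupNamespace false
set_option linter.unusedSectionVars false
set_option linter.unusedVariables false

namespace Cfsg.Agent.Sig.TU
open Module Finset Subgroup Cfsg.Agent.BG Cfsg.Agent.Sig.HH
open scoped commutatorElement
universe u

local notation "Sol" => Group.IsSolvable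
local notation "Nil" => Group.IsNilpotent

section lin
variable {K V Γ : Type*} [Field K] [IsAlgClosed K] [AddCommGroup V] [Module K V] [FiniteDimensional K V] [Group Γ]
  [Finite Γ] {ρ : Γ →* End K V} {E H Z : Subgroup Γ} {b : Γ} {U W : Submodule K V}
  (h0 : (Nat.card Γ : K) ≠ 0) (hb : b ∈ N[E]) (zE : Z ≤ E) (hc : E ≤ C[Z]) (hd : ⁅E, E⁆ ≤ Z)
  (nd : ∀ g ∈ E, g ∉ Z → ∃ g' ∈ E, ⁅g', g⁆ ≠ 1) (hZ : ∀ z ∈ Z, z ≠ 1 → ∀ v, ρ z v = v → v = 0)

include h0 in
theorem card_ne (E : Subgroup Γ) : (#E : K) ≠ 0 := fun h => h0 (by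
  rw [← E.card_mul_index, Nat.cast_mul, h, zero_mul])

include zE hc hZ in
theorem irr_scalar (h : Irr ρ E U) {z : Γ} (hz : z ∈ Z) (z1 : z ≠ 1) : ∃ c : K, c ≠ 1 ∧ ∀ u ∈ U, ρ z u = c • u := by
  obtain ⟨c, e⟩ := h.scalar (h.inv (zE hz)) fun g hg => by
    rw [commutatorElement_eq_one_iff_mul_comm.2 (mem_cent.1 (hc hg) z hz)]; exact one_mem _
  have k : ∀ u ∈ U, ρ z u = c • u := fun u hu => congrArg Subtype.val (LinearMap.congr_fun e ⟨u, hu⟩)
  exact ⟨c, fun e1 => h.ne (eq_bot_iff.2 fun u hu => hZ z hz z1 u (by rw [k u hu, e1, one_smul])), k⟩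

include h0 hb zE hc hd nd hZ in
theorem exists_stable (hf : ∀ g ∈ E, ⁅b, g⁆ ∈ Z → g ∈ Z) (bZ : b ∈ C[Z]) (hW : W ≠ ⊥) (eW : E ≤ St ρ W)
    (bW : b ∈ St ρ W) : ∃ U ≤ W, Irr ρ E U ∧ b ∈ St ρ U := by
  classical
  letI := Fintype.ofFinite E
  let τ : End K V := ∑ g : E, ρ ⁅b, (g : Γ)⁆
  have m : ∀ g : E, ⁅b, (g : Γ)⁆ ∈ E := fun g => mul_mem (conj_mem_of_norm hb g.2) (inv_mem g.2)
  have t1 : ∀ W, E ≤ St ρ W → ∀ u ∈ W, τ u ∈ W := fun W hW u hu => by
    rw [LinearMap.sum_apply]; exact W.sum_mem fun g _ => hW (m g) u hu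
  have t2 : ∀ g ∈ E, ρ b⁻¹ * τ * ρ g = ρ g * (ρ b⁻¹ * τ) := fun g hg => by
    simp only [τ, mul_sum, sum_mul, ← map_mul]
    refine Fintype.sum_equiv (Equiv.mulLeft (⟨g, hg⟩ : E)⁻¹) _ _ fun k => congrArg ρ ?_
    simp only [Equiv.coe_mulLeft, Subgroup.coe_mul, Subgroup.coe_inv, commutatorElement_def]
    group
  haveI := Submodule.nontrivial_iff_ne_bot.2 hW
  obtain ⟨c, hc'⟩ := End.exists_eigenvalue ((ρ b⁻¹ * τ).restrict (p := W) (q := W) fun u hu =>
    inv_mem bW _ (t1 W eW u hu))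
  obtain ⟨v, h1, h2⟩ := hc'.exists_hasEigenvector
  obtain ⟨U, h3, h4⟩ := exists_irr (ρ := ρ) (Q := E) (W := W ⊓ End.eigenspace (ρ b⁻¹ * τ) c) (fun g hg u hu =>
    ⟨eW hg u hu.1, End.mem_eigenspace_iff.2 (by
      rw [← End.mul_apply, t2 g hg, End.mul_apply, End.mem_eigenspace_iff.1 hu.2, map_smul])⟩)
    fun e => h2 (Subtype.ext (e.le ⟨v.2, End.mem_eigenspace_iff.2
      (congrArg Subtype.val (End.mem_eigenspace_iff.1 h1))⟩))
  have k : ∀ u ∈ U, τ u = c • ρ b u := fun u hu => by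
    rw [← map_smul, ← End.mem_eigenspace_iff.1 (h3 hu).2, ← End.mul_apply, ← mul_assoc, ← map_mul, mul_inv_cancel,
      map_one, one_mul]
  have c0 : c ≠ 0 := by
    rintro rfl
    haveI := Submodule.nontrivial_iff_ne_bot.2 h4.ne
    let σ := (res ρ U).comp (inclusion h4.inv)
    have s1 : ∀ g : E, (g : Γ) ∉ Z → LinearMap.trace K U (σ g) = 0 := fun g hg => by
      obtain ⟨g', h5, h6⟩ := nd g g.2 hg
      obtain ⟨c, c1, c2⟩ := irr_scalar zE hc hZ h4 (hd (commutator_mem_commutator h5 g.2)) h6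
      have : σ ⟨g', h5⟩ * σ g * σ ⟨g', h5⟩⁻¹ = c • σ g := LinearMap.ext fun u => Subtype.ext (by
        show ρ g' (ρ g (ρ g'⁻¹ u)) = c • ρ g u
        rw [← c2 _ (h4.inv g.2 _ u.2)]
        simp only [← End.mul_apply, ← map_mul, commutatorElement_def, inv_mul_cancel_right]
        rw [mul_assoc])
      have := congrArg (LinearMap.trace K U) this
      rw [LinearMap.trace_mul_comm, ← mul_assoc, ← map_mul, inv_mul_cancel, map_one, one_mul, map_smul, smul_eq_mul,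
        eq_comm, ← sub_eq_zero, ← sub_one_mul, mul_eq_zero, sub_eq_zero] at this
      exact this.resolve_left c1
    have s2 : ∑ g : E, σ ⟨_, m g⟩ = 0 := LinearMap.ext fun u => Subtype.ext (by
      have := k u u.2
      rw [zero_smul, LinearMap.sum_apply] at this
      rw [LinearMap.sum_apply, Submodule.coe_sum]
      exact this)
    have s3 := congrArg (LinearMap.trace K U) s2
    rw [map_sum, map_zero, sum_congr rfl (g := fun g : E => if g ∈ Z.subgroupOf E then (finrank K U : K) else 0)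
      fun g _ => ?_, ← sum_filter, sum_const, nsmul_eq_mul, mul_eq_zero] at s3
    · refine s3.elim (fun e => card_ne h0 Z ?_) (fourier h4.irr0 (card_ne h0 E)).1
      rwa [← card_subgroupOf zE, Nat.card_eq_fintype_card, Fintype.card_subtype]
    · split_ifs with h5
      · rw [show (⟨_, m g⟩ : E) = 1 from Subtype.ext
          (commutatorElement_eq_one_iff_mul_comm.2 (mem_cent.1 bZ g h5).symm), map_one, LinearMap.trace_one]
      · exact s1 _ fun h6 => h5 (hf g g.2 h6)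
  exact ⟨U, h3.trans inf_le_left, h4, fun u hu => by
    rw [← inv_smul_smul₀ c0 (ρ b u), ← k u hu]; exact U.smul_mem _ (t1 U h4.inv u hu)⟩

include h0 hb zE hc hd nd hZ in
theorem fou (hf : ∀ g ∈ E, ⁅b, g⁆ ∈ Z → g ∈ Z) (bZ : b ∈ C[Z]) (ht : E ⊔ zpowers b = ⊤) (hne : ¬ E ≤ Z)
    (hT : ∀ T ≤ E, b ∈ N[T] → T ⊓ Z = ⊥ → T = ⊥) {π β : End K V} (β1 : ∀ W, b ∈ St ρ W → ∀ v ∈ W, β v ∈ W)
    (β2 : ρ b * β = β * ρ b) (hH : H ≤ E) (π1 : ∀ h ∈ H, π * ρ h = π) (π2 : ∀ g ∈ E, g ∉ H ⊔ Z → π * ρ g * β = 0) :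
    π * β = 0 := by
  classical
  letI := Fintype.ofFinite E
  have key : ∀ U, Irr ρ E U → b ∈ St ρ U → ∀ u ∈ U, π (β u) = 0 := fun U hU bU u hu => by
    by_contra h1
    obtain ⟨f, hf⟩ := Projective.exists_dual_eq_one K h1
    haveI := Submodule.nontrivial_iff_ne_bot.2 hU.ne
    let σ := (res ρ U).comp (inclusion hU.inv)
    have k1 : ∀ w ∈ U, ∀ g ∈ E, g ∈ C[H] → ρ g (β w) = f (π (ρ g (β u))) • β w := fun w hw g hg gH => by
      let θ : End K U := ((f ∘ₗ π) ∘ₗ U.subtype).smulRight ⟨β w, β1 U bU w hw⟩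
      have e := (fourier hU.irr0 (card_ne h0 E)).2 θ
      have : σ ⟨g, hg⟩ * θ = θ * σ ⟨g, hg⟩ := by
        rw [← inv_smul_smul₀ (card_ne h0 E) θ, ← e]
        simp only [mul_smul_comm, smul_mul_assoc, mul_sum, sum_mul]
        refine congrArg _ (congrArg _ (sum_congr rfl fun x _ => ?_))
        by_cases hx : (x : Γ) ∈ H ⊔ Z
        · rw [← map_mul, ← map_mul]
          congr 2
          exact Subtype.ext (mem_cent.1 (le_cent_sup (zpowers_le.2 gH) (zpowers_le.2 (hc hg)) (mem_zpowers g)) _ hx).symm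
        · have : LinearMap.trace K U (θ * σ x⁻¹) = 0 := by
            rw [LinearMap.trace_mul_comm, show σ x⁻¹ * θ = ((f ∘ₗ π) ∘ₗ U.subtype).smulRight
              (σ x⁻¹ ⟨β w, β1 U bU w hw⟩) from LinearMap.ext fun v => (σ x⁻¹).map_smul _ _, LinearMap.trace_smulRight]
            exact (congrArg f (LinearMap.congr_fun (π2 _ (inv_mem x.2) (by rwa [inv_mem_iff])) w)).trans (map_zero f)
          rw [this, zero_smul, zero_smul]
      have := congrArg Subtype.val (LinearMap.congr_fun this ⟨β u, β1 U bU u hu⟩)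
      simpa [θ, σ, res_apply, hf] using this
    have k2 : ∀ z ∈ Z, ρ z (β u) = β u → z = 1 := fun z hz e => by_contra fun z1 =>
      h1 (by rw [hZ z hz z1 _ e, map_zero])
    have k3 : H ⊓ Z = ⊥ := eq_bot_iff.2 fun z hz => by_contra fun z1 => by
      obtain ⟨c, c1, c2⟩ := irr_scalar zE hc hZ hU hz.2 z1
      have := LinearMap.congr_fun (π1 z hz.1) (β u)
      rw [End.mul_apply, c2 _ (β1 U bU u hu), map_smul] at this
      exact c1 (smul_left_injective K h1 (this.trans (one_smul _ _).symm))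
    have k4 : H ≤ C[H] := commG1.1 (eq_bot_iff.2 (k3 ▸ le_inf (der_sub H) ((dergS hH).trans hd)))
    have k5 : H ≤ ⊥ := by
      rw [← hT (E ⊓ Fx ρ (U.map β)) inf_le_left (normsI (zpowers_le.2 hb) (zpowers_le.2 (St_le_norm_Fx ?_)) (mem_zpowers b))
        (eq_bot_iff.2 fun z hz => k2 z hz.2 (hz.1.2 _ ⟨u, hu, rfl⟩))]
      · refine le_inf hH fun h hh => ?_
        rintro _ ⟨w, hw, rfl⟩
        rw [k1 w hw h (hH hh) (k4 hh), ← End.mul_apply π, π1 h hh, hf, one_smul]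
      · rintro _ ⟨w, hw, rfl⟩
        exact ⟨_, bU w hw, (LinearMap.congr_fun β2 w).symm⟩
    obtain ⟨g, hg, gZ⟩ := SetLike.not_le_iff_exists.1 hne
    obtain ⟨g', hg', h2⟩ := nd g hg gZ
    have k6 := fun g hg => k1 u hu g hg (centS k5 (by simp))
    refine h2 (k2 _ (hd (commutator_mem_commutator hg' hg)) ?_)
    have k7 : ρ (g' * g) (β u) = ρ (g * g') (β u) := by
      obtain ⟨c, e⟩ : ∃ c : K, ρ g (β u) = c • β u := ⟨_, k6 g hg⟩
      obtain ⟨c', e'⟩ : ∃ c : K, ρ g' (β u) = c • β u := ⟨_, k6 g' hg'⟩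
      rw [map_mul, map_mul, End.mul_apply, End.mul_apply, e, e', map_smul, map_smul, e, e', smul_comm]
    obtain ⟨c, hc⟩ : ∃ c : K, ρ (g * g')⁻¹ (β u) = c • β u := ⟨_, k6 _ (inv_mem (mul_mem hg hg'))⟩
    rw [show ⁅g', g⁆ = g' * g * (g * g')⁻¹ by rw [commutatorElement_def]; group, map_mul, End.mul_apply, hc, map_smul, k7,
      ← map_smul, ← hc, ← End.mul_apply, ← map_mul, mul_inv_cancel, map_one, End.one_apply]
  let M := sSup {W : Submodule K V | ⊤ ≤ St ρ W ∧ W ≤ LinearMap.ker (π * β)}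
  obtain ⟨e, he⟩ := exists_proj (ρ := ρ) (Q := ⊤) (U := M) (fun g _ => by
    change M ≤ M.comap (ρ g)
    exact sSup_le fun W hW u hu => le_sSup (s := {W : Submodule K V | ⊤ ≤ St ρ W ∧ W ≤ LinearMap.ker (π * β)}) hW
      (hW.1 (mem_top g) u hu)) (card_ne h0 ⊤)
  have hk : ∀ g, g ∈ St ρ (LinearMap.ker e) := fun g u hu => by
    rw [LinearMap.mem_ker, ← End.mul_apply, he.comm g (mem_top g), End.mul_apply, hu, map_zero]
  have : LinearMap.ker e = ⊥ := by_contra fun h => by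
    obtain ⟨U, h1, h2, h3⟩ := exists_stable h0 hb zE hc hd nd hZ hf bZ h (fun g _ => hk g) (hk b)
    have h4 : U ≤ M := le_sSup ⟨ht ▸ sup_le h2.inv (zpowers_le.2 h3), key U h2 h3⟩
    exact h2.ne (eq_bot_iff.2 fun u hu => (he.id u (h4 hu)).symm.trans (h1 hu))
  refine LinearMap.ext fun v => (sSup_le fun W hW => hW.2 : M ≤ LinearMap.ker (π * β)) ?_
  have h5 : v - e v ∈ LinearMap.ker e := by rw [LinearMap.mem_ker, map_sub, he.id _ (he.mem v), sub_self]
  rw [this, Submodule.mem_bot, sub_eq_zero] at h5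
  exact h5 ▸ he.mem v

end lin

variable {G : Type*} [Group G] [Finite G] {A B C D E H K L M N P Q R S T U V W X Y Z : Subgroup G} {n p q r s : ℕ}
  {a b g x y z : G} {χ ψ : G → ℂ}

theorem mult_zero (hχ : PF.IsChar L χ) (hB : B ≤ L) (ab : IsMulCommutative B) (hA : A ≤ B)
    (h : PF.dot A χ (PF.one A) = PF.dot B χ (PF.one B)) {l : PF.Dual B} (l1 : l ≠ 1) (hl : A ≤ PF.cfker (PF.lin l)) :
    PF.dot B χ (PF.lin l) = 0 := by
  classical
  choose m hm using fun l : PF.Dual B => (hχ.res hB).dot_nat (PF.isChar_lin l)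
  choose k hk using fun l : PF.Dual B => ((PF.isChar_lin l).res hA).dot_nat (PF.Irr_isChar (PF.one_mem_Irr A))
  simp only [PF.dot_Res_self_left] at hm hk
  have e : PF.dot A χ (PF.one A) = PF.dot A (∑ l : PF.Dual B, (m l : ℂ) • PF.lin l) (PF.one A) :=
    PF.dot_congr (fun g hg => by
      rw [PF.apply_eq_sum_Irr ((PF.CF_inv hχ.mem_CF).mono hB) (hA hg), PF.sum_Irr_of_comm ab]
      simp [hm]) fun _ _ => rfl
  rw [h, PF.dot_sum_left, ← PF.lin_one, hm] at e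
  simp only [PF.dot_smul_left, hk] at e
  have k1 : ∀ l : PF.Dual B, A ≤ PF.cfker (PF.lin l) → k l = 1 := fun l hl => by
    have := hk l
    rw [PF.dot_one_of_le_cfker hl, PF.lin_apply_one] at this
    exact_mod_cast this.symm
  have h1 := Finset.add_le_sum (s := univ) (f := fun l => m l * k l) (fun _ _ => Nat.zero_le _) (mem_univ l) (mem_univ 1) l1
  rw [← show m 1 = ∑ l, m l * k l by exact_mod_cast e, k1 l hl, k1 1 fun a ha => by
    rw [PF.Irr_mem_cfker (PF.lin_mem_Irr 1), PF.lin_one, PF.one_of_mem (hA ha), PF.one_of_mem B.one_mem]] at h1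
  rw [hm, Nat.cast_eq_zero]; omega

variable [hp : Fact p.Prime] [hq : Fact q.Prime]

/-- refinement of B&G 2.5: at most one linear character of the complement is missing -/
theorem two_of_cent (hE : IsExtraspecial q E) (hn : #E = q ^ (2 * n + 1)) (n0 : 0 < n) (ab : IsMulCommutative B)
    (hc : (#B).Coprime q) (bE : B ≤ N[E]) (hfix : ∀ x ∈ B, x ≠ 1 → E ⊓ C1[x] = Z[E]) (bZ : B ≤ C[Z[E]]) (hA : A ≤ B)
    (hU : Abelem p U) (nU : E ⊔ B ≤ N[U]) (cU : p.Coprime #(E ⊔ B)) (U0 : U ≠ ⊥) (h0 : U ⊓ C[Z[E]] = ⊥)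
    (h : U ⊓ C[A] ≤ C[B]) (hx : x ∈ B) (xA : x ∉ A) : #B = q ^ n + 1 ∧ x ^ 2 ∈ A := by
  classical
  obtain ⟨χ, hχ, h2, ⟨j, h3, h4⟩, h5⟩ := lift0 hU nU cU
  obtain ⟨ψ, hψ, hd⟩ := hχ.exists_Irr fun e => U0 (by
    rw [e, Pi.zero_apply, eq_comm, Nat.cast_eq_zero] at h4
    rwa [h4, pow_zero, card_eq_one_iff] at h3)
  have zL : Z[E] ≤ E ⊔ B := inf_le_left.trans le_sup_left
  have hk := not_ker hχ zL (h5 _ zL h0) hψ hd
  obtain ⟨a, a1, a2⟩ := h2 A (hA.trans le_sup_right)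
  obtain ⟨b, b1, b2⟩ := h2 B le_sup_right
  rw [← le_antisymm (le_inf inf_le_left h) (inf_le_inf_left _ (centS hA)), a1] at b1
  have k : ∀ g ∈ B, g ∉ A → ∃ l : PF.Dual B, PF.lin l g ≠ 1 ∧ ∀ l', l' = l ∨ l' = l⁻¹ → PF.dot B ψ (PF.lin l') = 0 :=
    fun g hg gA => by
      obtain ⟨θ, t1, t2, t3⟩ := PF.exists_Irr_ker_not_mem hA (sub_abelian_norm ab hA) hg gA
      obtain ⟨l, rfl⟩ := (PF.Irr_isChar t1).exists_lin (PF.Irr_apply_one_of_comm t1 ab)
      rw [PF.Irr_mem_cfker t1, PF.lin_apply_one] at t3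
      have l1 : l ≠ 1 := fun e => t3 (by rw [e, PF.lin_one, PF.one_of_mem hg])
      refine ⟨l, t3, fun l' hl => dot_constt hχ le_sup_right hψ hd (PF.isChar_lin l') (mult_zero hχ le_sup_right ab hA
        (by rw [a2, b2, Nat.pow_right_injective hp.out.two_le b1]) ?_ fun a ha => ?_)⟩
      · rcases hl with rfl | rfl
        exacts [l1, fun e => l1 (MonoidHom.ext fun b => inv_eq_one.1 (DFunLike.congr_fun e b))]
      · have := t2 ha
        rw [PF.Irr_mem_cfker (PF.lin_mem_Irr _), PF.lin_apply_one] at this ⊢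
        rcases hl with rfl | rfl
        · exact this
        · simp [PF.lin_inv, this]
  obtain ⟨-, -, e1, e2⟩ := extraspecial_spec hE
  have hL : Sdprod E B (E ⊔ B) := ⟨rfl, bE, coprime_TI (hn ▸ (hc.pow_right _).symm)⟩
  have hZ : Z[E] ≤ Z[E ⊔ B] := le_inf zL (le_cent_sup inf_le_right (centsC.1 bZ))
  have hN : #E = #Z[E] * (q ^ n) ^ 2 := by rw [hn, e2]; ring
  have h1 := Ch.ext_deg hL hZ inf_le_left (e2 ▸ hq.out) e1.le le_rfl (fun x hx h => (hfix x hx h).le) (e2 ▸ hc.symm) ab hN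
    hψ hk
  have h2 := (Ch.ext_sum hL hZ inf_le_left (e2 ▸ hq.out) e1.le le_rfl (fun x hx h => (hfix x hx h).le) (e2 ▸ hc.symm) hN
    hψ hk).1
  have N1 := Nat.one_lt_pow n0.ne' hq.out.one_lt
  generalize q ^ n = N at h1 h2 N1 ⊢
  choose m hm using fun l : PF.Dual B => ((PF.Irr_isChar hψ).res hL.ler).dot_nat (PF.isChar_lin l)
  simp only [PF.dot_Res_self_left] at hm
  have hi : PF.ConjInv B ψ := (PF.CF_inv (PF.Irr_CF hψ)).mono hL.ler
  have h3 := PF.apply_eq_sum_Irr hi B.one_mem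
  rw [PF.sum_Irr_of_comm ab, PF.Irr_apply_one hψ, h1] at h3
  simp only [hm, PF.lin_apply_one, mul_one] at h3
  have h4 := PF.card_mul_nrm (H := B) (φ := ψ)
  rw [PF.nrm_eq_sum_Irr hi, PF.sum_Irr_of_comm ab, ← Finset.add_sum_erase _ _ (PF.mem_fs.2 B.one_mem),
    PF.Irr_apply_one hψ, h1] at h4
  simp only [hm, Complex.norm_natCast] at h4
  have h0 : (0 : ℝ) < N ^ 2 := by positivity
  rw [h1] at h2
  have h5 : #B * ∑ l, m l ^ 2 + 1 = N ^ 2 + #B := by
    exact_mod_cast (mul_left_cancel₀ h0.ne' (by linear_combination (N : ℝ) ^ 2 * h4 + h2) :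
      (#B : ℝ) * ∑ l, (m l : ℝ) ^ 2 + 1 = N ^ 2 + #B)
  have h6 : ∑ l, m l = N := by exact_mod_cast h3.symm
  have m0 : ∀ l, PF.dot B ψ (PF.lin l) = 0 → m l = 0 := fun l h => by rwa [hm, Nat.cast_eq_zero] at h
  obtain ⟨l, -, hl⟩ := k x hx xA
  have h7 := (Ch.arith m (PF.fintype_card_Dual ab) (cardG_pos B) h6 h5).2 l (m0 l (hl l (.inl rfl))) N1
  refine ⟨h7, by_contra fun x2 => ?_⟩
  obtain ⟨l, l1, hl⟩ := k _ (pow_mem hx 2) x2
  have h8 := Finset.add_le_sum (s := univ) (f := fun l => ((m l : ℤ) - 1) ^ 2) (fun _ _ => sq_nonneg _) (mem_univ l)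
    (mem_univ l⁻¹) fun e => l1 (by
      rw [PF.lin_map_pow l hx, sq, ← PF.lin_mul_conj l hx]
      exact congrArg _ (by conv_lhs => rw [e, PF.lin_inv]
                           rfl))
  have h9 : ∑ l, ((m l : ℤ) - 1) ^ 2 = ∑ l, (m l : ℤ) ^ 2 - 2 * ∑ l, (m l : ℤ) + #B := by
    rw [Finset.mul_sum, ← Finset.sum_sub_distrib, ← PF.fintype_card_Dual ab, ← card_univ, card_eq_sum_ones,
      Nat.cast_sum, ← sum_add_distrib]
    exact sum_congr rfl fun l _ => by push_cast; ring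
  rw [h9, m0 l (hl l (.inl rfl)), m0 _ (hl _ (.inr rfl)), show ∑ l, (m l : ℤ) = N by exact_mod_cast h6,
    show ∑ l, (m l : ℤ) ^ 2 = N by
      have : ∑ l, m l ^ 2 = N := Nat.eq_of_mul_eq_mul_left (Nat.succ_pos N) (by rw [h7] at h5; nlinarith)
      exact_mod_cast this, h7] at h8
  push_cast at h8
  omega

omit hp hq in
theorem mem_of_fix (hT : T ⊴ E) (aT : a ∈ N[T]) (aE : a ∈ N[E]) (hc : (#E).Coprime #(zpowers a)) (hs : Sol E)
    (h0 : E ⊓ C1[a] ≤ T) (hg : g ∈ E) (h : ⁅a, g⁆ ∈ T) : g ∈ T := by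
  have n := hT.2 hg
  have := coprime_quotient_cent' hT.2 (zpowers_le.2 aT) (zpowers_le.2 aE) hc (.inr hs)
  rw [C_zpowers, quotientS1 h0, quotient_zpowers aT, C_zpowers] at this
  refine (coset_eq_one n).1 (mem_bot.1 (this ▸ mem_inf.2 ⟨mem_quotient n hg, mem_cent1.2 ?_⟩))
  rw [← coset_mul n aT, ← coset_mul aT n, coset_eq_iff (mul_mem n aT) (mul_mem aT n)]
  convert conj_mem_of_norm' (mul_mem n aT) h using 1
  rw [commutatorElement_def]; group

omit hp hq in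
theorem comm_le_mod (uY : U ≤ N[Y]) (hU : H ≤ N[U]) (hY : H ≤ N[Y]) (aY : A ≤ N[Y]) (k : ⁅U, A⁆ ≤ Y) :
    ⁅U, ⁅H, A⁆⁆ ≤ Y := by
  refine (quotient_cents2 uY (comm_subG hY aY)).1 (centsC.1 ?_)
  rw [quotientR hY aY]
  exact (commgS _ (centsC.1 (quotient_cents2r k))).trans (commg_subr (norms_cent (quotient_norms _ hU)))

theorem es_faith (hE : IsExtraspecial q E) (eU : E ≤ N[U]) (U0 : U ≠ ⊥) (h0 : U ⊓ C[Z[E]] = ⊥) : E ⊓ C[U] = ⊥ := by
  obtain ⟨pE, -, -, e2⟩ := extraspecial_spec hE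
  refine TI_center_nil (pgroup_nil pE) (subcent_normal eU) (by_contra fun h => U0 ?_)
  rw [← h0, eq_comm, inf_eq_left, ← prime_nt_eq (e2 ▸ hq.out) inf_le_right h]
  exact centsC.1 (inf_le_left.trans inf_le_right)

theorem fouG (hE : IsExtraspecial q E) (bE : b ∈ N[E]) (cE : (#E).Coprime #(zpowers b)) (hf : E ⊓ C1[b] = Z[E])
    (hU : Abelem p U) (nU : E ⊔ zpowers b ≤ N[U]) (cU : p.Coprime #(E ⊔ zpowers b)) (h0 : U ⊓ C[Z[E]] = ⊥)
    (hT : ∀ T ≤ E, b ∈ N[T] → T ⊓ Z[E] = ⊥ → T = ⊥) (hx : x ∈ zpowers b) (hA : A ≤ zpowers b) (hH : H ≤ E)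
    (h1 : ⁅U, H⁆ ≤ Y) (h2 : ∀ g ∈ E, g ∉ H ⊔ Z[E] → cj g ⁅U ⊓ C[A], zpowers x⁆ ≤ Y) {c : G} (hc : c ∈ U ⊓ C[A]) :
    ⁅x, c⁆ ∈ Y := by
  classical
  obtain ⟨pE, -, e1, e2⟩ := extraspecial_spec hE
  obtain ⟨d, Φ, hΦ⟩ := exists_bc (ZMod p) (AbV hU)
  obtain ⟨Y', hY'⟩ := (AbV.ofSub hU Y).exists_isCompl
  have bZ : b ∈ C[Z[E]] := zpowers_le.1 (centsC.1 (C_zpowers b ▸ hf.ge.trans inf_le_right))
  have nZ := center_normal E
  generalize hL : E ⊔ zpowers b = L at nU cU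
  have lE : E ≤ L := hL ▸ le_sup_left
  have lb : zpowers b ≤ L := hL ▸ le_sup_right
  letI := Fintype.ofFinite A
  let σ := abRep hU nU
  let π := Y'.projection _ hY'.symm
  have hπ : ∀ v, π v = 0 ↔ v.val ∈ Y := fun v => (Submodule.projection_apply_eq_zero_iff _).trans AbV.mem_ofSub
  let ρ := Φ.toMonoidHom.comp σ
  let b' : L := ⟨b, lb (mem_zpowers b)⟩
  let x' : L := ⟨x, lb hx⟩
  let ι : A → L := fun a => ⟨a, lb (hA a.2)⟩
  have m : ∀ y : L, (y : G) ∈ zpowers b → y ∈ zpowers b' := fun y ⟨i, hi⟩ => ⟨i, Subtype.ext hi⟩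
  have cm : ∀ y : L, (y : G) ∈ zpowers b → Commute (ρ b') (ρ y) := fun y hy => by
    obtain ⟨i, rfl⟩ := m y hy
    exact ((Commute.refl b').zpow_right i).map ρ
  have hβ : Φ ((σ x' - 1) * ∑ a, σ (ι a)) = (ρ x' - 1) * ∑ a, ρ (ι a) := by simp [ρ]
  have s1 : ∀ v : AbV hU, (σ x' - 1) v = AbV.mk hU ⁅x, v.val⁆ (mul_mem (conj_mem_of_norm (nU x'.2) v.val_mem)
      (inv_mem v.val_mem)) := fun v => AbV.ext (by rw [LinearMap.sub_apply, AbV.val_sub, val_abRep]; rfl)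
  have key := fou (ρ := ρ) (E := E.subgroupOf L) (H := H.subgroupOf L) (Z := Z[E].subgroupOf L) (b := b')
    (by rw [Ne, CharP.cast_eq_zero_iff _ p]; exact hp.out.coprime_iff_not_dvd.1 cU)
    (norms_subgroupOf L (zpowers_le.2 bE) (mem_zpowers b)) (fun _ h => h.1) (cents_subgroupOf L (centsC.1 inf_le_right))
    (commutator_le.2 fun g hg g' hg' => e1.le (commutator_mem_commutator hg hg'))
    (fun g hg gZ => by
      by_contra! h
      exact gZ ⟨hg, mem_cent.2 fun y hy => congrArg Subtype.val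
        (commutatorElement_eq_one_iff_mul_comm.1 (h ⟨y, lE hy⟩ hy))⟩)
    (fun z hz z1 v hv => by
      have : IsUnit (σ z - 1) := (LinearMap.isUnit_iff_ker_eq_bot _).2 (eq_bot_iff.2 fun v hv => AbV.val_eq_one.1
        (mem_bot.1 (h0.le ⟨v.val_mem, (cent1_of_prime (a := z.1) (e2 ▸ hq.out) hz fun e => z1 (Subtype.ext e)).le
          (abRep_apply_eq_self.1 (sub_eq_zero.1 hv))⟩)))
      exact ((LinearMap.isUnit_iff_ker_eq_bot _).1 (this.map Φ)).le (by
        rw [LinearMap.mem_ker, map_sub, map_one, LinearMap.sub_apply]; exact sub_eq_zero.2 hv))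
    (fun g hg h => mem_of_fix (g := g.1) nZ (cents_norm (zpowers_le.2 bZ) (mem_zpowers b)) bE cE (pgroup_sol pE) hf.le hg h)
    (cents_subgroupOf L (zpowers_le.2 bZ) (mem_zpowers b))
    (map_injective L.subtype_injective (by
      rw [Subgroup.map_sup, subgroupOf_map_subtype, inf_eq_left.2 lE, MonoidHom.map_zpowers, map_subtype_top]; exact hL))
    (fun h => es_not_le hE fun g hg => h (x := ⟨g, lE hg⟩) hg)
    (fun T h1 h2 h3 => (map_eq_bot_iff_of_injective _ L.subtype_injective).1 (hT _ (map_le_iff_le_comap.2 h1)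
      (norms_map L.subtype (zpowers_le.2 h2) ⟨_, mem_zpowers _, rfl⟩) (eq_bot_iff.2 (by
        rintro _ ⟨⟨t, ht, rfl⟩, h4⟩
        exact congrArg Subtype.val (mem_bot.1 (h3.le ⟨ht, h4⟩))))))
    (π := Φ π) (β := (ρ x' - 1) * ∑ a, ρ (ι a))
    (fun W hW v hv => by
      have k : ∀ y : L, (y : G) ∈ zpowers b → ∀ v ∈ W, ρ y v ∈ W := fun y hy => zpowers_le.2 hW (m y hy)
      have : (∑ a, ρ (ι a)) v ∈ W := by
        rw [LinearMap.sum_apply]; exact W.sum_mem fun a _ => k _ (hA a.2) v hv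
      exact W.sub_mem (k _ hx _ this) this)
    (((cm x' hx).sub_right (Commute.one_right _)).mul_right (Commute.sum_right _ _ _ fun a _ => cm _ (hA a.2)))
    (fun _ h => hH h)
    (fun h hh => (map_mul Φ _ _).symm.trans (congrArg Φ (LinearMap.ext fun v => sub_eq_zero.1 (by
      rw [End.mul_apply, ← map_sub, hπ, AbV.val_sub, val_abRep]
      exact h1 (commutator_comm U H ▸ commutator_mem_commutator hh v.val_mem)))))
    (fun g hg gH => by
      rw [← hβ, show ρ g = Φ (σ g) from rfl, ← map_mul, ← map_mul, ← map_zero Φ]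
      refine congrArg Φ (LinearMap.ext fun v => ?_)
      rw [End.mul_apply, End.mul_apply, End.mul_apply, s1, LinearMap.zero_apply, hπ, val_abRep]
      refine h2 g hg (fun h => gH ?_) (conj_mem_cj _ (commutator_comm (zpowers x) _ ▸ commutator_mem_commutator
        (mem_zpowers x) ⟨AbV.val_mem _, ?_⟩))
      · rw [← subgroupOf_sup (hH.trans lE) (nZ.1.trans lE)]; exact h
      · refine AbV.mem_ofSub.1 ((mem_ofSub_cent (hA := nU) (hA.trans lb)).2 fun a ha => ?_)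
        rw [← End.mul_apply, mul_sum]
        exact LinearMap.congr_fun (Fintype.sum_equiv (Equiv.mulLeft (⟨a, ha⟩ : A)) (fun a' => σ a * σ (ι a'))
          (fun a' => σ (ι a')) fun a' => (map_mul σ _ _).symm) v)
  rw [← hβ, ← map_mul, ← map_zero Φ] at key
  have := LinearMap.congr_fun (hΦ key) (AbV.mk hU c hc.1)
  rw [End.mul_apply, End.mul_apply, LinearMap.sum_apply, sum_congr rfl (g := fun _ => AbV.mk hU c hc.1) fun a _ =>
    (mem_ofSub_cent (hA := nU) (v := AbV.mk hU c hc.1) (hA.trans lb)).1 hc.2 (ι a) a.2, sum_const, map_nsmul, s1, LinearMap.zero_apply, hπ,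
    AbV.val_nsmul, card_univ, ← Nat.card_eq_fintype_card] at this
  exact mem_of_pow_mem_coprime (hU.pow (mul_mem (conj_mem_of_norm (nU x'.2) hc.1) (inv_mem hc.1)))
    (coprimegS (hA.trans lb) cU).symm this

omit hp hq in
theorem cyc_fix (hA : (#A).Prime) (hX : X ≤ C[A]) (cX : (#X).Coprime #A) (h1 : E ⊓ C[A] = Z) (zX : Z ≤ C[X])
    (h2 : ∀ u ∈ X, u ≠ 1 → E ⊓ C1[u] = Z) : ∀ y ∈ X ⊔ A, y ≠ 1 → E ⊓ C1[y] = Z := fun y hy y1 => by
  refine le_antisymm ?_ (le_inf (h1.ge.trans inf_le_left) (C_zpowers y ▸ centsC.1 ((zpowers_le.2 hy).trans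
    (centsC.1 (le_cent_sup zX (h1.ge.trans inf_le_right))))))
  obtain ⟨u, hu, v, hv, rfl⟩ := (mem_sup_norml (cents_norm (centsC.1 hX))).1 hy
  by_cases v1 : v = 1
  · rw [v1, mul_one] at y1 ⊢
    exact (h2 u hu y1).le
  rw [← h1, ← cent1_of_prime hA hv v1, ← C_zpowers, ← C_zpowers]
  refine inf_le_inf_left _ (centS (zpowers_le.2 (mem_of_pow_mem_coprime (expg_cardG hv) cX ?_)))
  have := pow_mem (mem_zpowers (u * v)) #X
  rwa [Commute.mul_pow (mem_cent.1 (hX hu) v hv).symm, expg_cardG hu, one_mul] at this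

theorem core (hA : (#A).Prime) (hE : IsExtraspecial q E) (hs : (#(zpowers x)).Prime) (xE : x ∈ N[E]) (aE : A ≤ N[E])
    (xA : x ∈ C[A]) (cX : (#(zpowers x)).Coprime #A) (cE : (#(zpowers x)).Coprime q) (cA : (#A).Coprime q)
    (h1 : E ⊓ C[A] = Z[E]) (h2 : E ⊓ C1[x] = Z[E]) (hU : Abelem p U) (U0 : U ≠ ⊥) (h0 : U ⊓ C[Z[E]] = ⊥)
    (nU : E ⊔ (zpowers x ⊔ A) ≤ N[U]) (cU : p.Coprime #(E ⊔ (zpowers x ⊔ A)))
    (hF : Fam U A ⁅U ⊓ C[A], zpowers x⁆ E) : #(zpowers x) = 2 ∧ ∃ n, #E = q ^ (2 * n + 1) ∧ 2 * #A = q ^ n + 1 := by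
  obtain ⟨pE, -, e1, e2⟩ := extraspecial_spec hE
  obtain ⟨n, n0, en⟩ := card_extraspecial hE
  have hX := zpowers_le.2 xA
  have xE' := zpowers_le.2 xE
  have sd : Sdprod (zpowers x) A (zpowers x ⊔ A) := ⟨rfl, cents_norm (centsC.1 hX), coprime_TI cX⟩
  have cB : (#(zpowers x ⊔ A)).Coprime q := sd.card ▸ cE.mul_left cA
  have cEB : (#E).Coprime #(zpowers x ⊔ A) := en ▸ (cB.pow_right _).symm
  have cEA := coprimegS le_sup_right cEB
  have sE := pgroup_sol pE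
  obtain ⟨b, hb⟩ := cyclicP.1 (cyclicY inferInstance (prime_cyclic hA) hX cX)
  obtain ⟨a, ha⟩ := cyclicP.1 (prime_cyclic hA)
  have zA := h1.ge.trans inf_le_right
  have zX : Z[E] ≤ C[zpowers x] := C_zpowers x ▸ h2.ge.trans inf_le_right
  have bZ := centsC.1 (le_cent_sup zX zA)
  have fix := cyc_fix hA hX cX h1 zX fun u hu u1 => by rw [cent1_of_prime hs hu u1, C_zpowers, h2]
  have eU := le_sup_left.trans nU
  have aU := le_sup_right.trans (le_sup_right.trans nU)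
  have cUE : (#U).Coprime #E := coprimegS le_sup_left (Solv.coprime_card_of_isPGroup hU.pg cU.symm)
  have hT : ∀ T ≤ E, b ∈ N[T] → T ⊓ Z[E] = ⊥ → T = ⊥ := fun T t1 t2 t3 => by
    have t4 := hb ▸ zpowers_le.2 t2
    have xT := le_sup_left.trans t4
    have tU := t1.trans eU
    have l := sup_le_sup_right t1 (zpowers x ⊔ A)
    have k := (hF.res le_rfl aU t1 tU (le_inf ((commSg _ inf_le_left).trans (commg_subl
      (le_sup_left.trans (le_sup_right.trans nU)))) le_rfl)).nf hA hX cX (der1_eq_bot.1 (eq_bot_iff.2 (t3 ▸ le_inf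
        (der_sub T) ((dergS t1).trans e1.le)))) (le_sup_right.trans t4) xT (coprimeSg t1 cEA)
      (eq_bot_iff.2 (t3 ▸ le_inf inf_le_left ((inf_le_inf_right _ t1).trans h1.le))) hU (l.trans nU) (coprimegS l cU)
    have k2 := comm_cent_of (fpf_comm (solvableS t1 sE) xT (coprimeSS t1 le_sup_left cEB) (eq_bot_iff.2 (t3 ▸ le_inf
      inf_le_left ((inf_le_inf_right _ t1).trans (C_zpowers x ▸ h2.le))))) (commg_normr U T) (centsC.1 k)
    rw [← commG1', coprime_commGid tU (coprimegS t1 cUE), commG1'] at k2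
    exact eq_bot_iff.2 (es_faith hE eU U0 h0 ▸ le_inf t1 k2)
  have b1 : b ≠ 1 := fun e => by
    rw [e, zpowers_one_eq_bot, eq_comm, sup_eq_bot_iff] at hb
    exact hA.ne_one (by rw [hb.2, card_bot])
  obtain ⟨F, f1, f2, f3, f4⟩ := hF
  have key : U ⊓ C[A] ≤ C[zpowers x] := fun c hc => by
    rw [C_zpowers, mem_cent1, eq_comm, ← commutatorElement_eq_one_iff_mul_comm]
    have m := commutator_comm (zpowers x) _ ▸ commutator_mem_commutator (mem_zpowers x) hc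
    refine f3 _ (((commSg _ inf_le_left).trans (commg_subl (le_sup_left.trans (le_sup_right.trans nU)))) m)
      fun Y hY => (f4 Y hY).elim (fun k => ?_) (· m)
    have nA : ∀ Y ∈ F, ⁅U, A⁆ ≤ Y → A ≤ N[Y] := fun Y hY k => norm_of_commg_subl ((commSg _ (f1 Y hY)).trans k)
    have a1 := normsI aE (norms_norm (nA Y hY k))
    have l := commg_subl a1
    refine fouG hE (zpowers_le.1 (hb ▸ sup_le xE' aE)) (hb ▸ cEB) (fix b (hb ▸ mem_zpowers b) b1) hU (hb ▸ nU)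
      (hb ▸ cU) h0 hT (hb ▸ mem_sup_left (mem_zpowers x)) (hb ▸ le_sup_right) (l.trans inf_le_left)
      (comm_le_mod (sub_abelian_norm hU.abelian (f1 Y hY)) (inf_le_left.trans eU) inf_le_right (nA Y hY k) k)
      (fun g hg gH => cj_le_iff.2 ((f4 _ (f2 _ (inv_mem hg) Y hY)).resolve_left fun k' => gH ?_)) hc
    have ha' : a ∈ A := ha ▸ mem_zpowers a
    have l2 : E ⊓ N[Y] ⊔ Z[E] ≤ E := sup_le inf_le_left inf_le_left
    refine (sup_le ((coprime_cent_prod a1 (coprimeSg inf_le_left cEA) (solvableS inf_le_left sE)).ge.trans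
      (sup_le_sup_left ((inf_le_inf_right _ inf_le_left).trans h1.le) _)) le_sup_right : E ⊓ N[Y] ⊔ Z[E] ≤ _)
      (mem_of_fix (sub_der1_normal (e1.le.trans le_sup_right) l2) (normsY a1 (norms_center aE) ha') (aE ha')
        (ha ▸ cEA) sE (by rw [← C_zpowers, ha, h1]; exact le_sup_right) hg (mem_sup_left ⟨?_, ?_⟩))
    · exact E.mul_mem (conj_mem_of_norm (aE ha') hg) (E.inv_mem hg)
    · have : g * a * g⁻¹ ∈ N[Y] := mem_norm_of_cj_le (by
        rw [cj_mul, cj_mul, cj_of_norm (nA _ (f2 _ (inv_mem hg) Y hY) k' ha'), cj_cj_inv])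
      simpa [commutatorElement_def, mul_assoc] using mul_mem (nA Y hY k ha') (inv_mem this)
  have xA' : ∀ y ∈ zpowers x, y ∈ A → y = 1 := fun y h h' => mem_bot.1 (sd.inf.le ⟨h, h'⟩)
  obtain ⟨k1, k2⟩ := two_of_cent hE en n0 (hb ▸ inferInstance) cB (sup_le xE' aE) fix bZ le_sup_right hU nU cU U0 h0
    (le_cent_sup key inf_le_right) (mem_sup_left (mem_zpowers x)) fun h => hs.ne_one (by
      rw [xA' x (mem_zpowers x) h, zpowers_one_eq_bot, card_bot])
  have k3 : #(zpowers x) = 2 := (Nat.prime_dvd_prime_iff_eq hs Nat.prime_two).1 (by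
    rw [Nat.card_zpowers]; exact orderOf_dvd_of_pow_eq_one (xA' _ (pow_mem (mem_zpowers x) 2) k2))
  exact ⟨k3, n, en, by rw [← k1, ← sd.card, k3]⟩

end Cfsg.Agent.Sig.TU
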