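import Cfsg.Agent.Sig.TU3

/-! The start of the descent in Turull's theorem: an extraspecial level below two levels centralised by `A`
(`TU.sa`, `TU.sb`, `TU.start0`, `TU.start`). -/

set_option linter.dupNamespace false
set_option linter.unusedSectionVars false
set_option linter.unusedVariables false

namespace Cfsg.Agent.Sig.TU
open Subgroup Cfsg.Agent.BG
open scoped commutatorElement
universe u

local notation "Sol" => Group.IsSolvable
local notation "Nil" => Group.IsNilpotent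

variable {G : Type*} [Group G] [Finite G] {A B C D E F H K L M N P Q R S T U V W X Y Z : Subgroup G} {n p q r s : ℕ}
  {a b g x y z : G}

theorem idx_cent (hZ : (#Z).Prime) (ab : IsMulCommutative B) (h : ⁅Q, B⁆ ≤ Z) (zB : Z ≤ C[B]) :
    C[B].relIndex Q ≤ #B := by
  obtain ⟨z, hz, z1⟩ := (bot_or_exists_ne_one Z).resolve_left fun e => hZ.ne_one (by rw [e, card_bot])
  haveI := Fact.mk hZ
  haveI := isCyclic_of_prime_card (α := Z) rfl
  letI := IsCyclic.commGroup (α := Z)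
  obtain ⟨φ, hφ⟩ := CommGroup.exists_apply_ne_one_of_hasEnoughRootsOfUnity Z ℂ (a := ⟨z, hz⟩)
    fun e => z1 (congrArg Subtype.val e)
  have inj : Function.Injective φ := (MonoidHom.ker_eq_bot_iff φ).1
    ((eq_bot_or_eq_top_of_prime_card φ.ker).resolve_right fun e => hφ (e.ge (mem_top _)))
  let f : Q → PF.Dual B := fun g => MonoidHom.mk' (fun y => φ ⟨⁅g.1, y.1⁆, h (commutator_mem_commutator g.2 y.2)⟩)
    fun y y' => (map_mul φ _ _).symm ▸ congrArg φ (Subtype.ext (by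
      have := mem_cent.1 (zB (h (commutator_mem_commutator g.2 y'.2))) y y.2
      simp only [Subgroup.coe_mul, commutatorElement_def] at this ⊢
      calc _ = g.1 * y * g.1⁻¹ * (g.1 * y' * g.1⁻¹ * y'.1⁻¹) * y.1⁻¹ := by group
        _ = g.1 * y * g.1⁻¹ * y.1⁻¹ * (y * (g.1 * y' * g.1⁻¹ * y'.1⁻¹)) * y.1⁻¹ := by group
        _ = _ := by rw [this]; group))
  rw [← PF.fintype_card_Dual ab, ← Nat.card_eq_fintype_card]
  refine Nat.card_le_card_of_injective (fun c : Q ⧸ C[B].subgroupOf Q => f c.out) fun c c' e => ?_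
  rw [← c.out_eq, ← c'.out_eq]
  refine QuotientGroup.eq.2 (mem_cent.2 fun y hy => ?_)
  have := mul_right_cancel (congrArg Subtype.val (inj (DFunLike.congr_fun e ⟨y, hy⟩)))
  simp only [Subgroup.coe_subtype, Subgroup.coe_mul, Subgroup.coe_inv] at this ⊢
  calc _ = c.out.1⁻¹ * (c.out.1 * y * c.out.1⁻¹) * c'.out.1 := by group
    _ = _ := by rw [this]; group

variable [hp : Fact p.Prime] [hq : Fact q.Prime]

omit hp in
theorem es_div (hA : (#A).Prime) (hE : IsExtraspecial q E) (en : #E = q ^ (2 * n + 1)) (cy : IsCyclic X) (hX : X ≤ C[A])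
    (cX : (#X).Coprime #A) (cE : (#X).Coprime q) (cA : (#A).Coprime q) (xE : X ≤ N[E]) (aE : A ≤ N[E])
    (h1 : E ⊓ C[A] = Z[E]) (zX : Z[E] ≤ C[X]) (h2 : ∀ u ∈ X, u ≠ 1 → E ⊓ C1[u] = Z[E]) :
    #X * #A ∣ q ^ n + 1 ∨ #X * #A ∣ q ^ n - 1 := by
  rw [← card_sup_TI (.inl (cents_norm hX)) (coprime_TI cX)]
  exact repr_extraspecial_prime_sdprod_cycle hE en (cyclicY cy (prime_cyclic hA) hX cX)
    (card_sup_TI (.inl (cents_norm hX)) (coprime_TI cX) ▸ cE.mul_left cA) (sup_le xE aE) (cyc_fix hA hX cX h1 zX h2)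

omit hp in
theorem es_small0 (hA : (#A).Prime) (hQ : IsExtraspecial q Q) (hs : (#F).Prime) (fA : F ≤ C[A]) (cF : (#F).Coprime #A)
    (cQ : (#F).Coprime q) (cA : (#A).Coprime q) (fQ : F ≤ N[Q]) (aQ : A ≤ N[Q]) (h1 : Q ⊓ C[A] = Z[Q])
    (fZ : F ≤ C[Z[Q]]) (h : ¬ F ≤ C[Q]) : 16 < C[F].relIndex Q := by
  obtain ⟨pQ, -, -, e2⟩ := extraspecial_spec hQ
  obtain ⟨k1, k2, k3, -⟩ := es_comm hQ fQ (Solv.coprime_card_of_isPGroup pQ cQ) fZ (mt commG1'.1 h)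
  obtain ⟨n, n0, en⟩ := card_extraspecial k1
  have l := commg_subl fQ
  have := es_div hA k1 en (prime_cyclic hs) fA cF cQ cA (commg_normr _ _) (normsR aQ (cents_norm (centsC.1 fA)))
    (le_antisymm (k2 ▸ h1 ▸ inf_le_inf_right _ l) (le_inf inf_le_left (k2 ▸ h1.ge.trans inf_le_right)))
    (k2 ▸ centsC.1 fZ) fun u hu u1 => by rw [cent1_of_prime hs hu u1, k3, k2]
  have h2 := card_inf_mul_relIndex C[F] ⁅Q, F⁆
  rw [inf_comm, k3, e2, en, pow_succ', mul_right_inj' hq.out.ne_zero, mul_comm, pow_mul] at h2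
  refine lt_of_lt_of_le ?_ (relIndex_le_of_le_right l (relIndex_pos _ _).ne')
  have h3 : 6 ≤ #F * #A := by
    have := hs.two_le
    have := hA.two_le
    have : #F ≠ #A := fun e => hA.ne_one (by rwa [e, Nat.coprime_self] at cF)
    rcases lt_or_gt_of_ne this with h | h <;> nlinarith
  have h4 := Nat.one_lt_pow n0.ne' hq.out.one_lt
  have : 5 ≤ q ^ n := by rcases this with h | h <;> have := Nat.le_of_dvd (by omega) h <;> omega
  rw [h2]; nlinarith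

omit hp in
theorem es_small (hA : (#A).Prime) (hQ : IsExtraspecial q Q) (fA : F ≤ C[A]) (cF : (#F).Coprime #A)
    (cQ : (#F).Coprime q) (cA : (#A).Coprime q) (fQ : F ≤ N[Q]) (aQ : A ≤ N[Q]) (h1 : Q ⊓ C[A] = Z[Q])
    (fZ : F ≤ C[Z[Q]]) (h : ¬ F ≤ C[Q]) : 16 < C[F].relIndex Q := by
  obtain ⟨pQ, -⟩ := extraspecial_spec hQ
  have n1 : Q ≤ N[F ⊓ C[Q]] := cents_norm (centsC.1 inf_le_right)
  have n2 := (subcent_normal fQ).2
  have n3 : A ≤ N[F ⊓ C[Q]] := cents_norm (centsC.1 (inf_le_left.trans fA))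
  have i1 := coprime_TI (coprimegS (inf_le_left : F ⊓ C[Q] ≤ F) (Solv.coprime_card_of_isPGroup pQ cQ))
  obtain ⟨k1, k2, -⟩ := es_quo hQ n1 i1
  have cA' := card_quotient_TI n3 (coprime_TI (coprimeSg inf_le_left cF))
  have f0 := faith_quo fQ n1 n2 inf_le_right i1 le_rfl
  have F0 : F /ᵍ (F ⊓ C[Q]) ≠ ⊥ := fun e => h (((quotient_sub1 n2).1 e).trans inf_le_right)
  obtain ⟨F', l, e⟩ := Cauchy_sub (Nat.minFac_prime (cardG_gt1 F0).ne') (Nat.minFac_dvd _)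
  have pr := e ▸ Nat.minFac_prime (cardG_gt1 F0).ne'
  have := es_small0 (cA'.symm ▸ hA) k1 pr (l.trans (quotient_cents _ fA)) (coprimeSg l (coprime_morph _ cF))
    (coprimeSg l (coprime_morphl _ cQ)) (cA'.symm ▸ cA) (l.trans (quotient_norms _ fQ)) (quotient_norms _ aQ)
    (by rw [← quotient_TI_subcent n1 n3 aQ i1, h1, k2]) (k2 ▸ l.trans (quotient_cents _ fZ)) fun h' =>
      pr.ne_one (card_eq_one_iff.2 (eq_bot_iff.2 (f0 ▸ le_inf l h')))
  rw [← inf_relIndex_left Q C[F], ← index_quotient_eq inf_le_left n1 (i1.le.trans bot_le),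
    quotient_TI_subcent n1 n2 fQ i1, inf_relIndex_left]
  exact this.trans_le (relIndex_le_of_le_left (centS l) (relIndex_pos _ _).ne')

theorem cnt_le (hQ : IsExtraspecial q Q) (hU : Abelem p U) (hn : Q ≤ N[U]) (hpq : p ≠ q) (h0 : U ⊓ C[Z[Q]] = ⊥)
    (hW : W ≤ U) (W0 : W ≠ ⊥) (hY : Y ≤ Q) (h : Y ≤ C[W]) : #W ^ #Y ≤ #U := by
  obtain ⟨-, -, -, e2⟩ := extraspecial_spec hQ
  rw [← cnt hQ hU hn hpq h0 hY (by_contra fun e => W0 (eq_bot_iff.2 (h0 ▸ le_inf hW (centsC.1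
    ((prime_nt_eq (e2 ▸ hq.out) inf_le_right e).ge.trans (inf_le_left.trans h))))))]
  exact Nat.pow_le_pow_left (card_le_card (le_inf hW (centsC.1 h))) _

/-- an operator `q`-group -/
theorem sb (hA : (#A).Prime) (hQ : IsExtraspecial q Q) (pX : IsPGroup q X) (xQ : X ≤ N[Q]) (aQ : A ≤ N[Q])
    (xA : X ≤ C[A]) (xZ : X ≤ C[Z[Q]]) (cA : (#A).Coprime q) (h1 : Q ⊓ C[A] = Z[Q]) (hU : Abelem p U) (U0 : U ≠ ⊥)
    (h0 : U ⊓ C[Z[Q]] = ⊥) (nU : Q ⊔ (X ⊔ A) ≤ N[U]) (hpq : p ≠ q) (cU : p.Coprime #(Q ⊔ (X ⊔ A)))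
    (hF : Fam U A ⁅U ⊓ C[A], X⁆ Q) : C[X].relIndex Q ≤ 4 := by
  by_cases h : X ≤ C[Q]
  · rw [relIndex_eq_one.2 (centsC.1 h)]; norm_num
  obtain ⟨pQ, -, e1, e2⟩ := extraspecial_spec hQ
  have cQA := Solv.coprime_card_of_isPGroup pQ cA
  have zA := h1.ge.trans inf_le_right
  have k0 : ∀ D, ⁅D, X⁆ ≤ Z[Q] → ⁅D, A⁆ ≤ C[X] := fun D hD => by
    rw [← commG1, commGC D]
    exact three_subgroup (commG1.2 (hD.trans zA)) (by rw [commG1.2 xA, commutator_bot_left])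
  have M0 : ¬ ⁅Q, X⁆ ≤ Z[Q] := fun e => h (centsC.1 ((coprime_cent_prod aQ cQA (pgroup_sol pQ)).ge.trans
    (sup_le (k0 Q e) (h1 ▸ centsC.1 xZ))))
  have lM := commg_subl xQ
  obtain ⟨D, ⟨d1, d2, d3, d4⟩, d5⟩ := (Set.toFinite {D | D ≤ ⁅Q, X⁆ ∧ A ≤ N[D] ∧ X ≤ N[D] ∧ ¬ D ≤ Z[Q]}).exists_minimal
    ⟨_, le_rfl, normsR aQ (cents_norm (centsC.1 xA)), commg_normr _ _, M0⟩
  have dQ := d1.trans lM
  have d6 := nil_comm_properl (pgroup_nil (pQ.to_sup_of_normal_left' pX xQ)) (dQ.trans le_sup_left)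
    (fun e => d4 (e ▸ bot_le)) le_sup_right d3
  have d7 : ⁅D, X⁆ ≤ Z[Q] := by_contra fun e => d6.not_ge (d5 ⟨d6.le.trans d1, normsR d2 (cents_norm (centsC.1 xA)),
    commg_normr _ _, e⟩ d6.le)
  have r1 : ⁅Q, X⁆ ≤ C[Q ⊓ C[X]] := by
    rw [← commG1, commGC Q]
    exact three_subgroup (commG1.2 (((commgS _ inf_le_left).trans e1.le).trans (centsC.1 xZ)))
      (by rw [commG1.2 inf_le_right, commutator_bot_left])
  have l1 := commg_subl d2
  have bX := k0 D d7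
  have bQ := l1.trans dQ
  have ab : IsMulCommutative ↥⁅D, A⁆ := abelian_of_cent ((l1.trans (d1.trans r1)).trans (centS (le_inf bQ bX)))
  have aB := commg_normr D A
  have b0 : ⁅D, A⁆ ⊓ C[A] = ⊥ := by
    rw [← coprime_abel_cent_TI aB (coprimeSg bQ cQA) ab, coprime_commGid d2 (coprimeSg dQ cQA)]
  have B0 : ⁅D, A⁆ ≠ ⊥ := fun e => d4 (h1 ▸ le_inf dQ (commG1.1 e))
  generalize ⁅D, A⁆ = B at bX bQ ab aB b0 B0
  have qU := le_sup_left.trans nU
  have xU := le_sup_left.trans (le_sup_right.trans nU)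
  have bU := bQ.trans qU
  have l2 := sup_le_sup_right bQ (X ⊔ A)
  have k1 := (hF.res le_rfl (le_sup_right.trans (le_sup_right.trans nU)) bQ bU (le_inf ((commSg _ inf_le_left).trans
    (commg_subl xU)) le_rfl)).nf hA xA (Solv.coprime_card_of_isPGroup pX cA) ab aB (cents_norm (centsC.1 bX))
      (coprimeSg bQ cQA) b0 hU (l2.trans nU) (coprimegS l2 cU)
  have b3 : 3 ≤ #B := by
    have := cardG_gt1 B0
    by_contra h3
    have e : #B = 2 := by omega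
    have := relIndex_cent_prime_dvd (e ▸ Nat.prime_two) aB
    rw [e, Nat.dvd_one, relIndex_eq_one] at this
    exact B0 (by rw [← b0, inf_eq_left.2 (centsC.1 this)])
  have c1 := cnt hQ hU qU hpq h0 bQ (eq_bot_iff.2 (b0 ▸ inf_le_inf_left _ zA))
  have c2 := (coprime_abelian_cent_dprod bU (coprimegS (le_sup_left.trans l2)
    (Solv.coprime_card_of_isPGroup hU.pg cU.symm)) hU.abelian).card
  have l3 := commg_subl bU
  have c0 : 1 < #(U ⊓ C[B]) := by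
    have := cardG_gt1 U0
    rw [← c1] at this
    exact (Nat.one_lt_pow_iff (by omega)).1 this
  generalize #(U ⊓ C[B]) = c at c0 c1 c2
  obtain ⟨b, hb⟩ : ∃ b, #B = b + 2 := ⟨#B - 2, by omega⟩
  rw [← c1, hb, pow_succ, Nat.mul_left_inj (by omega)] at c2
  have k2 : Q ⊓ C[⁅U, B⁆] = ⊥ := by
    have := cnt_le hQ hU qU hpq h0 l3 (fun e => by
      rw [e, card_bot] at c2; exact (Nat.one_lt_pow (by omega) c0).ne c2) inf_le_left inf_le_right
    rw [c2, ← c1, ← pow_mul, Nat.pow_le_pow_iff_right c0, hb] at this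
    by_contra e
    have := cardG_gt1 e
    nlinarith
  have k3 : Q ⊓ C[B] ≤ C[X] := commG1.1 (eq_bot_iff.2 (k2 ▸ le_inf ((commSg _ inf_le_left).trans lM)
    ((commgS _ (centsC.1 k1)).trans (commg_subr (norms_cent (normsR (inf_le_left.trans qU) (cents_norm inf_le_right)))))))
  obtain ⟨g, hg, x, hx, hy⟩ : ∃ g ∈ Q, ∃ x ∈ X, ⁅g, x⁆ ≠ 1 := by
    by_contra! e
    exact M0 (commutator_le.2 fun g hg x hx => e g hg x hx ▸ one_mem _)
  have l4 := cj_le_of_norm (qU hg) l3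
  have c3 := card_sup_mul_inf (.inl (l3.trans (sub_abelian_norm hU.abelian l4)))
  have c4 := card_le_card (sup_le l3 l4)
  rw [card_cj, c2] at c3
  have c5 : c ^ b ≤ #(⁅U, B⁆ ⊓ cj g ⁅U, B⁆) := Nat.le_of_mul_le_mul_left (by
    calc c ^ (b + 2) * c ^ b = _ := by rw [← pow_add, ← pow_add]; congr 1; omega
      _ = _ := c3.symm
      _ ≤ _ := Nat.mul_le_mul_right _ (by rwa [← c1, hb] at c4)) (pow_pos (by omega : 0 < c) (b + 2))
  have c6 := cnt_le hQ hU qU hpq h0 (W := ⁅U, B⁆ ⊓ cj g ⁅U, B⁆) (inf_le_left.trans l3) (fun e => by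
    rw [e, card_bot] at c5; exact (Nat.one_lt_pow (by omega) c0).not_ge c5)
    (zpowers_le.2 (lM (commutator_mem_commutator hg hx))) (zpowers_le.2 (mul_mem (centS inf_le_right
      (C_cj g _ ▸ conj_mem_cj g (centsC.1 k1 hx))) (inv_mem (centS inf_le_left (centsC.1 k1 hx)))))
  have c7 := ((Nat.pow_le_pow_right (by omega) (Nat.mul_le_mul_left b (cardG_gt1 (A := zpowers ⁅g, x⁆)
    (by rwa [Ne, zpowers_eq_bot])))).trans_eq (pow_mul c _ _)).trans ((Nat.pow_le_pow_left c5 _).trans c6)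
  rw [← c1, hb, Nat.pow_le_pow_iff_right c0] at c7
  have := idx_cent (e2 ▸ hq.out) ab ((commgS _ bQ).trans e1.le) (inf_le_right.trans (centS bQ))
  rw [← inf_relIndex_left Q] at this
  exact (relIndex_le_of_le_left k3 (relIndex_pos _ _).ne').trans (this.trans (by omega))

omit hp hq in
theorem Fam.mono {C' L' : Subgroup G} (h : Fam U A C L) (hC : C' ≤ C) (hL : L' ≤ L) : Fam U A C' L' :=
  let ⟨F, h1, h2, h3, h4⟩ := h
  ⟨F, h1, fun g hg => h2 g (hL hg), h3, fun Y hY => (h4 Y hY).imp_right hC.trans⟩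

theorem mat_es (hA : (#A).Prime) (hR : IsExtraspecial q R) (aR : A ≤ N[R]) (cA : (#R).Coprime #A) (aZ : A ≤ C[Z[R]])
    (h : q = 2 → ∃ S : Subgroup G, Nil S ∧ (#R).Coprime #S ∧ (#S).Coprime #A ∧ S ≤ N[R] ∧ A ≤ N[S] ∧ S ≤ C[Z[R]] ∧
      R ⊓ C[S] ≤ Z[R]) (hU : Abelem p U) (h0 : U ⊓ C[Z[R]] = ⊥) (nU : R ⊔ (X ⊔ A) ≤ N[U])
    (cU : p.Coprime #(R ⊔ (X ⊔ A))) (xA : X ≤ C[A]) (xR : X ≤ C[R]) (hF : Fam U A ⁅U ⊓ C[A], X⁆ (R ⊔ A))
    (hne : ¬ X ≤ C[U]) : ⁅R, A⁆ = ⊥ := by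
  by_contra h1
  obtain ⟨-, k2, -⟩ := es_comm hR aR cA aZ h1
  have cL := Solv.coprime_card_of_isPGroup hU.pg cU.symm
  have xU := le_sup_left.trans (le_sup_right.trans nU)
  have aU := le_sup_right.trans (le_sup_right.trans nU)
  have l := commg_subl xU
  have lD := commg_subl aR
  have r1 := normsR (le_sup_left.trans nU) (cents_norm (centsC.1 xR))
  have a1 := normsR aU (cents_norm (centsC.1 xA))
  have ab := abelianS l hU.abelian
  have cR := coprimeSS l le_sup_left cL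
  have cA' := coprimeSS l (le_sup_right.trans le_sup_right) cL
  have n1 := sup_le (lD.trans r1) a1
  exact h1 (es_shult hA hR aR cA aZ h (abelian_sol ab) (lD.trans r1) a1 cR cA' (fun e => hne (commG1'.1
    (eq_bot_iff.2 (h0 ▸ le_inf l (centsC.1 e))))) ((hF.res l a1 (sup_le_sup_right lD _) n1 (le_inf inf_le_left
      (comm_cent_le hU.abelian aU xU xA (coprimegS (le_sup_left.trans le_sup_right) cL)))).mat hA ab cA'
        (commg_normr _ _) (coprime_commGid aR cA) n1 (fpf_comm (abelian_sol ab) (lD.trans r1) (coprimegS lD cR)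
          (eq_bot_iff.2 (h0 ▸ inf_le_inf l (centS (k2 ▸ inf_le_left)))))))

/-- an operator `q'`-group -/
theorem sa (hA : (#A).Prime) (hQ : IsExtraspecial q Q) (cX : (#X).Coprime q) (xQ : X ≤ N[Q]) (aQ : A ≤ N[Q])
    (xA : X ≤ C[A]) (cXA : (#X).Coprime #A) (xZ : X ≤ C[Z[Q]]) (cA : (#A).Coprime q) (h1 : Q ⊓ C[A] = Z[Q])
    (hU : Abelem p U) (U0 : U ≠ ⊥) (h0 : U ⊓ C[Z[Q]] = ⊥) (nU : Q ⊔ (X ⊔ A) ≤ N[U]) (cU : p.Coprime #(Q ⊔ (X ⊔ A)))
    (hF : Fam U A ⁅U ⊓ C[A], X⁆ (Q ⊔ A)) (f1 : X ⊓ C[Q] = ⊥) (f2 : X ⊓ C[U] = ⊥) (hH : H ≤ N[Q]) :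
    ⁅Q, ⁅X, H⁆⁆ ≤ Z[Q] := by
  obtain ⟨pQ, -, e1, e2⟩ := extraspecial_spec hQ
  obtain ⟨n, n0, en⟩ := card_extraspecial hQ
  have cQA := Solv.coprime_card_of_isPGroup pQ cA
  have cQX := Solv.coprime_card_of_isPGroup pQ cX
  have sQ := pgroup_sol pQ
  have zA := h1.ge.trans inf_le_right
  have k1 : ∀ x ∈ X, (#(zpowers x)).Prime → Q ⊓ C1[x] = Z[Q] ∧ 2 * #A = q ^ n + 1 := fun x hx hs => by
    have l := zpowers_le.2 hx
    have x1 : ∀ Y, X ⊓ Y = ⊥ → ¬ zpowers x ≤ Y := fun Y h e =>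
      hs.ne_one (card_eq_one_iff.2 (eq_bot_iff.2 (h ▸ le_inf l e)))
    obtain ⟨j1, j2, j3, -⟩ := es_comm hQ (l.trans xQ) (coprimegS l cQX) (l.trans xZ) (mt commG1'.1 (x1 _ f1))
    have lE := commg_subl (l.trans xQ)
    have l2 : ∀ E ≤ Q, E ⊔ (zpowers x ⊔ A) ≤ Q ⊔ (X ⊔ A) := fun E h => sup_le_sup h (sup_le_sup_right l _)
    obtain ⟨j4, m, j5, j6⟩ := core hA j1 hs (commg_normr _ _ (mem_zpowers x))
      (normsR aQ (cents_norm (centsC.1 (l.trans xA)))) (xA hx) (coprimeSg l cXA) (coprimeSg l cX) cA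
      (le_antisymm (j2 ▸ h1 ▸ inf_le_inf_right _ lE) (le_inf inf_le_left (j2 ▸ zA))) (by rw [← C_zpowers, j3, j2]) hU U0
      (j2 ▸ h0) ((l2 _ lE).trans nU) (coprimegS (l2 _ lE) cU) (hF.mono (commgS _ l) (lE.trans le_sup_left))
    have j7 : Q ⊓ C[zpowers x] ≤ Z[Q] := by_contra fun h => by
      obtain ⟨i1, i2⟩ := es_cent hQ (l.trans xQ) (coprimegS l cQX) (l.trans xZ) h
      exact h (h1 ▸ le_inf inf_le_left (commG1.1 (mat_es hA i1 (normsI aQ (norms_cent (cents_norm (centsC.1 (l.trans xA)))))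
        (coprimeSg inf_le_left cQA) (i2 ▸ centsC.1 zA) (fun e => absurd (e ▸ j4 ▸ coprimeSg l cX) (by norm_num)) hU
        (i2 ▸ h0) ((l2 _ inf_le_left).trans nU) (coprimegS (l2 _ inf_le_left) cU) (l.trans xA) (centsC.1 inf_le_right)
        (hF.mono (commgS _ l) (sup_le_sup_right inf_le_left _)) (x1 _ f2))))
    refine ⟨le_antisymm (C_zpowers x ▸ j7) (le_inf inf_le_left (C_zpowers x ▸ centsC.1 (l.trans xZ))), ?_⟩
    rw [le_antisymm lE ((coprime_cent_prod (l.trans xQ) (coprimegS l cQX) sQ).ge.trans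
      (sup_le le_rfl (j7.trans (j2 ▸ inf_le_left)))), en] at j5
    rw [j6, show m = n by have := Nat.pow_right_injective hq.out.two_le j5; omega]
  have k2 : ∀ y ∈ X, y ≠ 1 → Q ⊓ C1[y] = Z[Q] ∧ 2 * #A = q ^ n + 1 := fun y hy y1 => by
    have h2 := cardG_gt1 (A := zpowers y) (by rwa [Ne, zpowers_eq_bot])
    obtain ⟨x, hx, e⟩ := Cauchy (Nat.minFac_prime h2.ne') (Nat.minFac_dvd _)
    obtain ⟨h, h'⟩ := k1 x (zpowers_le.2 hy hx) (by rw [Nat.card_zpowers, e]; exact Nat.minFac_prime h2.ne')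
    refine ⟨le_antisymm ((inf_le_inf_left _ ?_).trans h.le) (le_inf inf_le_left
      (C_zpowers y ▸ centsC.1 ((zpowers_le.2 hy).trans xZ))), h'⟩
    rw [← C_zpowers, ← C_zpowers]; exact centS (zpowers_le.2 hx)
  have nZ := center_normal Q
  have k3 : ∀ y ∈ X, y ≠ 1 → ∀ g ∈ Q, g * (y * g * y⁻¹) ∈ Z[Q] := fun y hy y1 g hg => by
    have l := zpowers_le.2 hy
    have h2 := cardG_gt1 (A := zpowers y) (by rwa [Ne, zpowers_eq_bot])
    have h3 := es_div hA hQ en inferInstance (l.trans xA) (coprimeSg l cXA) (coprimeSg l cX) cA (l.trans xQ) aQ h1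
      (centsC.1 (l.trans xZ)) fun u hu u1 => (k2 u (l hu) u1).1
    have h4 := (k2 y hy y1).2
    have h5 := hA.two_le
    have h6 : #(zpowers y) = 2 := by
      rcases h3 with h3 | h3 <;> have := Nat.le_of_dvd (by omega) h3
      · rw [← h4] at this; nlinarith
      · rw [show q ^ n - 1 = 2 * #A - 2 by omega] at this
        have := Nat.mul_le_mul_right #A h2
        omega
    have h7 : y * y = 1 := by rw [← sq, ← h6]; exact expg_cardG (mem_zpowers y)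
    have m := conj_mem_of_norm (xQ hy) hg
    refine mem_of_fix nZ (norms_center xQ hy) (xQ hy) (coprimegS l cQX) sQ (k2 y hy y1).1.le (mul_mem hg m) ?_
    convert e1.le (commutator_mem_commutator m hg) using 1
    simp only [commutatorElement_def]
    calc _ = y * g * (y * y) * y⁻¹ * g * (y * y)⁻¹ * (y * g⁻¹ * y⁻¹) * g⁻¹ := by group
      _ = _ := by rw [h7]; group
  have xN := norms_center xQ
  have hN := norms_center hH
  refine (quotient_cents2 nZ.2 (comm_subG xN hN)).1 (centsC.1 ?_)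
  rw [quotientR xN hN]
  refine commutator_le.2 fun x hx y hy => mem_cent.2 fun g hg => ?_
  by_cases x1 : x = 1
  · simp [x1]
  have k4 : ∀ g ∈ Q /ᵍ Z[Q], x * g * x⁻¹ = g⁻¹ := fun g hg => by
    obtain ⟨x, hx', nx, rfl⟩ := mem_quotient_iff.1 hx
    obtain ⟨g, hg', ng, rfl⟩ := mem_quotient_iff.1 hg
    rw [eq_comm, inv_eq_iff_mul_eq_one, ← coset_inv nx, ← coset_mul nx ng, ← coset_mul (mul_mem nx ng) (inv_mem nx),
      ← coset_mul ng (mul_mem (mul_mem nx ng) (inv_mem nx))]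
    exact coset_id (k3 x hx' (fun e => x1 (by rw [e, coset_one])) g hg')
  have h2 := k4 _ (inv_mem (conj_mem_of_norm' (quotient_norms _ hH hy) hg))
  have h3 := k4 _ (inv_mem hg)
  rw [inv_inv] at h2 h3
  rw [commutatorElement_def]
  calc _ = x * g⁻¹ * x⁻¹ * (x * y * x⁻¹ * y⁻¹) := by rw [h3]
    _ = x * y * x⁻¹ * (x * (y⁻¹ * g * y)⁻¹ * x⁻¹) * y⁻¹ := by group
    _ = x * y * x⁻¹ * y⁻¹ * g * (y * y⁻¹) := by rw [h2]; group
    _ = _ := by group

theorem cop3 (hpq : p ≠ q) (hQ : IsPGroup q Q) (xQ : X ≤ N[Q]) (aQ : A ≤ N[Q]) (xA : X ≤ C[A]) (cX : p.Coprime #X)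
    (cA : p.Coprime #A) : p.Coprime #(Q ⊔ (X ⊔ A)) :=
  ((Solv.coprime_card_of_isPGroup hQ ((Nat.coprime_primes hp.out hq.out).2 hpq)).symm.mul_right
    ((cX.mul_right cA).coprime_dvd_right (card_sup_dvd (.inl (cents_norm xA))))).coprime_dvd_right
      (card_sup_dvd (.inr (sup_le xQ aQ)))

theorem start0 (h : Lv q A S Q ⊥) (sA : S ≤ C[A]) (tA : T ≤ C[A]) (tQ : T ≤ N[Q]) (tS : T ≤ N[S]) (e1 : ⁅S, T⁆ = S)
    (e2 : ⁅Q, S⁆ = Q) (e3 : ⁅Q, A⁆ = Q) (hT : Q ⊓ C[A] ≤ C[T]) (cT : (#T).Coprime #A)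
    (qT : (#T).Coprime q ∨ IsPGroup q T) (hX : X = S ∨ X = T) (hpq : p ≠ q) (cX : p.Coprime #X) (cA : p.Coprime #A)
    (hU : Abelem p U) (hm : MinNormal U (Q ⊔ (S ⊔ T) ⊔ A)) (hf : (Q ⊔ (S ⊔ T)) ⊓ C[U] = ⊥)
    (hF : Fam U A ⁅U ⊓ C[A], X⁆ (Q ⊔ A)) : Q = ⊥ := by
  by_contra Q0
  have xl : X ≤ S ⊔ T := hX.elim (·.le.trans le_sup_left) (·.le.trans le_sup_right)
  have xA := xl.trans (sup_le sA tA)
  have xQ := xl.trans (sup_le h.sP tQ)
  have cXA : (#X).Coprime #A := hX.elim (coprimeSg ·.le h.cSA) (coprimeSg ·.le cT)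
  have cL := cop3 hpq h.pg xQ h.aP xA cX cA
  have l1 : Q ⊔ (X ⊔ A) ≤ Q ⊔ (S ⊔ T) ⊔ A := (sup_assoc _ _ _).ge.trans (sup_le_sup_right (sup_le_sup_left xl _) _)
  have nU := l1.trans hm.norm
  have qU := le_sup_left.trans nU
  have f : ∀ Y ≤ Q ⊔ (S ⊔ T), Y ≤ C[U] → Y = ⊥ := fun Y h1 h2 => eq_bot_iff.2 (hf ▸ le_inf h1 h2)
  have cq := (pgroup_pdiv h.pg Q0)
  have cAq : (#A).Coprime q := (h.cA.coprime_dvd_left cq).symm
  have nQ : Q ⊔ (S ⊔ T) ⊔ A ≤ N[Q] := sup_le (sup_le (normG Q) (sup_le h.sP tQ)) h.aP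
  have aZ := norms_center h.aP
  have lB := (commg_subl aZ).trans (center_sub Q)
  have zA : Z[Q] ≤ C[A] := by
    have n : Q ⊔ (S ⊔ T) ⊔ A ≤ N[⁅Z[Q], A⁆] := sup_le (sup_le (cents_norm (centsC.1 ((commg_subl aZ).trans inf_le_right)))
      (normsR (norms_center (sup_le h.sP tQ)) (cents_norm (sup_le sA tA)))) (commg_normr _ _)
    have l2 := sup_le_sup_right lB (X ⊔ A)
    have k := (hF.res le_rfl (le_sup_right.trans hm.norm) (lB.trans le_sup_left) (lB.trans qU) (le_inf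
      ((commSg _ inf_le_left).trans (commg_subl (le_sup_left.trans (le_sup_right.trans nU)))) le_rfl)).nf h.pA xA cXA
      (abelianS (commg_subl aZ) (center_abelian Q)) (commg_normr _ _) (le_sup_left.trans (le_sup_right.trans (l1.trans n)))
      (coprimeSg lB h.cA) (by
        rw [← coprime_abel_cent_TI aZ (coprimeSg (center_sub Q) h.cA) (center_abelian Q)]) hU (l2.trans nU) (coprimegS l2 cL)
    refine commG1.1 (f _ (lB.trans le_sup_left) (commG1'.1 ((hm.min _ (commg_subl (lB.trans qU))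
      (normsR hm.norm n)).resolve_right fun e => Q0 ?_)))
    have := f X (xl.trans le_sup_right) (centsC.1 (e ▸ k))
    rw [← e2, show S = ⊥ from hX.elim (·.symm.trans this) fun e => by rw [← e1, ← e, this, commutator_bot_right],
      commutator_bot_right]
  have d := der1_sub_Phi (pgroup_nil h.pg)
  have zP : Phi Q ≤ Z[Q] := le_inf (Phi_sub Q) (commG1.1 (le_bot_iff.1 h.c1))
  have c1 := Gen.cent_le_der_of_comm_eq h.aP h.cA e3
  have h1 : Q ⊓ C[A] = Z[Q] := le_antisymm (c1.trans (d.trans zP)) (le_inf inf_le_left zA)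
  have h2 : Phi Q = Z[Q] := le_antisymm zP (h1 ▸ c1.trans d)
  have sZ : S ≤ C[Z[Q]] := h2 ▸ commG1'.1 (le_bot_iff.1 h.c3)
  have lZ : Q ⊔ (S ⊔ T) ⊔ A ≤ C[Z[Q]] :=
    sup_le (sup_le (centsC.1 inf_le_right) (sup_le sZ (h1 ▸ centsC.1 hT))) (centsC.1 zA)
  have k1 : ∀ Y ≤ Z[Q], Y ≠ ⊥ → U ⊓ C[Y] = ⊥ := fun Y hY Y0 => (hm.min _ inf_le_left (normsI hm.norm (norms_cent
    (cents_norm (lZ.trans (centS hY)))))).resolve_right fun e => Y0 (f Y (hY.trans (inf_le_left.trans le_sup_left))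
      (centsC.1 (inf_eq_left.1 e)))
  have h0 := k1 _ le_rfl (center_nil_ne_bot (pgroup_nil h.pg) Q0)
  obtain ⟨N, n1, n2⟩ := minnormal_exists hm.ne ((center_sub Q).trans qU)
  have hQ := extraspecial_of_cyclic_center h.pg h2 (le_antisymm (d.trans zP) (h1 ▸ c1)) Q0 (abelian_minnormal_cyclic
    (center_abelian Q) n1 (abelian_sol (abelianS n2 hU.abelian)) (by_contra fun e => n1.ne (eq_bot_iff.2
      (k1 _ inf_le_left e ▸ le_inf n2 (centsC.1 inf_le_right)))))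
  have xZ := xl.trans (le_sup_right.trans (le_sup_left.trans lZ))
  have l2 : Q ⊔ (X ⊓ C[Q] ⊔ A) ≤ Q ⊔ (X ⊔ A) := sup_le_sup_left (sup_le_sup_right inf_le_left _) _
  have f1 : X ⊓ C[Q] = ⊥ := f _ (inf_le_left.trans (xl.trans le_sup_right)) (by_contra fun e => Q0 (e3.symm.trans
    (mat_es h.pA hQ h.aP h.cA (centsC.1 zA) (fun _ => ⟨S, h.nil, h.cS, h.cSA, h.sP, h.aS, sZ,
      (Gen.cent_le_der_of_comm_eq h.sP h.cS e2).trans (d.trans zP)⟩) hU h0 (l2.trans nU) (coprimegS l2 cL)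
      (inf_le_left.trans xA) inf_le_right (hF.mono (commgS _ inf_le_left) le_rfl) e)))
  by_cases cXq : (#X).Coprime q
  · refine es_not_le hQ ?_
    have := fun H hH => sa (H := H) h.pA hQ cXq xQ h.aP xA cXA xZ cAq h1 hU hm.ne h0 nU cL hF f1
      (f _ (inf_le_left.trans (xl.trans le_sup_right)) inf_le_right) hH
    rcases hX with rfl | rfl
    · simpa only [e1, e2] using this T tQ
    · simpa only [commGC X S, e1, e2] using this S h.sP
  obtain rfl := hX.resolve_left fun e => cXq (coprimeSg e.le (h.cS.coprime_dvd_left cq).symm)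
  have k2 := sb h.pA hQ (qT.resolve_left cXq) xQ h.aP xA xZ cAq h1 hU hm.ne h0 nU hpq cL (hF.mono le_rfl le_sup_left)
  obtain ⟨g, hg, x, hx, hy⟩ : ∃ g ∈ S, ∃ x ∈ X, ⁅g, x⁆ ∉ C[Q] := by
    by_contra! e
    exact Q0 (e2.symm.trans (commG1'.2 (e1.ge.trans (commutator_le.2 e))))
  have l3 := zpowers_le.2 (e1.le (commutator_mem_commutator hg hx))
  have k3 := es_small h.pA hQ (l3.trans sA) (coprimeSg l3 h.cSA) (coprimeSg l3 (h.cS.coprime_dvd_left cq).symm) cAq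
    (l3.trans h.sP) h.aP h1 (l3.trans sZ) (by rwa [zpowers_le])
  have k4 := relIndex_cj g C[X] Q
  rw [cj_of_norm (h.sP hg)] at k4
  have k5 : C[cj g X] ⊓ C[X] ≤ C[zpowers ⁅g, x⁆] := centsC.1 (zpowers_le.2 (mul_mem
    (centsC.1 inf_le_left (conj_mem_cj g hx)) (inv_mem (centsC.1 inf_le_right hx))))
  replace k5 := (relIndex_le_of_le_left k5 (relIndex_pos _ Q).ne').trans relIndex_inf_le
  rw [C_cj, k4] at k5
  nlinarith

omit hp hq in
theorem minnormal_quo (h : MinNormal V M) (hM : M ≤ N[N]) (hV : V ≤ N[N]) (hi : V ⊓ N = ⊥) :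
    MinNormal (V /ᵍ N) (M /ᵍ N) := by
  refine ⟨fun e => h.ne (by rw [← hi, inf_eq_left.2 ((quotient_sub1 hV).1 e)]), quotient_norms _ h.norm, fun U h1 h2 => ?_⟩
  have e := quotient_setIpre V U
  rw [inf_eq_right.2 h1] at e
  exact (h.min _ inf_le_left (normsI h.norm (norms_cosetpre hM h2))).imp (fun k => by rw [← e, k, quotient_bot])
    fun k => by rw [← e, k]

theorem start (h : Lv q A S Q K) (hK : K ≤ C[U]) (sA : S ≤ C[A]) (tA : T ≤ C[A]) (tQ : T ≤ N[Q]) (tS : T ≤ N[S])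
    (e1 : ⁅S, T⁆ = S) (e2 : ⁅Q, S⁆ = Q) (e3 : ⁅Q, A⁆ = Q) (hT : ⁅Q ⊓ C[A], T⁆ ≤ K) (cT : (#T).Coprime #A)
    (qT : (#T).Coprime q ∨ IsPGroup q T) (hX : X = S ∨ X = T) (hpq : p ≠ q) (cX : p.Coprime #X) (cA : p.Coprime #A)
    (hU : Abelem p U) (nU : Q ⊔ (S ⊔ T) ⊔ A ≤ N[U]) (hF : Fam U A ⁅U ⊓ C[A], X⁆ (Q ⊔ A)) : Q ≤ C[U] := by
  by_contra h0
  have hQ := sup_le h.sP tQ
  have nQ : Q ⊔ (S ⊔ T) ⊔ A ≤ N[Q] := sup_le (sup_le (normG Q) hQ) h.aP
  have ql : Q ≤ Q ⊔ (S ⊔ T) ⊔ A := le_sup_left.trans le_sup_left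
  obtain ⟨V, m, l⟩ := minnormal_exists (mt commG1'.1 h0) (normsR nU nQ)
  have vU := l.trans (commg_subl (ql.trans nU))
  have cU : (#U).Coprime #Q := Solv.coprime_card_of_isPGroup hU.pg
    (Solv.coprime_card_of_isPGroup h.pg ((Nat.coprime_primes hp.out hq.out).2 hpq))
  have aH : A ≤ N[Q ⊔ (S ⊔ T)] := normsY h.aP (cents_norm (centsC.1 (sup_le sA tA)))
  have nH := sup_le (normG _) aH
  have n := normsI nH (norms_cent m.norm)
  have V0 : ¬ Q ≤ C[V] := fun e => m.ne (eq_bot_iff.2 (coprime_abel_cent_TI (ql.trans nU) cU hU.abelian ▸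
    le_inf l (centsC.1 e)))
  have i : V ⊓ (Q ⊔ (S ⊔ T)) = ⊥ := (m.min _ inf_le_left (normsI m.norm nH)).resolve_right fun e => V0 (commG1'.1
    (eq_bot_iff.2 (coprime_TI (coprimeSg vU cU) ▸ le_inf (commg_subl (ql.trans m.norm))
      (commg_subr ((inf_eq_left.1 e).trans (sup_le (normG Q) hQ))))))
  have cH : (#(Q ⊔ (S ⊔ T))).Coprime #A := (h.cA.mul_left ((h.cSA.mul_left cT).coprime_dvd_left
    (card_sup_dvd (.inr tS)))).coprime_dvd_left (card_sup_dvd (.inr hQ))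
  have f0 := faith_quo (le_sup_left.trans m.norm) (cents_norm (centsC.1 inf_le_right)) (le_sup_left.trans n) inf_le_right
    (eq_bot_iff.2 (i ▸ inf_le_inf_left _ inf_le_left)) le_rfl
  have kJ : K ≤ (Q ⊔ (S ⊔ T)) ⊓ C[V] := le_inf (h.nK.1.trans le_sup_left) (hK.trans (centS vU))
  have iA := coprime_TI (coprimeSg (inf_le_left : _ ⊓ C[V] ≤ _) cH)
  have iV : V ⊓ ((Q ⊔ (S ⊔ T)) ⊓ C[V]) = ⊥ := eq_bot_iff.2 (i ▸ inf_le_inf_left _ inf_le_left)
  have vJ : V ≤ N[(Q ⊔ (S ⊔ T)) ⊓ C[V]] := cents_norm (centsC.1 inf_le_right)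
  have jV : Q ⊓ ((Q ⊔ (S ⊔ T)) ⊓ C[V]) ≤ C[V] := inf_le_right.trans inf_le_right
  generalize (Q ⊔ (S ⊔ T)) ⊓ C[V] = J at n f0 kJ iA iV vJ jV
  have q1 := ql.trans n
  have h1 := le_sup_right.trans (le_sup_left.trans n)
  have s1 := le_sup_left.trans h1
  have t1 := le_sup_right.trans h1
  have a1 := le_sup_right.trans n
  have xl : X ≤ S ⊔ T := hX.elim (·.le.trans le_sup_left) (·.le.trans le_sup_right)
  have xV := xl.trans (le_sup_right.trans (le_sup_left.trans m.norm))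
  have aV := le_sup_right.trans m.norm
  have k1 := h.quo a1 s1 q1 iA
  have k2 := minnormal_quo m n vJ iV
  have k3 := (hF.res vU aV le_rfl (sup_le (ql.trans m.norm) aV) (le_inf ((commSg _ inf_le_left).trans (commg_subl xV))
    (commSg _ (inf_le_inf_right _ vU)))).quo vJ a1 (sup_le q1 a1) iV
  rw [quotientS1 kJ] at k1
  rw [quotientY (le_sup_left.trans n) a1, quotientY q1 h1, quotientY s1 t1] at k2
  rw [quotientY q1 h1, quotientY s1 t1] at f0
  rw [quotientR (inf_le_left.trans vJ) (xl.trans h1), quotient_TI_subcent vJ a1 aV iV, quotientY q1 a1] at k3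
  exact V0 ((le_inf le_rfl ((quotient_sub1 q1).1 (start0 k1 (quotient_cents _ sA) (quotient_cents _ tA)
    (quotient_norms _ tQ) (quotient_norms _ tS) (by rw [← quotientR s1 t1, e1]) (by rw [← quotientR q1 s1, e2])
    (by rw [← quotientR q1 a1, e3]) (coprime_quotient_cent' q1 a1 h.aP h.cA (.inr (pgroup_sol h.pg)) ▸
      quotient_cents2r (hT.trans kJ)) (coprime_morph _ cT) (qT.imp (coprime_morphl _) (·.quo _))
    (hX.imp (congrArg _) (congrArg _)) hpq (coprime_morphr _ cX) (coprime_morphr _ cA)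
    (quotient_abelem _ (abelemS vU hU)) k2 f0 k3))).trans jV)

end Cfsg.Agent.Sig.TU
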