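import Cfsg.Agent.Sig.TU4

/-! The reduction `TU.red` of three consecutive levels of a tower to an elementary abelian section with a separating
family, and the descent steps `TU.step`, `TU.step_fix`, `TU.step_start`, `TU.last`. -/

set_option linter.dupNamespace false
set_option linter.unusedSectionVars false
set_option linter.unusedVariables false

namespace Cfsg.Agent.Sig.TU
open Subgroup Cfsg.Agent.BG
open scoped commutatorElement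
universe u

local notation "Sol" => Group.IsSolvable
local notation "Nil" => Group.IsNilpotent

variable {G : Type*} [Group G] [Finite G] {A B C D E F H J K L M N P Q R S T U V W X Y Z : Subgroup G} {n p q r s : ℕ}
  {a b g x y z : G}

/-- The centraliser in `X` of `V / K`. -/
def ck (X V K : Subgroup G) : Subgroup G := X ⊓ coquo K C[V /ᵍ K]

theorem le_ck (hX : X ≤ N[K]) (hV : V ≤ N[K]) : Y ≤ ck X V K ↔ Y ≤ X ∧ ⁅Y, V⁆ ≤ K :=
  le_inf_iff.trans (and_congr_right fun h1 => by rw [← sub_quotient_pre (h1.trans hX), quotient_cents2 (h1.trans hX) hV])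

theorem ck_le : ck X V K ≤ X := inf_le_left

theorem norms_ck (h1 : A ≤ N[X]) (h2 : A ≤ N[V]) (h3 : A ≤ N[K]) : A ≤ N[ck X V K] :=
  normsI h1 (norms_cosetpre h3 (norms_cent (quotient_norms _ h2)))

theorem rad (ab : IsMulCommutative V) (wV : W ≤ N[V]) (hc : (#V).Coprime #W) (hf : W ⊓ C[V] = ⊥) (hd : ⁅W, W⁆ ≤ Z[W])
    (pZ : P ≤ C[Z[W]]) (pW : P ≤ N[W]) (aW : A ≤ N[W]) (aV : A ≤ N[V]) (hV : H ≤ N[V]) (hW : H ≤ N[W])
    (hD : H ≤ N[⁅P, A⁆]) (hY : Y ≤ W ⊓ C[⁅V, ⁅W, A⁆⁆]) :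
    ∃ R, Z[W] ≤ R ∧ H ≤ N[R] ∧ Y ≤ R ∧ ⁅W, ⁅P, A⁆⁆ ⊓ R ≤ Z[W] := by
  have cn : ∀ X, W ≤ N[Z[W] ⊓ X] := fun X => cents_norm (centsC.1 (inf_le_left.trans inf_le_right))
  have l := commg_subl aW
  have a0 := normsI (norms_center aW) (norms_cent (normsI aV (norms_cent (commg_normr W A))))
  have k1 := ((le_ck (cn _) (cn _)).1 (comm_le_mod (norms_ck (normG W) (normG W) (cn _)) pW
    (norms_ck pW pW (cents_norm (pZ.trans (centS inf_le_left)))) (norms_ck aW aW a0) ((le_ck (cn _) (cn _)).2 ⟨l, le_inf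
      ((commSg _ l).trans hd) ((commg_subl (commg_norml _ _)).trans (centsC.1 inf_le_right))⟩))).2
  have z2 := k1.trans inf_le_left
  have w2 := z2.trans inf_le_left
  have n2 := normsR wV (cents_norm (centsC.1 (z2.trans inf_le_right)))
  have l2 := commg_subl (w2.trans wV)
  have c2 := coprimegS w2 hc
  have k2 : Y ≤ C[⁅V, ⁅⁅W, ⁅P, A⁆⁆, W⁆⁆] := (hY.trans inf_le_right).trans (centS ((fpf_comm (abelian_sol (abelianS l2 ab))
    (l.trans n2) (coprimeSS l2 l hc) (eq_bot_iff.2 (coprime_abel_cent_TI (w2.trans wV) c2 ab ▸ le_inf inf_le_left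
      ((inf_le_inf_right _ l2).trans (centsC.1 (k1.trans inf_le_right)))))).ge.trans (commSg _ l2)))
  have yW := hY.trans inf_le_left
  refine ⟨ck W W (Z[W] ⊓ C[⁅V, ⁅⁅W, ⁅P, A⁆⁆, W⁆⁆]), (le_ck (cn _) (cn _)).2 ⟨inf_le_left, (commG1.2 inf_le_right).le.trans
    bot_le⟩, norms_ck hW hW (normsI (norms_center hW) (norms_cent (normsR hV (normsR (normsR hW hD) hW)))),
    (le_ck (cn _) (cn _)).2 ⟨yW, le_inf ((commSg _ yW).trans hd) ((commSg _ k2).trans (commg_subl (norms_cent n2)))⟩, ?_⟩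
  have k3 := (le_ck (cn _) (cn _)).1 (inf_le_right : ⁅W, ⁅P, A⁆⁆ ⊓ ck W W (Z[W] ⊓ C[⁅V, ⁅⁅W, ⁅P, A⁆⁆, W⁆⁆]) ≤ _)
  have k4 := commSg W (inf_le_left : ⁅W, ⁅P, A⁆⁆ ⊓ ck W W (Z[W] ⊓ C[⁅V, ⁅⁅W, ⁅P, A⁆⁆, W⁆⁆]) ≤ _)
  exact le_inf k3.1 (commG1.1 (eq_bot_iff.2 (hf ▸ le_inf (k4.trans w2) ((le_cent_sup (k3.2.trans inf_le_right)
    (k4.trans (centsC.1 inf_le_right))).trans (centS (coprime_cent_prod (w2.trans wV) c2 (abelian_sol ab)).ge)))))

variable [hp : Fact p.Prime] [hq : Fact q.Prime]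

theorem red (pV : IsPGroup q V) (pW : IsPGroup p W) (hpq : p ≠ q) (nJ : J ⊴ V) (wV : W ≤ N[V]) (wJ : W ≤ N[J])
    (hK : K = ck W V J) (mV : M ≤ N[V]) (mJ : M ≤ N[J]) (mW : M ≤ N[W]) (hM : H ≤ M) (hP : P ≤ H) (hA : A ≤ H)
    (hD : H ≤ N[⁅P, A⁆])
    (aP : A ≤ N[P]) (cV : (#V).Coprime #A) (cW : (#W).Coprime #A) (cP : (#W).Coprime #P)
    (c5 : Phi W ≤ K ∨ ⁅Phi W, W⁆ ≤ K ∧ ⁅ck W W K, P⁆ ≤ K) (cH : p.Coprime #H ∨ ⁅W, ⁅P, A⁆⁆ = W) (hY : Y ≤ W)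
    (h : ⁅⁅V, ⁅W, A⁆⁆, Y⁆ ≤ J) : ∃ N, M ≤ N[N] ∧ W ≤ N[N] ∧ K ≤ N ∧ N ⊓ A = ⊥ ∧ ∃ U ≤ W /ᵍ N, H /ᵍ N ≤ N[U] ∧
      Abelem p U ∧ Fam U (A /ᵍ N) (U ⊓ Y /ᵍ N) (H /ᵍ N) ∧
        ∀ X ≤ P, ⁅U, ⁅P, A⁆ /ᵍ N⁆ ≤ C[X /ᵍ N] → ⁅⁅W, ⁅P, A⁆⁆, X⁆ ≤ K := by
  have kW : K ≤ W := hK ▸ ck_le
  have kV : ⁅K, V⁆ ≤ J := ((le_ck wJ nJ.2).1 hK.le).2
  have wK : W ≤ N[K] := hK ▸ norms_ck (normG W) wV wJ
  have mK : M ≤ N[K] := hK ▸ norms_ck mW mV mJ
  have hV := hM.trans mV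
  have hW := hM.trans mW
  have c := Solv.coprime_card_of_isPGroup pV (Solv.coprime_card_of_isPGroup pW
    ((Nat.coprime_primes hq.out hp.out).2 hpq.symm))
  have l1 : J ⊔ Phi V ≤ V := sup_le nJ.1 (Phi_sub V)
  have n1 : ∀ {X}, X ≤ N[V] → X ≤ N[J] → X ≤ N[J ⊔ Phi V] := fun h h' => normsY h' (norms_Phi h)
  have k1 := kW.trans (n1 wV wJ)
  have m1 := normsY mK (n1 mV mJ)
  have w1 := normsY wK (n1 wV wJ)
  have v1 : V ≤ N[K ⊔ (J ⊔ Phi V)] := norm_of_commg_subl (comm_sup_le (le_sup_left.trans (normG _))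
    (le_sup_right.trans (normG _)) (kV.trans (le_sup_left.trans le_sup_right))
    ((commg_subl (n1 (normG V) nJ.2)).trans le_sup_right))
  have i1 : W ⊓ (K ⊔ (J ⊔ Phi V)) ≤ K := by
    rw [group_modl (.inl k1) kW, coprime_TI (coprimegS l1 c.symm), sup_bot_eq]
  have i2 : V ⊓ (K ⊔ (J ⊔ Phi V)) ≤ J ⊔ Phi V := by
    rw [sup_comm K, group_modl (.inr k1) l1, coprime_TI (coprimegS kW c), sup_bot_eq]
  have i3 : (K ⊔ (J ⊔ Phi V)) ⊓ A = ⊥ := coprime_TI (((coprimeSg kW cW).mul_left (coprimeSg l1 cV)).coprime_dvd_left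
    (card_sup_dvd (.inl k1)))
  have i4 : Phi V ≤ K ⊔ (J ⊔ Phi V) := le_sup_right.trans le_sup_right
  have i5 : J ≤ K ⊔ (J ⊔ Phi V) := le_sup_left.trans le_sup_right
  have i6 : K ≤ K ⊔ (J ⊔ Phi V) := le_sup_left
  generalize K ⊔ (J ⊔ Phi V) = N at m1 w1 v1 i1 i2 i3 i4 i5 i6
  have h1 := hM.trans m1
  have a1 := hA.trans h1
  have p1 := hP.trans h1
  have ab := sub_der1_abelian ((der1_sub_Phi (pgroup_nil pV)).trans i4)
  have f0 : W /ᵍ N ⊓ C[V /ᵍ N] = ⊥ := by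
    have l : ck W V N ≤ W := ck_le
    rw [← quotient_setIpre]
    refine quotientS1 ((hK ▸ (le_ck wJ nJ.2).2 ⟨l, (quotient_cents2 (l.trans wJ) nJ.2).1 (coprime_cent_Phi
      (quotient_norms _ (l.trans wV)) (coprime_morph _ (coprimegS l c)) ?_)⟩ : ck W V N ≤ K).trans i6)
    rw [← quotient_Phi pV nJ.2, ← quotientR nJ.2 (l.trans wJ), ← quotientYidl ((Phi_sub V).trans nJ.2), commGC]
    exact quotientS _ ((le_inf (commg_subr (l.trans wV)) ((le_ck w1 v1).1 le_rfl).2).trans i2)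
  have d1 := comm_subG p1 a1
  have aW := hA.trans hW
  have pW' := hP.trans hW
  have y1 : Y /ᵍ N ≤ W /ᵍ N ⊓ C[⁅V /ᵍ N, ⁅W /ᵍ N, A /ᵍ N⁆⁆] := le_inf (quotientS _ hY) (by
    rw [← quotientR w1 a1, ← quotientR v1 (comm_subG w1 a1)]; exact centsC.1 (quotient_cents2r (h.trans i5)))
  have dP := commg_subl aP
  have lW := commg_subl (dP.trans pW')
  have x1 : ∀ X ≤ P, ⁅⁅W, ⁅P, A⁆⁆, X⁆ ≤ ⁅W, ⁅P, A⁆⁆ := fun X hX => commg_subl (hX.trans (hP.trans (normsR hW hD)))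
  rcases c5 with c5 | ⟨c5, c6⟩
  · have e : Abelem p (W /ᵍ N) := (trivg_Phi (pW.quo _)).1 (quotient_Phi pW w1 ▸ quotientS1 (c5.trans i6))
    refine ⟨N, m1, w1, i6, i3, _, le_rfl, quotient_norms _ hW, e, fam_of e.abelian ab (quotient_norms _ wV)
      (coprime_morph _ c) f0 (quotient_norms _ hV) (quotient_norms _ hW) (quotient_norms _ aW) (inf_le_right.trans y1),
      fun X hX h2 => (le_inf ((x1 X hX).trans lW) ((quotient_cents2 (lW.trans w1) (hX.trans p1)).1 ?_)).trans i1⟩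
    rwa [quotientR w1 d1]
  have lZ : ck W W K ≤ W := ck_le
  have zz : ∀ X ≤ W, X /ᵍ N ≤ Z[W /ᵍ N] → X ≤ ck W W K := fun X hX h2 => (le_ck wK wK).2 ⟨hX, (le_inf
    ((commSg _ hX).trans (der_sub W)) ((quotient_cents2 (hX.trans w1) w1).1 (h2.trans inf_le_right))).trans i1⟩
  have z1 : ck W W K /ᵍ N ≤ Z[W /ᵍ N] := le_inf (quotientS _ lZ) (quotient_cents2r (((le_ck wK wK).1 le_rfl).2.trans i6))
  have z2 : Phi W ≤ ck W W K := (le_ck wK wK).2 ⟨Phi_sub W, c5⟩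
  have d := der1_sub_Phi (pgroup_nil pW)
  obtain ⟨R, r1, r2, r3, r4⟩ := rad ab (quotient_norms _ wV) (coprime_morph _ c) f0
    (quotientR w1 w1 ▸ (quotientS _ (d.trans z2)).trans z1) (centsC.1 (le_trans (by
      have e := quotient_setIpre W Z[W /ᵍ N]
      rw [inf_eq_right.2 (center_sub _)] at e
      exact e.ge.trans (quotientS _ (zz _ inf_le_left e.le))) (quotient_cents2r (c6.trans i6))))
    (quotient_norms _ pW') (quotient_norms _ aW) (quotient_norms _ (hA.trans hV)) (quotient_norms _ hV)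
    (quotient_norms _ hW) (quotientR p1 a1 ▸ quotient_norms _ hD) y1
  have s1 : ck W W K ≤ W ⊓ coquo N R := le_inf lZ ((sub_quotient_pre (lZ.trans w1)).1 (z1.trans r1))
  have s2 := normsI hW (norms_cosetpre h1 r2)
  have s3 : Y ≤ W ⊓ coquo N R := le_inf hY ((sub_quotient_pre (hY.trans w1)).1 r3)
  have s4 : ⁅W, ⁅P, A⁆⁆ ⊓ (W ⊓ coquo N R) ≤ ck W W K := zz _ (inf_le_left.trans lW) (le_trans (le_inf
    (quotientR p1 a1 ▸ quotientR w1 d1 ▸ quotientS _ inf_le_left)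
    ((quotientS _ (inf_le_right.trans inf_le_right)).trans (cosetpreK R).le)) r4)
  have s5 : W ⊓ coquo N R ≤ W := inf_le_left
  generalize W ⊓ coquo N R = R' at s1 s2 s3 s4 s5
  have m2 := norms_ck mW mW mK
  have w2 := norms_ck (normG W) (normG W) wK
  have k2 : K ≤ ck W W K := (le_ck wK wK).2 ⟨kW, commg_subl wK⟩
  generalize ck W W K = Z at lZ z2 s1 s4 m2 w2 k2 c6
  have h2 := hM.trans m2
  have e : Abelem p (W /ᵍ Z) := (trivg_Phi (pW.quo _)).1 (quotient_Phi pW w2 ▸ quotientS1 z2)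
  obtain ⟨U, u1, u2⟩ : ∃ U, Dprod (R' /ᵍ Z) U (W /ᵍ Z) ∧ H /ᵍ Z ≤ N[U] := cH.elim (fun cH => Maschke_abelem e
    ((p'nat_coprime hp.out).2 (coprime_morphl _ cH.symm)) (quotientS _ s5) (quotient_norms _ hW) (quotient_norms _ s2))
    fun e' => ⟨_, by rw [quotientS1 ((le_inf (e'.symm ▸ s5) le_rfl).trans s4)]; exact ⟨bot_sup_eq _, by simp, bot_inf_eq _⟩,
      quotient_norms _ hW⟩
  refine ⟨Z, m2, w2, k2, coprime_TI (coprimeSg lZ cW), U, u1.ler, u2, abelemS u1.ler e, Fam.bot (eq_bot_iff.2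
    (u1.inf ▸ le_inf (inf_le_right.trans (quotientS _ s3)) inf_le_left)), fun X hX h3 => ?_⟩
  have xl := hX.trans hP
  have d2 := dP.trans (hP.trans h2)
  have n3 := quotient_norms Z (dP.trans (hP.trans s2))
  have k3 : ⁅⁅W, ⁅P, A⁆⁆, X⁆ ≤ R' := by
    refine le_trans ((sub_quotient_pre (((x1 X hX).trans lW).trans w2)).1 ?_) (quotientGK ⟨s1, s5.trans w2⟩).le
    have l3 := (commg_subl ((quotientS _ (dP.trans hP)).trans u2)).trans u1.ler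
    rw [quotientR (lW.trans w2) (xl.trans h2), quotientR w2 d2, ← u1.sup, commMG (.inr (u1.ler.trans u1.normall.2))
      (u1.lel.trans (sub_abelian_norm e.abelian l3))]
    exact comm_sup_le ((commg_subl n3).trans (normG _)) (l3.trans u1.normall.2) ((commSg _ (commg_subl n3)).trans
      (commg_subl (quotient_norms _ (xl.trans s2)))) ((commG1.2 h3).le.trans bot_le)
  rw [← coprime_commGid (xl.trans (normsR hW hD)) (coprimeSS lW hX cP)]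
  exact (commgSS ((le_inf (x1 X hX) k3).trans s4) hX).trans c6

/-- three consecutive levels `V / J`, `W / K`, `P / L` -/
structure Tri (q p r : ℕ) (A V J W K P L S M : Subgroup G) : Prop where
  pV : IsPGroup q V
  pW : IsPGroup p W
  pq : p ≠ q
  pr : p ≠ r
  nJ : J ⊴ V
  wV : W ≤ N[V]
  wJ : W ≤ N[J]
  eK : K = ck W V J
  mV : M ≤ N[V]
  mJ : M ≤ N[J]
  mW : M ≤ N[W]
  lv : Lv r A S P L
  pM : P ≤ M
  sM : S ≤ M
  aM : A ≤ M
  lK : ⁅L, W⁆ ≤ K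
  cV : (#V).Coprime #A
  cW : (#W).Coprime #A
  cA : p.Coprime #A
  c5 : Phi W ≤ K ∨ ⁅Phi W, W⁆ ≤ K ∧ ⁅ck W W K, P⁆ ≤ K

variable [hr : Fact r.Prime]

theorem Tri.red (t : Tri q p r A V J W K P L S M) (hM : H ≤ M) (hP : P ≤ H) (hA : A ≤ H) (hD : H ≤ N[⁅P, A⁆])
    (cH : p.Coprime #H ∨ ⁅W, ⁅P, A⁆⁆ = W) (hY : Y ≤ W) (h : ⁅⁅V, ⁅W, A⁆⁆, Y⁆ ≤ J) : ∃ N, M ≤ N[N] ∧ W ≤ N[N] ∧ K ≤ N ∧
      Lv r (A /ᵍ N) (S /ᵍ N) (P /ᵍ N) (L /ᵍ N) ∧ (W ⊓ C[A]) /ᵍ N = W /ᵍ N ⊓ C[A /ᵍ N] ∧ ∃ U ≤ W /ᵍ N, L /ᵍ N ≤ C[U] ∧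
      H /ᵍ N ≤ N[U] ∧ Abelem p U ∧ Fam U (A /ᵍ N) (U ⊓ Y /ᵍ N) (H /ᵍ N) ∧
        ∀ X ≤ P, ⁅U, ⁅P /ᵍ N, A /ᵍ N⁆⁆ ≤ C[X /ᵍ N] → ⁅⁅W, ⁅P, A⁆⁆, X⁆ ≤ K := by
  obtain ⟨N, h1, h2, h3, h4, U, h5, h6⟩ := TU.red t.pV t.pW t.pq t.nJ t.wV t.wJ t.eK t.mV t.mJ t.mW hM hP hA hD t.lv.aP
    t.cV t.cW (Solv.coprime_card_of_isPGroup t.pW (Solv.coprime_card_of_isPGroup t.lv.pg
      ((Nat.coprime_primes hp.out hr.out).2 t.pr))) t.c5 cH hY h
  rw [quotientR (t.pM.trans h1) (t.aM.trans h1)] at h6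
  exact ⟨N, h1, h2, h3, t.lv.quo (t.aM.trans h1) (t.sM.trans h1) (t.pM.trans h1) h4, coprime_quotient_cent' h2
    (t.aM.trans h1) (t.aM.trans t.mW) t.cW (.inr (pgroup_sol t.pW)), U, h5,
    (quotient_cents2r (t.lK.trans h3)).trans (centS h5), h6⟩

theorem Tri.step (t : Tri q p r A V J W K P L S M) (hX : X ≤ P ⊓ C[A]) (h : ⁅⁅V, ⁅W, A⁆⁆, ⁅W ⊓ C[A], X⁆⁆ ≤ J) :
    ⁅⁅W, ⁅P, A⁆⁆, X⁆ ≤ K := by
  have xM := hX.trans (inf_le_left.trans t.pM)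
  obtain ⟨N, h1, h2, -, h3, h4, U, h5, h6, h7, h8, h9, h10⟩ := t.red (sup_le t.pM t.aM) le_sup_left le_sup_right
    (sup_le (commg_norml _ _) (commg_normr _ _)) (.inl (((Solv.coprime_card_of_isPGroup t.lv.pg ((Nat.coprime_primes
      hp.out hr.out).2 t.pr)).symm.mul_right t.cA).coprime_dvd_right (card_sup_dvd (.inr t.lv.aP))))
    ((commSg _ inf_le_left).trans (commg_subl (xM.trans t.mW))) h
  rw [quotientY (t.pM.trans h1) (t.aM.trans h1)] at h7 h9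
  rw [quotientR (inf_le_left.trans h2) (xM.trans h1), h4] at h9
  have xP := quotientS N (hX.trans inf_le_left)
  exact h10 X (hX.trans inf_le_left) (h3.down h6 t.pr h8 (le_sup_left.trans h7) (le_sup_right.trans h7)
    (coprime_morphr _ t.cA) (le_inf xP (quotient_cents _ (hX.trans inf_le_right))) (h9.mono (le_inf
      ((commSg _ inf_le_left).trans (commg_subl (xP.trans (le_sup_left.trans h7)))) (commSg _ (inf_le_inf_right _ h5)))
      le_rfl))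

theorem Tri.fix (t : Tri q p r A V J W K P L S M) (e1 : ⁅P, A⁆ = P) (e2 : ⁅W, P⁆ = W)
    (h : ⁅⁅V, ⁅W, A⁆⁆, W ⊓ C[A]⁆ ≤ J) : W ≤ K := by
  obtain ⟨N, h1, h2, -, h3, h4, U, h5, h6, h7, h8, h9, h10⟩ := t.red (sup_le t.pM t.aM) le_sup_left le_sup_right
    (sup_le (commg_norml _ _) (commg_normr _ _)) (.inr (by rw [e1, e2])) inf_le_left h
  rw [quotientY (t.pM.trans h1) (t.aM.trans h1)] at h7 h9
  have := h10 P le_rfl ((commG1'.2 (h3.fix h6 h8.abelian (le_sup_left.trans h7) (le_sup_right.trans h7)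
    (Solv.coprime_card_of_isPGroup h8.pg (Solv.coprime_card_of_isPGroup h3.pg ((Nat.coprime_primes hp.out hr.out).2 t.pr)))
    (Solv.coprime_card_of_isPGroup h8.pg (coprime_morphr _ t.cA).symm) (h9.mono (le_inf inf_le_left
      (h4 ▸ inf_le_inf_right _ h5)) le_rfl))).le.trans bot_le)
  rwa [e1, e2, e2] at this

theorem Tri.start (t : Tri q p r A V J W K P L S M) (tM : T ≤ M) (sA : S ≤ C[A]) (tA : T ≤ C[A]) (tP : T ≤ N[P])
    (tS : T ≤ N[S]) (e1 : ⁅P, A⁆ = P) (e2 : ⁅W, P⁆ = W) (e3 : ⁅P, S⁆ = P) (e4 : ⁅S, T⁆ = S) (hT : ⁅P ⊓ C[A], T⁆ ≤ L)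
    (tL : T ≤ N[L]) (cT : (#T).Coprime #A) (qT : (#T).Coprime r ∨ IsPGroup r T) (hX : X = S ∨ X = T) (cX : p.Coprime #X)
    (h : ⁅⁅V, ⁅W, A⁆⁆, ⁅W ⊓ C[A], X⁆⁆ ≤ J) : W ≤ K := by
  have hST := sup_le t.sM tM
  have xM : X ≤ M := hX.elim (·.le.trans t.sM) (·.le.trans tM)
  obtain ⟨N, h1, h2, -, h3, h4, U, h5, h6, h7, h8, h9, h10⟩ := t.red (sup_le (sup_le t.pM hST) t.aM)
    (le_sup_left.trans le_sup_left) le_sup_right (e1.symm ▸ sup_le (sup_le (normG P) (sup_le t.lv.sP tP)) t.lv.aP)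
    (.inr (by rw [e1, e2])) ((commSg _ inf_le_left).trans (commg_subl (xM.trans t.mW))) h
  have p1 := t.pM.trans h1
  have a1 := t.aM.trans h1
  have s1 := t.sM.trans h1
  have t1 := tM.trans h1
  rw [quotientY ((sup_le t.pM hST).trans h1) a1, quotientY p1 (hST.trans h1), quotientY s1 t1] at h7 h9
  rw [quotientR (inf_le_left.trans h2) (xM.trans h1), h4] at h9
  have xU : X /ᵍ N ≤ N[U] := le_trans (hX.elim (fun e => e ▸ le_sup_left) fun e => e ▸ le_sup_right)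
    (le_sup_right.trans (le_sup_left.trans h7))
  have k := TU.start h3 h6 (quotient_cents _ sA) (quotient_cents _ tA) (quotient_norms _ tP) (quotient_norms _ tS)
    (by rw [← quotientR s1 t1, e4]) (by rw [← quotientR p1 s1, e3]) (by rw [← quotientR p1 a1, e1]) (by
      rw [← coprime_quotient_cent' p1 a1 t.lv.aP t.lv.cA (.inr (pgroup_sol t.lv.pg)), ← quotientR (inf_le_left.trans p1) t1]
      exact quotientS _ hT) (coprime_morph _ cT) (qT.imp (coprime_morphl _) (·.quo _)) (hX.imp (congrArg _) (congrArg _))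
    t.pr (coprime_morphr _ cX) (coprime_morphr _ t.cA) h8 h7 (h9.mono (le_inf ((commSg _ inf_le_left).trans
      (commg_subl xU)) (commSg _ (inf_le_inf_right _ h5))) (sup_le_sup_right le_sup_left _))
  have := h10 P le_rfl ((commG1'.2 ((commg_subl h3.aP).trans k)).le.trans bot_le)
  rwa [e1, e2, e2] at this

omit hq in
theorem last (pW : IsPGroup p W) (pr : p ≠ r) (lv : Lv r A S P L) (pW' : P ≤ N[W]) (sW : S ≤ N[W]) (aW : A ≤ N[W])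
    (lW : L ≤ C[W]) (c3 : ⁅Phi W, P⁆ ≤ ⊥) (cA : p.Coprime #A) (hX : X ≤ P ⊓ C[A]) (h : ⁅W ⊓ C[A], X⁆ = ⊥) :
    ⁅⁅W, ⁅P, A⁆⁆, X⁆ ≤ ⊥ := by
  have w1 := (Phi_normal W).2
  have a1 := norms_Phi aW
  have p1 := norms_Phi pW'
  have xP := hX.trans inf_le_left
  have cW := Solv.coprime_card_of_isPGroup pW cA.symm
  have k := (lv.quo a1 (norms_Phi sW) p1 (coprime_TI (coprimeSg (Phi_sub W) cW))).down (quotient_cents _ lW) pr
    (Phi_quotient_abelem pW) (quotient_norms _ pW') (quotient_norms _ aW) (coprime_morphr _ cA)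
    (le_inf (quotientS _ xP) (quotient_cents _ (hX.trans inf_le_right))) (Fam.bot (by
      rw [← coprime_quotient_cent' w1 a1 aW cW (.inr (pgroup_sol pW)), ← quotientR (inf_le_left.trans w1) (xP.trans p1), h,
        quotient_bot]))
  have l := commg_subl ((commg_subl lv.aP).trans pW')
  rw [← quotientR p1 a1, ← quotientR w1 (comm_subG p1 a1), quotient_cents2 (l.trans w1) (xP.trans p1)] at k
  rw [← coprime_commGid (xP.trans (normsR pW' (commg_norml _ _))) (coprimeSS l xP (Solv.coprime_card_of_isPGroup pW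
    (Solv.coprime_card_of_isPGroup lv.pg ((Nat.coprime_primes hp.out hr.out).2 pr))))]
  exact (commgSS k xP).trans c3

end Cfsg.Agent.Sig.TU
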