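import Cfsg.Agent.Sig.Fpf2

/-! Towers of height three (`tower_lift`, `fh2_of_tower`) and Ward's theorem: a solvable group with a fixed-point-free
group of automorphisms `C_p × C_p` has Fitting height at most two (`ward`). -/

set_option linter.dupNamespace false
set_option linter.unusedSectionVars false
set_option linter.unusedVariables false

namespace Cfsg.Agent.Sig
open Subgroup Cfsg.Agent.BG
open scoped commutatorElement
universe u

local notation "Sol" => Group.IsSolvable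
local notation "Nil" => Group.IsNilpotent

variable {G : Type*} [Group G] [Finite G] {A B D H K L M N P Q R T U V W X Y Z : Subgroup G} {n p q r : ℕ} {x z : G}

theorem expg_cardG (h : x ∈ A) : x ^ #A = 1 := congrArg Subtype.val (pow_card_eq_one' (x := (⟨x, h⟩ : A)))

theorem es_quo [Fact q.Prime] (hP : IsExtraspecial q P) (hn : P ≤ N[N]) (hi : P ⊓ N = ⊥) :
    IsExtraspecial q (P /ᵍ N) ∧ Z[P /ᵍ N] = Z[P] /ᵍ N ∧ #(P /ᵍ N) = #P := by
  obtain ⟨h0, h1, h2, h3⟩ := extraspecial_spec hP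
  have e := quotient_TI_subcent hn hn (normG P) hi
  refine ⟨BG4.extraspecial_iff.2 ⟨h0.quo _, by rw [← quotient_Phi h0 hn, h1, e], by rw [← quotient_der hn, h2, e], ?_⟩,
    e.symm, card_quotient_TI hn (inf_comm P N ▸ hi)⟩
  rw [← e, card_quotient_TI (inf_le_left.trans hn) (eq_bot_iff.2 (hi ▸ le_inf (inf_le_right.trans inf_le_left) inf_le_left)),
    h3]

/-- the centraliser of a Singer element of order `2 ^ d + 1` -/
theorem es_fermat_aux [hp : Fact p.Prime] {d : ℕ} (hP : IsExtraspecial 2 P) (hc : #P = 2 ^ (2 * d + 1)) (hd : 0 < d)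
    (hD : #D = p) (he : p = 2 ^ d + 1) (hDP : D ≤ N[P]) (h0 : P ⊓ C[D] = Z[P]) (cP : (#P).Coprime #R)
    (cD : (#R).Coprime #D) (hRP : R ≤ N[P]) (hRZ : R ≤ C[Z[P]]) (hDR : D ≤ C[R]) (hf : R ⊓ C[P] = ⊥) : R = ⊥ := by
  haveI := Fact.mk Nat.prime_two
  obtain ⟨p2, -, -, cZ⟩ := extraspecial_spec hP
  by_contra h
  obtain ⟨r, hr, hr'⟩ := Nat.exists_prime_and_dvd (mt card_eq_one.1 h)
  obtain ⟨X, hX, cX⟩ := Cauchy_sub hr hr'
  have cX' := coprimeSg hX cD
  have hDX := hDR.trans (centS hX)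
  have cPD : (#P).Coprime #D := by
    rw [hc, hD, he]
    exact Nat.Coprime.pow_left _ ((Nat.coprime_two_left).2 (Even.add_one (by simp [parity_simps, hd.ne'])))
  have cyc := cyclicY (prime_cyclic (cX ▸ hr)) (prime_cyclic (hD ▸ hp.out)) (centsC.1 hDX) cX'
  have hH := sup_le (hX.trans hRP) hDP
  have hZ : X ⊔ D ≤ C[Z[P]] := sup_le (hX.trans hRZ) (centsC.1 (h0.ge.trans inf_le_right))
  have d2 := Nat.one_lt_two_pow hd.ne'
  have := repr_extraspecial_prime_sdprod_cycle hP hc cyc (by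
    rw [card_sup_TI (.inr (cents_norm hDX)) (coprime_TI cX')]
    exact Nat.Coprime.coprime_dvd_right (hc ▸ dvd_pow_self 2 (by omega)) ((coprimegS hX cP).mul_right cPD).symm) hH
    fun y hy y1 => by
      have l : Z[P] ≤ P ⊓ C1[y] := le_inf inf_le_left (le_cent1_iff.2 (hZ hy))
      have nD : D ≤ N[P ⊓ C1[y]] := normsI hDP (C_zpowers y ▸ (sub_abelian_cent2 (cyclic_abelian cyc) le_sup_right
        (zpowers_le.2 hy)).trans (normG _))
      have nZ := norms_center hDP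
      have nP := (center_normal P).2
      have cD' : #(D /ᵍ Z[P]) = p := (card_quotient_TI nZ (coprime_TI (coprimeSg inf_le_left cPD))).trans hD
      have h1 := regular_norm_dvd_pred (quotient_norms Z[P] nD) (semiregular_prime (cD' ▸ hp.out) (by
        rw [← coprime_quotient_cent l nZ (coprimeSg inf_le_left cPD) (.inr (abelian_sol (center_abelian P)))]
        exact quotientS1 ((inf_le_inf_right _ inf_le_left).trans h0.le)))
      obtain ⟨c, h2⟩ := ((p2.to_le (inf_le_left : P ⊓ C1[y] ≤ P)).quo Z[P]).exists_card_eq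
      have h3 := card_mul_quotient ⟨l, inf_le_left.trans nP⟩
      rw [h2, cZ, ← pow_succ'] at h3
      rw [cD', h2, he] at h1
      rcases Nat.eq_zero_or_pos c with rfl | c0
      · exact (eq_of_le_of_card_ge l (by rw [← h3, cZ]; rfl)).symm
      have h4 : y ∈ C[P] := le_cent1_iff.1 (inf_eq_left.1 (eq_of_le_of_card_ge inf_le_left (by
        rw [← h3, hc]
        exact Nat.pow_le_pow_right two_pos (Nat.succ_le_succ (Nat.le_of_dvd c0 (two_mul_dvd_of_fermat hd h1))))))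
      obtain ⟨u, hu, v, hv, rfl⟩ := (mem_sup_norml (cents_norm hDX)).1 hy
      have h5 := pow_mem h4 #D
      rw [Commute.mul_pow (mem_cent.1 (hDX hv) u hu), expg_cardG hv, mul_one] at h5
      obtain rfl : u = 1 := mem_bot.1 (hf.le ⟨hX hu, mem_of_pow_mem_coprime (expg_cardG hu) cX'.symm h5⟩)
      rw [one_mul] at y1 h4
      rw [← prime_nt_eq (hD ▸ hp.out) (zpowers_le.2 hv) (by rwa [Ne, zpowers_eq_bot]),
        inf_eq_left.2 (centsC.1 (zpowers_le.2 h4))] at h0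
      rw [← h0, hc] at cZ
      exact absurd (Nat.pow_right_injective le_rfl (cZ.trans (pow_one 2).symm)) (by omega)
  rw [card_sup_TI (.inr (cents_norm hDX)) (coprime_TI cX'), cX, hD, ← he] at this
  have h1 := Nat.mul_le_mul_right p hr.two_le
  rcases this with h | h <;> have := Nat.le_of_dvd (by omega) h <;> omega

theorem es_fermat [hp : Fact p.Prime] {d : ℕ} (hP : IsExtraspecial 2 P) (hc : #P = 2 ^ (2 * d + 1)) (hd : 0 < d)
    (hD : #D = p) (he : p = 2 ^ d + 1) (hDP : D ≤ N[P]) (h0 : P ⊓ C[D] = Z[P]) (cPD : (#P).Coprime #D)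
    (cP : (#P).Coprime #R) (cD : (#R).Coprime #D) (hRP : R ≤ N[P]) (hRZ : R ≤ C[Z[P]]) (hDR : D ≤ C[R]) : R ≤ C[P] := by
  haveI := Fact.mk Nat.prime_two
  have n1 : P ≤ N[R ⊓ C[P]] := cents_norm (centsC.1 inf_le_right)
  have n2 := subcent_normal hRP
  have n3 : D ≤ N[R ⊓ C[P]] := cents_norm (hDR.trans (centS inf_le_left))
  have i1 := coprime_TI (coprimegS (inf_le_left : R ⊓ C[P] ≤ R) cP)
  obtain ⟨h1, h2, h3⟩ := es_quo hP n1 i1
  refine ((quotient_sub1 n2.2).1 (es_fermat_aux h1 (h3.trans hc) hd ((card_quotient_TI n3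
    (coprime_TI (coprimeSg inf_le_left cD))).trans hD) he (quotient_norms _ hDP) ?_ (coprime_morph _ cP)
    (coprime_morph _ cD) (quotient_norms _ hRP) (h2 ▸ quotient_cents _ hRZ) (quotient_cents _ hDR) ?_)).trans
    inf_le_right
  · rw [← quotient_TI_subcent n1 n3 hDP i1, h0, h2]
  · refine eq_bot_iff.2 fun x hx => ?_
    obtain ⟨y, hy, ny, rfl⟩ := mem_quotient_iff.1 hx.1
    exact coset_id ⟨hy, zpowers_le.1 (cent_of_quo (zpowers_le.2 (hRP hy)) (zpowers_le.2 ny) inf_le_right i1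
      (by rw [quotient_zpowers ny]; exact zpowers_le.2 hx.2))⟩

/-- a Frobenius group with complement of Fermat order cannot act in the exceptional way -/
theorem es_frob [hp : Fact p.Prime] {d : ℕ} (hP : IsExtraspecial 2 P) (hd : 0 < d) (hB : #B = p) (he : p = 2 ^ d + 1)
    (hc : #⁅P, B⁆ = 2 ^ (2 * d + 1)) (hBP : B ≤ N[P]) (hBZ : B ≤ C[Z[P]]) (hRP : R ≤ N[P]) (hBR : B ≤ N[R])
    (cB : (#P).Coprime #B) (cR : (#P).Coprime #R) (h0 : P ⊓ C[R] = Z[P]) (h1 : R ⊓ C[B] = ⊥) : False := by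
  haveI := Fact.mk Nat.prime_two
  obtain ⟨p2, -, -, cZ⟩ := extraspecial_spec hP
  obtain ⟨n, hn, e⟩ := card_extraspecial hP
  have R1 : R ≠ ⊥ := by
    rintro rfl
    rw [BG.cent_bot, inf_top_eq] at h0
    rw [← h0, e] at cZ
    exact absurd (Nat.pow_right_injective le_rfl (cZ.trans (pow_one 2).symm)) (by omega)
  have h2 := (Frobenius_Wielandt_fixpoint (Frob.mk' hBR R1 (ne_bot_of_prime (hB ▸ hp.out))
    (semiregular_prime (hB ▸ hp.out) h1)) (sup_le hRP hBP) ((cR.mul_right cB).coprime_dvd_right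
    (card_sup_dvd (.inr hBR))) (pgroup_sol p2)).1
  obtain ⟨-, -, h3, -⟩ := es_comm hP hBP cB hBZ fun h => by
    rw [h, Subgroup.card_bot] at hc; exact absurd hc.symm (Nat.one_lt_two_pow (by omega)).ne'
  have h4 := card_sup_mul_inf (A := ⁅P, B⁆) (B := P ⊓ C[B]) (.inr (inf_le_left.trans (commg_norml _ _)))
  obtain ⟨c, h5⟩ := (p2.to_le (inf_le_left : P ⊓ C[B] ≤ P)).exists_card_eq
  rw [coprime_cent_prod hBP cB (pgroup_sol p2), ← inf_assoc, inf_eq_left.2 (commg_subl hBP), h3, cZ, e, hc, h5,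
    ← pow_succ, ← pow_add] at h4
  rw [BG.cent_sup, ← inf_assoc, h0, inf_eq_left.2 (centsC.1 hBZ), cZ, e, h5, hB, ← pow_mul, ← pow_add, ← pow_succ] at h2
  have h6 := Nat.pow_right_injective le_rfl h2
  have h7 := Nat.pow_right_injective le_rfl h4
  obtain ⟨d, rfl⟩ := Nat.exists_eq_add_of_lt hd
  have h8 := Nat.lt_two_pow_self (n := d)
  rw [zero_add, pow_succ] at he
  obtain ⟨c, rfl⟩ : ∃ k, c = 2 * k + 1 := ⟨n - d - 1, by omega⟩
  generalize 2 ^ d = t at he h8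
  subst he
  rcases Nat.eq_zero_or_pos c with rfl | c0
  · omega
  · nlinarith

theorem le_coquo_cent (hY : Y ≤ Q) (hQ : IsMulCommutative Q) : ⁅Q, X⁆ ≤ Y ↔ X ≤ coquo Y C[Q /ᵍ Y] :=
  ⟨fun h => (sub_quotient_pre (norm_of_commg_subl ((commSg _ hY).trans h))).1 (centsC.1 (quotient_cents2r h)), fun h =>
    have nX := h.trans (cosetpre_norm _)
    (quotient_cents2 (sub_abelian_norm hQ hY) nX).1 (centsC.1 ((sub_quotient_pre nX).2 h))⟩

theorem p2_compl [hp : Fact p.Prime] (hA : IsMulCommutative A) (hc : #A = p ^ 2) (hD : D ≤ A) (cD : #D = p) (hB : B ≤ A)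
    (h1 : B ≠ ⊥) (h2 : B ≠ A) : #B = p ∧ (¬ D ≤ B → B ⊔ D = A) := by
  have key : ∀ X ≤ A, X ≠ ⊥ → X ≠ A → #X = p := fun X hX h1 h2 => by
    obtain ⟨i, hi, e⟩ := (Nat.dvd_prime_pow hp.out).1 (hc ▸ cardSg hX)
    interval_cases i
    · exact absurd (card_eq_one.1 e) h1
    · rw [e, pow_one]
    · exact absurd (eq_of_le_of_card_ge hX (by rw [hc, e])) h2
  refine ⟨key B hB h1 h2, fun h => by_contra fun h3 => h (le_sup_right.trans (eq_of_le_of_card_ge le_sup_left ?_).ge)⟩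
  rw [key B hB h1 h2, key _ (sup_le hB hD) (fun e => h1 (eq_bot_iff.2 (e ▸ le_sup_left))) h3]

theorem ward_ab [hp : Fact p.Prime] [Fact q.Prime] (hA : IsMulCommutative A) (hc : #A = p ^ 2) (hD : D ≤ A) (cD : #D = p)
    (hQ : Abelem q Q) (hV : IsMulCommutative V) (hAR : A ≤ N[R]) (hAQ : A ≤ N[Q]) (hAV : A ≤ N[V]) (hRQ : R ≤ N[Q])
    (hRV : R ≤ N[V]) (hQV : Q ≤ N[V]) (hDR : D ≤ C[R]) (cQ : (#V).Coprime #Q) (cR : (#R).Coprime #A) (sR : Sol R)
    (h1 : ⁅Q, D⁆ = Q) (h2 : ⁅Q, R⁆ = Q) (hR : R ⊓ C[A] = ⊥) (h0 : V ⊓ C[A] = ⊥) : Q ≤ C[V] := by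
  by_contra h
  have aQ := hQ.abelian
  obtain ⟨Y, hY, hi, hW⟩ := exists_weight hQ hV hQV cQ h
  have key : ∀ g ∈ R, A ⊓ coquo (cj g Y) C[Q /ᵍ cj g Y] ≠ ⊥ := fun g hg e => by
    have := (weight_cent (q := q) aQ hV hQV cQ (cj_le_of_norm (hRQ hg) hY) (by
      rw [← hi, ← relIndex_cj g Y Q, cj_of_norm (hRQ hg)]) hAV hAQ h0).2.2
    rw [e, BG.cent_bot, inf_top_eq, ← cj_of_norm (hRV hg), ← cj_of_norm (hRQ hg), C_cj, ← cj_inf, ← cj_comm,
      cj_eq_bot] at this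
    exact hW (commG1.1 this)
  have hS := fun X => le_coquo_cent (X := X) hY aQ
  have nY : ¬ Q ≤ Y := fun h => (Fact.out : q.Prime).ne_one (hi ▸ relIndex_eq_one.2 h)
  have h3 := key 1 (one_mem _)
  rw [cj_one] at h3
  set S := coquo Y C[Q /ᵍ Y]
  have h4 : ¬ D ≤ S := fun h => nY (h1.ge.trans ((hS D).2 h))
  obtain ⟨h5, h6⟩ := p2_compl hA hc hD cD inf_le_left h3 fun e => h4 (hD.trans (e.ge.trans inf_le_right))
  replace h6 := h6 fun h => h4 (h.trans inf_le_right)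
  have h7 : ⁅R, A ⊓ S⁆ = R := by
    have := coprime_cent_prod (inf_le_left.trans hAR : A ⊓ S ≤ _) (coprimegS inf_le_left cR) sR
    rwa [show R ⊓ C[A ⊓ S] = ⊥ from eq_bot_iff.2 (hR ▸ le_inf inf_le_left ((le_cent_sup inf_le_right
      (inf_le_left.trans (centsC.1 hDR))).trans (centS h6.ge))), sup_bot_eq] at this
  refine nY (h2.ge.trans ((hS R).2 (h7.ge.trans (commutator_le.2 fun g hg b hb => S.mul_mem ?_ (S.inv_mem hb.2)))))
  obtain ⟨a, ha, a1⟩ := (bot_or_exists_ne_one _).resolve_left (key g⁻¹ (inv_mem hg))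
  obtain ⟨u, hu, v, hv, rfl⟩ := (mem_sup_norml (hD.trans (sub_abelian_norm hA inf_le_left))).1 (h6.ge ha.1)
  have h8 : g * (u * v) * g⁻¹ ∈ S := zpowers_le.1 ((hS _).1 (by
    rw [← cj_zpowers, ← cj_of_norm (hRQ hg), ← cj_comm, cj_le_iff]
    exact (le_coquo_cent (cj_le_of_norm (hRQ (inv_mem hg)) hY) aQ).2 (zpowers_le.2 ha.2)))
  have h9 : u⁻¹ * g * u * g⁻¹ ∈ R := mul_mem (by
    simpa using (mem_normalizer_iff.1 (inv_mem (hAR hu.1)) _).1 hg) (inv_mem hg)
  have h10 := pow_mem (S.mul_mem (S.inv_mem hu.2) h8) #R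
  rw [show u⁻¹ * (g * (u * v) * g⁻¹) = u⁻¹ * g * u * g⁻¹ * v by
    rw [mul_assoc _ g⁻¹, mem_cent.1 (hDR hv) _ (inv_mem hg)]; group,
    Commute.mul_pow (mem_cent.1 (hDR hv) _ h9), expg_cardG h9, one_mul] at h10
  obtain rfl : v = 1 := by_contra fun v1 => h4 ((prime_nt_eq (cD ▸ hp.out) (zpowers_le.2 hv)
    (by rwa [Ne, zpowers_eq_bot])).ge.trans (zpowers_le.2 (mem_of_pow_mem_coprime (expg_cardG (hD hv)) cR h10)))
  rw [mul_one] at a1 h8
  rw [← prime_nt_eq (h5 ▸ hp.out) (zpowers_le.2 hu) (by rwa [Ne, zpowers_eq_bot])] at hb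
  exact (cj_zpowers g u).le.trans (zpowers_le.2 h8) (mem_cj'.2 ⟨b, hb, rfl⟩)

theorem ward_aux [hp : Fact p.Prime] [hq : Fact q.Prime] (n : ℕ) : ∀ {G : Type u} [Group G] [Finite G]
    {Q R A D V : Subgroup G}, #Q = n → IsPGroup q Q → IsMulCommutative A → #A = p ^ 2 → D ≤ A → #D = p →
    IsMulCommutative V → A ≤ N[R] → A ≤ N[Q] → A ≤ N[V] → R ≤ N[Q] → R ≤ N[V] → Q ≤ N[V] → D ≤ C[R] →
    (#V).Coprime #Q → (#V).Coprime #A → (#Q).Coprime #A → (#Q).Coprime #R → (#R).Coprime #A → Sol R →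
    Q ⊓ C[D] ≤ C[R] → R ⊓ C[A] = ⊥ → Q ⊓ C[A] = ⊥ → V ⊓ C[A] = ⊥ → ⁅Q, R⁆ ≤ C[V] := by
  induction n using Nat.strong_induction_on with | _ n ih => ?_
  intro G _ _ Q R A D V hn hQ aA hc hD cD hV hAR hAQ hAV hRQ hRV hQV hDR cQ cA cQA cQR cRA sR hQD hR0 hQ0 h0
  have sA := abelian_sol aA
  by_cases hC : Q ⊓ C[V] = ⊥
  swap
  · have nN := subcent_normal hQV
    have nA := normsI hAQ (norms_cent hAV)
    have nR := normsI hRQ (norms_cent hRV)
    have nV : V ≤ N[Q ⊓ C[V]] := cents_norm (centsC.1 inf_le_right)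
    refine cent_of_quo (comm_subG hQV hRV) (comm_subG nN.2 nR) inf_le_right (coprime_TI (coprimegS inf_le_left cQ)) ?_
    rw [quotientR nN.2 nR]
    refine ih _ (hn ▸ ltn_quotient hC inf_le_left) rfl (hQ.quo _) (quotient_abelian _ aA)
      ((card_quotient_TI nA (coprime_TI (coprimeSg inf_le_left cQA))).trans hc) (quotientS _ hD)
      ((card_quotient_TI (hD.trans nA) (coprime_TI (coprimeSg inf_le_left (coprimegS hD cQA)))).trans cD)
      (quotient_abelian _ hV) (quotient_norms _ hAR) (quotient_norms _ hAQ) (quotient_norms _ hAV)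
      (quotient_norms _ hRQ) (quotient_norms _ hRV) (quotient_norms _ hQV) (quotient_cents _ hDR) (coprime_morph _ cQ)
      (coprime_morph _ cA) (coprime_morph _ cQA) (coprime_morph _ cQR) (coprime_morph _ cRA) (quotient_sol _ sR)
      ?_ ?_ ?_ ?_
    · rw [← coprime_quotient_cent' nN.2 (hD.trans nA) (hD.trans hAQ) (coprimegS hD cQA) (.inr (pgroup_sol hQ))]
      exact quotient_cents _ hQD
    · rw [← coprime_quotient_cent' nR nA hAR cRA (.inl sA), hR0, quotient_bot]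
    · rw [← coprime_quotient_cent' nN.2 nA hAQ cQA (.inl sA), hQ0, quotient_bot]
    · rw [← coprime_quotient_cent' nV nA hAV cA (.inl sA), h0, quotient_bot]
  by_contra hcon
  have hQ1 : Q ≠ ⊥ := fun h => hcon (by simp [h])
  have cq : ∀ {X : Subgroup G}, (#Q).Coprime #X → (#X).Coprime q := fun h =>
    (h.coprime_dvd_left (pgroup_pdiv hQ hQ1)).symm
  obtain ⟨h1, h2, h3, -, h5, -⟩ := Gen.minimal_action hQ (sup_le hRQ hAQ) le_sup_left (sup_le (normG R) hAR) (cq cQR)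
    (fun h => hcon (h ▸ bot_le)) fun U hU hAU => eq_bot_iff.2 (hC ▸ le_inf
    ((commg_subl (le_sup_left.trans hAU)).trans hU.le) (ih _ (hn ▸ proper_card hU) rfl (hQ.to_le hU.le) aA hc hD cD hV
      hAR (le_sup_right.trans hAU) hAV (le_sup_left.trans hAU) hRV (hU.le.trans hQV) hDR (coprimegS hU.le cQ) cA
      (coprimeSg hU.le cQA) (coprimeSg hU.le cQR) cRA sR ((inf_le_inf_right _ hU.le).trans hQD) hR0
      (eq_bot_iff.2 (hQ0 ▸ inf_le_inf_right _ hU.le)) h0))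
  have h6 : Q ⊓ C[D] ≤ Phi Q := h2 ▸ le_inf inf_le_left hQD
  have h7 := coprime_cent_prod (hD.trans hAQ) (coprimegS hD cQA) (pgroup_sol hQ)
  by_cases hab : IsMulCommutative Q
  · rw [der1_eq_bot.2 hab] at h3
    rw [eq_bot_iff.2 (h6.trans h3.le), sup_bot_eq] at h7
    exact hcon (h1.le.trans
      (ward_ab aA hc hD cD ((trivg_Phi hQ).1 h3) hV hAR hAQ hAV hRQ hRV hQV hDR cQ cRA sR h7 h1 hR0 h0))
  replace h5 := h5 hab
  obtain ⟨Y, B, K, W, hY, hB, kB, nK, eK, hW, wK, kX, f1, f2, cz, es⟩ := special_setup hQ h5 (h3.symm.trans h5) hQ1 hV hQV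
    cQ hC hAV hAQ cA h0
  obtain ⟨b1, b2, b3⟩ := kX B (hB.trans hAV) (hB.trans hAQ) ((kB B hB).2 le_rfl)
  obtain ⟨q1, -, -⟩ := kX Q hQV (normG Q) (by rw [commG1.2 inf_le_right]; exact bot_le)
  obtain ⟨r1, r2, r3⟩ := kX R hRV hRQ (by rw [commG1.2 ((h2.trans h5).ge.trans inf_le_right)]; exact bot_le)
  have z1 : Z[Q] /ᵍ K ≠ ⊥ := ne_bot_of_prime (cz ▸ hq.out)
  have P1 : Q /ᵍ K ≠ ⊥ := fun e => z1 (eq_bot_iff.2 (e ▸ quotientS K inf_le_left))
  obtain ⟨k1, k2⟩ := p2_compl aA hc hD cD hB (by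
      rintro rfl
      rw [quotient_bot, BG.cent_bot, inf_top_eq] at f2
      rw [f2, BG.cent_bot, inf_top_eq] at f1
      exact P1 f1) fun e => hY.not_ge (by
    have := coprime_cent_prod' (norms_center hAQ) (coprimeSg inf_le_left cQA) (.inl sA)
    rw [eq_bot_iff.2 (hQ0 ▸ inf_le_inf_right _ inf_le_left : Z[Q] ⊓ C[A] ≤ ⊥), sup_bot_eq] at this
    exact this.ge.trans ((kB A le_rfl).2 e.ge))
  have cB : #(B /ᵍ K) = p := (card_quotient_TI b2 (coprime_TI (coprimeSg nK.1 (coprimegS hB cQA)))).trans k1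
  have cyB := prime_cyclic (cB ▸ hp.out)
  have hτ := cyc_le_zpowers cyB (pgroup_of_card_p cB) le_rfl cB
  have sW := quotient_sol K (abelian_sol (abelianS hW hV))
  have cWQ := coprime_morph (qmk K) (coprimeSg hW cQ)
  have cWB := coprime_morph (qmk K) (coprimeSg hW (coprimegS hB cA))
  have cPB := coprime_morph (qmk K) (coprimegS hB cQA)
  have cPR := coprime_morph (qmk K) cQR
  have nB := quotient_norms K (hB.trans hAQ)
  have nR := quotient_norms K hRQ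
  have eR : Q /ᵍ K ⊓ C[R /ᵍ K] = Z[Q] /ᵍ K := by
    rw [← coprime_quotient_cent' nK.2 r2 hRQ cQR (.inl sR), h2, h5]
  have eP : ⁅Q /ᵍ K, R /ᵍ K⁆ = Q /ᵍ K := by rw [← quotientR nK.2 r2, h1]
  have rP : ¬ R /ᵍ K ≤ C[Q /ᵍ K] := fun h => P1 (eP ▸ commG1'.2 h)
  have eB : Q /ᵍ K ⊓ C[B /ᵍ K] ≤ Z[Q] /ᵍ K ∨ R /ᵍ K ⊓ C[B /ᵍ K] = ⊥ := by
    by_cases h : D ≤ B
    · rw [← coprime_quotient_cent' nK.2 b2 (hB.trans hAQ) (coprimegS hB cQA) (.inr (pgroup_sol hQ))]
      exact .inl (quotientS K ((inf_le_inf_left _ (centS h)).trans (h6.trans h5.le)))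
    · rw [← coprime_quotient_cent' r2 b2 (hB.trans hAR) (coprimegS hB cRA) (.inr sR)]
      exact .inr (quotientS1 (le_trans (hR0 ▸ le_inf inf_le_left ((le_cent_sup inf_le_right
        (inf_le_left.trans (centsC.1 hDR))).trans (centS (k2 h).ge))) bot_le))
  have eB' : ∀ X, R /ᵍ K ≤ N[X] → B /ᵍ K ≤ C[X] → R /ᵍ K ⊓ C[B /ᵍ K] = ⊥ → R /ᵍ K ≤ C[X] := fun X h h' e => by
    have := coprime_cent_prod (quotient_norms K (hB.trans hAR)) (coprime_morph _ (coprimegS hB cRA)) (quotient_sol K sR)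
    rw [e, sup_bot_eq] at this
    exact this.ge.trans ((commgS _ h').trans (commg_subr (norms_cent h)))
  obtain ⟨hE, eZ⟩ := es (by
    have nZ := norms_center nB
    have := centsC.1 (commG1.1 (eq_bot_iff.2 (f1 ▸ le_inf ((commg_subl nZ).trans inf_le_left) (abel_comm_cent
      (center_abelian _) (cyclic_abelian cyB) le_rfl hτ nZ (coprimeSg inf_le_left cPB) sW
      (inf_le_left.trans (quotient_norms K q1)) (quotient_norms K b1) (coprimegS inf_le_left cWQ) cWB f2))))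
    exact eB.elim ((le_inf inf_le_left (centsC.1 this)).trans ·) fun e =>
      eR ▸ le_inf inf_le_left (centsC.1 (eB' _ (norms_center nR) this e)))
  have ne : ⁅Q /ᵍ K, B /ᵍ K⁆ ≠ ⊥ := fun h => rP (eB.elim (fun e => centsC.1 ((le_inf le_rfl (commG1.1 h)).trans
    (e.trans (centsC.1 r3)))) (eB' _ nR (commG1'.1 h)))
  obtain ⟨d, hd, e1, e2⟩ := es_bound hE cyB ((cq (coprimegS hB cQA)).coprime_dvd_left (dvdn_quotient _ _)) nB (eZ ▸ b3) le_rfl hτ ne sW
    (quotient_norms K q1) (quotient_norms K b1) cWQ cWB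
    (fun h => z1 (eq_bot_iff.2 (f1 ▸ eZ ▸ le_inf inf_le_left h))) f2
  rw [cB] at e2
  obtain rfl : q = 2 := hq.out.eq_two_or_odd'.resolve_right fun ho => by
    have := Nat.one_lt_pow hd.ne' hq.out.one_lt
    have := hp.out.even_iff.1 (e2 ▸ ho.pow.add_one)
    omega
  by_cases h : D ≤ B
  · have e3 : Q /ᵍ K ⊓ C[B /ᵍ K] = Z[Q /ᵍ K] := le_antisymm (by
      rw [eZ, ← coprime_quotient_cent' nK.2 b2 (hB.trans hAQ) (coprimegS hB cQA) (.inr (pgroup_sol hQ))]
      exact quotientS K ((inf_le_inf_left _ (centS h)).trans (h6.trans h5.le))) (le_inf inf_le_left (centsC.1 (eZ ▸ b3)))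
    have e4 := coprime_cent_prod nB cPB (pgroup_sol (hQ.quo K))
    rw [e3, sup_eq_left.2 ((es_comm hE nB cPB (eZ ▸ b3) ne).2.1.ge.trans inf_le_left)] at e4
    exact rP (es_fermat hE (e4 ▸ e1) hd cB e2 nB e3 cPB cPR (coprime_morph _ (coprimegS hB cRA)) nR (eZ ▸ r3)
      (quotient_cents K ((eq_of_le_of_card_ge h (by rw [k1, cD])).ge.trans hDR)))
  refine es_frob hE hd cB e2 e1 nB (eZ ▸ b3) nR (quotient_norms K (hB.trans hAR)) cPB cPR (eR.trans eZ.symm) ?_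
  rw [← coprime_quotient_cent' r2 b2 (hB.trans hAR) (coprimegS hB cRA) (.inr sR)]
  exact quotientS1 (le_trans (hR0 ▸ le_inf inf_le_left ((le_cent_sup inf_le_right
    (inf_le_left.trans (centsC.1 hDR))).trans (centS (k2 h).ge))) bot_le)

theorem tower_lift [Fact q.Prime] [Fact r.Prime] (hs : Sol K) (hA : A ≤ N[K]) (hc : (#K).Coprime #A) (hX : X ⊴ K)
    (hAX : A ≤ N[X]) {S : Subgroup (Quo X)} (hS : S ≤ K /ᵍ X) (hr : IsPGroup r S) (hAS : A /ᵍ X ≤ N[S]) :
    ∃ Q ≤ K, ∃ R ≤ K, IsPGroup q Q ∧ IsPGroup r R ∧ A ≤ N[Q] ∧ A ≤ N[R] ∧ R ≤ N[Q] ∧ Q /ᵍ X = Op q (K /ᵍ X) ∧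
      S ≤ Op q (K /ᵍ X) ⊔ R /ᵍ X := by
  have nO := pcore_normal {q} (K /ᵍ X)
  have aO := norms_pcore {q} (quotient_norms X hA)
  have pO := Op_pgroup q (K /ᵍ X)
  change Op q _ ⊴ _ at nO
  change _ ≤ N[Op q _] at aO
  generalize Op q (K /ᵍ X) = O at nO aO pO
  have n1 := cosetpre_normal hX nO
  have l : coquo X (O ⊔ S) ≤ K := (sub_cosetpre_quo hX).2 (sup_le nO.1 hS)
  obtain ⟨Q, hQ, aQ⟩ := coprime_Sylow_exists q (norms_cosetpre hAX aO) (coprimeSg n1.1 hc) (.inr (solvableS n1.1 hs))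
  have l' : coquo X (O ⊔ S) ⊓ N[Q] ≤ K := inf_le_left.trans l
  obtain ⟨R, hR, aR⟩ := coprime_Sylow_exists r (normsI (norms_cosetpre hAX (normsY aO hAS)) (norms_norm aQ))
    (coprimeSg l' hc) (.inr (solvableS l' hs))
  have e := congrArg (· /ᵍ X /ᵍ O) (Frattini_arg ⟨cosetpreS le_sup_left, l.trans n1.2⟩ hQ)
  have n2 := (quotientS X l').trans nO.2
  simp only [quotientY (n1.1.trans hX.2) (l'.trans hX.2), cosetpreK, quotientYidl n2, quotientYidl (hS.trans nO.2)] at e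
  refine ⟨Q, hQ.le.trans n1.1, R, hR.le.trans l', hQ.pg, hR.pg, aQ, aR, hR.le.trans inf_le_right, ?_, ?_⟩
  · have := quotient_pHall (cosetpre_norm O) hQ
    rw [cosetpreK] at this
    exact (Hall_max this this.le le_rfl pO.pi).symm
  · have := quotient_pHall n2 (quotient_pHall (l'.trans hX.2) hR)
    rw [e] at this
    rw [← quotientK ((quotientS X hR.le).trans n2), ← sub_quotient_pre (hS.trans nO.2), ← Hall_max this this.le le_rfl (hr.quo O).pi]

theorem fh2_of_tower (hs : Sol K) (hAK : A ≤ N[K]) (hc : (#K).Coprime #A) (hT : T ≤ A)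
    (h : ∀ s q r, s.Prime → q.Prime → r.Prime → q ≠ s → r ≠ q → ∀ Q ≤ K, ∀ R ≤ K, IsPGroup q Q → IsPGroup r R →
      A ≤ N[Q] → A ≤ N[R] → R ≤ N[Q] → ⁅Q, ⁅R, T⁆⁆ ≤ C[Op s K]) : FH 2 ⁅K, T⁆ := by
  have hTK := hT.trans hAK
  have l := commg_subl hTK
  refine fh_succ.2 (nilpotentS (BG4.le_Fitting_of_pgroups hs ⟨(nres_it_le _ _).trans l,
    norms_nres_it 1 (commg_norml K T)⟩ fun s t hs' ht hne P hP hp => ?_) (Fitting_nil K))
  haveI := Fact.mk hs'
  haveI := Fact.mk ht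
  have kC := norms_cent (pcore_normal {s} K).norm
  have aC := norms_cent (norms_pcore {s} hAK)
  change _ ≤ N[C[Op s K]] at kC aC
  replace h := fun q r => h s q r hs'
  generalize C[Op s K] = C at h kC aC ⊢
  have nO := pcore_normal {s} (K /ᵍ C)
  have hX : K ⊓ coquo C (Op s (K /ᵍ C)) ⊴ K := ⟨inf_le_left, normsI (normG K) (norms_cosetpre kC nO.2)⟩
  have aX : A ≤ N[K ⊓ coquo C (Op s (K /ᵍ C))] :=
    normsI hAK (norms_cosetpre aC (norms_pcore {s} (quotient_norms C hAK)))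
  have pX : IsPGroup s ((K ⊓ coquo C (Op s (K /ᵍ C))) /ᵍ C) :=
    (Op_pgroup s _).to_le ((sub_quotient_pre (inf_le_left.trans kC)).2 inf_le_right)
  have mX : ∀ Y, Y ⊴ K → IsPGroup s (Y /ᵍ C) → Y ≤ K ⊓ coquo C (Op s (K /ᵍ C)) := fun Y h1 h2 =>
    le_inf h1.1 ((sub_quotient_pre (h1.1.trans kC)).1 (pcore_max (quotient_normal C h1) h2.pi))
  have cX : K ⊓ C ≤ K ⊓ coquo C (Op s (K /ᵍ C)) := inf_le_inf_left _ (sub_cosetpre _)
  generalize K ⊓ coquo C (Op s (K /ᵍ C)) = X at hX aX pX mX cX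
  refine BG4.sub_of_pgroup_quotient pX (hP.trans ((fh_quo (l.trans hX.2)).1 (fh_one.2 (nilpotentS ?_ (Fitting_nil (K /ᵍ X))))))
    ((hP.trans ((nres_it_le _ _).trans l)).trans kC) (p'group_of_ne hp hne)
  rw [quotientR hX.2 (hT.trans aX)]
  refine comm_le_Fitting_of (quotient_sol _ hs) (quotient_norms _ hAK) (coprime_morph _ hc) (quotientS _ hT)
    fun q r hq hr hrq S hS pS aS => ?_
  haveI := Fact.mk hq
  haveI := Fact.mk hr
  have nO := pcore_normal {q} (K /ᵍ X)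
  by_cases e : q = s
  · subst e
    have n1 := cosetpre_normal hX (pcore_normal {q} (K /ᵍ X))
    have := mX _ n1 (by
      rintro ⟨_, hy'⟩
      obtain ⟨y, hy, ny, rfl⟩ := mem_quotient_iff.1 hy'
      obtain ⟨i, hi⟩ := Op_pgroup q (K /ᵍ X) ⟨_, (mem_coquo.1 hy).2⟩
      have h1 := (coset_eq_one (pow_mem (hX.2 (n1.1 hy)) _)).1
        ((coset_pow (hX.2 (n1.1 hy)) _).trans (congrArg Subtype.val hi))
      obtain ⟨j, hj⟩ := pX ⟨_, mem_quotient (pow_mem ny _) h1⟩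
      exact ⟨i + j, Subtype.ext (by rw [coe_pow, pow_add, pow_mul, ← coset_pow ny]; exact congrArg Subtype.val hj)⟩)
    rw [← cosetpreK (Op q _), quotientS1 this, BG.cent_bot]
    exact le_top
  obtain ⟨Q, hQ, R, hR, pQ, pR, aQ, aR, nQ, e1, e2⟩ := tower_lift (q := q) hs hAK hc hX aX hS pS aS
  have l1 := commg_subl (hT.trans aR)
  have h1 := quotient_cents2r ((le_inf (comm_subG hQ (l1.trans hR)) (h q r hq hr e hrq Q hQ R hR pQ pR aQ aR nQ)).trans cX)
  rw [centsC, e1, quotientR (hR.trans hX.2) (hT.trans aX)] at h1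
  have n1 := norms_cent nO.2
  have n2 := normsY n1 nO.2
  have l2 := commg_subl ((quotientS X hT).trans aS)
  refine BG4.sub_of_pgroup_quotient (D := C[Op q (K /ᵍ X)] ⊔ Op q (K /ᵍ X))
    (by rw [quotientYidl (nO.1.trans n1)]; exact (Op_pgroup q _).quo _)
    ((commSg _ e2).trans (comm_sup_le (nO.1.trans n2) ((quotientS X hR).trans n2) ((commg_subl ((quotientS X hT).trans
      (norms_pcore {q} (quotient_norms X hAK)))).trans le_sup_right) (h1.trans le_sup_left)))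
    ((l2.trans hS).trans n1) (p'group_of_ne (pS.to_le l2) hrq)

theorem ward [hp : Fact p.Prime] (hs : Sol K) (hA : Abelem p A) (hc : #A = p ^ 2) (hAK : A ≤ N[K]) (h0 : K ⊓ C[A] = ⊥) :
    FH 2 K := by
  have aA := hA.abelian
  have c := pnat_coprime' (p'group_of_fpf hA.pg hAK h0) hA.pg.pi
  have e := coprime_cent_prod hAK c hs
  rw [h0, sup_bot_eq] at e
  have b : ∀ X ≤ K, X ⊓ C[A] = ⊥ := fun X hX => eq_bot_iff.2 (h0 ▸ inf_le_inf_right _ hX)
  refine e ▸ fh2_of_tower hs hAK c le_rfl fun s q r hs' hq hr hqs hrq Q hQ R hR pQ pR aQ aR nQ => ?_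
  haveI := Fact.mk hs'
  haveI := Fact.mk hq
  haveI := Fact.mk hr
  have nV := pcore_normal {s} K
  have aV := norms_pcore {s} hAK
  have pV := Op_pgroup s K
  change Op s K ⊴ K at nV
  change A ≤ N[Op s K] at aV
  generalize Op s K = V at nV aV pV
  have cQ := IsPGroup.coprime_card_of_ne _ _ hqs.symm _ _ pV pQ
  have cQR := IsPGroup.coprime_card_of_ne _ _ hrq.symm _ _ pQ pR
  have n1 := (Phi_normal V).2
  have kP := norms_Phi nV.2
  have aP := norms_Phi aV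
  refine (commgS _ (commg_subl aR)).trans (cent_of_Phi ((commg_subl nQ).trans (hQ.trans nV.2))
    (coprimegS (commg_subl nQ) cQ) ?_)
  have kC := norms_cent (quotient_norms (Phi V) nV.2)
  rw [quotientR (hQ.trans kP) (hR.trans kP), commGC, ← quotient_cents2 ((quotientS _ hR).trans kC)
    ((quotientS _ hQ).trans kC), sub_quotient_pre ((quotientS _ hR).trans kC), sub_quotient_pre (hR.trans kP)]
  refine coprime_abelian_gen_cent1 aA (BG4.not_cyclic_of_abelem hA (hc ▸ by nlinarith [hp.out.one_lt])) aR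
    (coprimeSg hR c) fun a ha a1 => ?_
  have hD := zpowers_le.2 ha
  have cD : #(zpowers a) = p := (Nat.card_zpowers a).trans (abelem_order_p hA ha a1)
  rw [← C_zpowers]
  generalize zpowers a = D at hD cD
  have aC := norms_cent (sub_abelian_norm aA hD)
  have aR' := normsI aR aC
  have l : R ⊓ C[D] ≤ K := inf_le_left.trans hR
  obtain ⟨B, hB⟩ := abelem_splits hA hD
  have hB1 : B ≤ A := le_sup_right.trans hB.sup.le
  have cB : #B = p := by
    have := hB.card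
    rw [hc, cD, pow_two] at this
    exact Nat.eq_of_mul_eq_mul_left hp.out.pos this
  have l' : Q ⊓ C[D] ⊔ R ⊓ C[D] ≤ K := sup_le (inf_le_left.trans hQ) l
  have nil := prime_Frobenius_sol_kernel_nil (hB1.trans (normsY (normsI aQ aC) aR')) (solvableS l' hs) (cB ▸ hp.out)
    (eq_bot_iff.2 (h0 ▸ le_inf (inf_le_left.trans l') ((le_cent_sup (inf_le_left.trans (sup_le inf_le_right inf_le_right))
      inf_le_right).trans (centS hB.sup.ge))))
  have h1 : Q ⊓ C[D] ≤ C[R ⊓ C[D]] := sub_nilpotent_cent2 nil le_sup_left le_sup_right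
    (coprimeSg inf_le_left (coprimegS inf_le_left cQR))
  have q1 : ∀ X ≤ K, A ≤ N[X] → X /ᵍ Phi V ⊓ C[A /ᵍ Phi V] = ⊥ := fun X hX h => by
    rw [← coprime_quotient_cent' (hX.trans kP) aP h (coprimeSg hX c) (.inl (abelian_sol aA)), b X hX, quotient_bot]
  have cP := coprimeSg ((Phi_sub V).trans nV.1) c
  rw [← sub_quotient_pre (l.trans kP), ← sub_quotient_pre ((quotientS _ l).trans kC),
    quotient_cents2 ((quotientS _ l).trans kC) ((quotientS _ hQ).trans kC), commGC]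
  refine ward_aux _ rfl (pQ.quo _) (quotient_abelian _ aA) ((card_quotient_TI aP (coprime_TI cP)).trans hc)
    (quotientS _ hD) ((card_quotient_TI (hD.trans aP) (coprime_TI (coprimegS hD cP))).trans cD)
    (Phi_quotient_abelem pV).abelian (quotient_norms _ aR') (quotient_norms _ aQ) (quotient_norms _ aV)
    (quotient_norms _ (inf_le_left.trans nQ)) (quotient_norms _ (l.trans nV.2)) (quotient_norms _ (hQ.trans nV.2))
    (quotient_cents _ (centsC.1 inf_le_right)) (coprime_morph _ cQ) (coprime_morph _ (coprimeSg nV.1 c))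
    (coprime_morph _ (coprimeSg hQ c)) (coprime_morph _ (coprimegS inf_le_left cQR)) (coprime_morph _ (coprimeSg l c))
    (quotient_sol _ (solvableS l hs)) ?_ (q1 _ l aR') (q1 _ hQ aQ) (q1 _ nV.1 aV)
  rw [← coprime_quotient_cent' (hQ.trans kP) (hD.trans aP) (hD.trans aQ) (coprimeSg hQ (coprimegS hD c))
    (.inr (pgroup_sol pQ))]
  exact quotient_cents _ h1

end Cfsg.Agent.Sig
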